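import Groth.Agent.Lib.Nakai.UnifVan
import Groth.Agent.Lib.DepthTwist.Embed
import Groth.Agent.Lib.Curves.BaseChange

/-!
# Uniform vanishing for numerically trivial twists of powers of an ample module
-/

set_option autoImplicit false
set_option linter.style.haveILetI false
set_option linter.unusedSectionVars false
universe u

open CategoryTheory CategoryTheory.Limits AlgebraicGeometry TopologicalSpace

namespace Groth.Agent.Lib.Nakai.UnifAbs

open Groth.Agent.Lib Groth.Agent.Lib.Snapper Groth.Agent.Lib.IntTheory Groth.Agent.Lib.Nakai.Cut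
open Groth.Agent.Lib.Nakai.NTBound (NT)
open Groth.Agent.Lib.Snapper.Vanish (sym)
open Groth.Agent.Lib.TensorMod.Basic (comm assoc tensorIso leftUnit rightUnit)
open Groth.Agent.Lib.TensorMod.Invertible (isInvertible_tensorPow isInvertible_tensorMod
  isInvertible_dual tensorDualIso)
open Groth.Agent.Lib.Ample.Pow (powMul powAdd powIso pullbackPow powUnit powOne)
open Groth.Agent.Lib.TensorMod.Pullback (pb pullbackTensorIso)

variable (k : Type u) [Field k] {X : Scheme.{u}} [X.Over (Spec (CommRingCat.of k))]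

/-- Degree zero on all curves, whatever the bound on the dimension. -/
def NTA (L : X.Modules) : Prop :=
  PicF.IsInvertible L ∧ ∀ d : ℕ, topologicalKrullDim X ≤ d → NT k d L

variable [IsProper (X ↘ Spec (CommRingCat.of k))]

theorem nta_of_num {L : X.Modules} (hL : PicF.IsInvertible L) (h : Pic13.IsNumEquivZero k X L) :
    NTA k L :=
  ⟨hL, fun _ hd => NTBound.nt_of_num hd hL h⟩

include k in
theorem exists_dim_bound {H : X.Modules} (hH : CohB1.IsAmple H) :
    ∃ d : ℕ, topologicalKrullDim X ≤ d := by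
  obtain ⟨N, r, j, -, hj, hjs, -⟩ := DepthTwist.Embed.exists_embedding (k := k) hH
  haveI := hj
  exact ⟨r + 1, UnifVan.dim_le j hjs⟩

theorem infinite_case [Infinite k] {H : X.Modules} (hH : CohB1.IsAmple H) {G : X.Modules}
    (hG : Coh.IsCoh G) :
    ∃ m₀ : ℕ, ∀ L : X.Modules, NTA k L →
      (∀ m, m₀ ≤ m → ∀ q, 1 ≤ q →
        Subsingleton (Coh.HH X (CohB1.tensorMod L (CohB1.tensorMod (CohB1.tensorPow H m) G)) q)) ∧
      ∀ d : ℕ, topologicalKrullDim X ≤ d →
        FGA.eulerCharLE k X (CohB1.tensorMod L G) d = FGA.eulerCharLE k X G d := by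
  haveI := Curves.GlobalSections.isNoetherian_of_proper k X
  obtain ⟨N, r, j, hN, hj, hjs, ⟨eN⟩⟩ := DepthTwist.Embed.exists_embedding (k := k) hH
  haveI := hj
  have hO1 : CohB1.IsAmple (UnifVan.twX j 1) :=
    Ample.Pow.isAmple_of_iso eN ((Ample.Pow.isAmple_tensorPow_iff hH.1 hN).mp hH)
  have hdim := UnifVan.dim_le j hjs
  have hpd : ∀ x : X, Main.pd k x < r + 1 + 1 := fun x => by
    have h := ((Devissage.Dim.dim_closure_le isClosed_univ (Set.mem_univ x)).trans
      (Homeomorph.Set.univ X).isHomeomorph.topologicalKrullDim_eq.le).trans hdim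
    rw [dim_closure (k := k) x] at h
    have h' : Main.pd k x ≤ r + 1 := by exact_mod_cast h
    omega
  have hmain := fun b : ℕ => UnifVan.main j hjs hO1 (r + 1 + 1) (CohB1.tensorMod (CohB1.tensorPow H b) G)
    (Twist.isCoh_twist (isInvertible_tensorPow hH.1 b) hG) fun x _ => hpd x
  choose mb hmb using fun b => (hmain b).1
  refine ⟨N * (∑ b ∈ Finset.range N, (mb b).natAbs + 1), fun L hL => ⟨fun m hm q hq => ?_, fun d hd => ?_⟩⟩
  · have hLn := hL.2 (r + 1) hdim
    obtain ⟨l, b, hb, hml⟩ : ∃ l b, b < N ∧ m = N * l + b :=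
      ⟨m / N, m % N, Nat.mod_lt m hN, (Nat.div_add_mod m N).symm⟩
    have hmbl : (mb b).natAbs + 1 ≤ l := by
      have h1 := Finset.single_le_sum (f := fun b => (mb b).natAbs) (fun _ _ => Nat.zero_le _)
        (Finset.mem_range.2 hb)
      by_contra hlt
      have h2 : N * (l + 1) ≤ N * (∑ b ∈ Finset.range N, (mb b).natAbs + 1) :=
        Nat.mul_le_mul_left N (by omega)
      rw [Nat.mul_succ] at h2
      omega
    obtain ⟨el⟩ := DepthTwist.Embed.nonempty_pow_iso j ⟨eN⟩ l
    have eH : CohB1.tensorPow H m ≅ CohB1.tensorMod (CohB1.tensorPow H b) (UnifVan.twX j (l : ℤ)) :=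
      Ample.Pow.powCongr H (hml.trans (Nat.add_comm _ _)) ≪≫ powAdd H b (N * l) ≪≫
        tensorIso (Iso.refl _) ((powMul H N l).symm ≪≫ el)
    have e : CohB1.tensorMod L (CohB1.tensorMod (CohB1.tensorPow H m) G) ≅
        CohB1.tensorMod (CohB1.tensorMod L (CohB1.tensorMod (CohB1.tensorPow H b) G))
          (UnifVan.twX j (l : ℤ)) :=
      tensorIso (Iso.refl L) (tensorIso eH (Iso.refl G) ≪≫ assoc _ _ _ ≪≫
        tensorIso (Iso.refl _) (comm _ _) ≪≫ (assoc _ _ _).symm) ≪≫ (assoc _ _ _).symm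
    have := UnifVan.subsingleton_of_reg j hjs
      (Twist.isCoh_twist hL.1 (Twist.isCoh_twist (isInvertible_tensorPow hH.1 b) hG))
      (hmb b L hLn) hq (j := (l : ℤ)) (by omega)
    exact (Curves.LES.isoK k e q).toEquiv.subsingleton
  · have h0 := (UnifVan.main j hjs hO1 (r + 1 + 1) G hG fun x _ => hpd x).2 L (hL.2 (r + 1) hdim)
    have h1 : FGA.eulerCharLE k X G (r + 1) -
        FGA.eulerCharLE k X (CohB1.tensorMod L G) (r + 1) = 0 := h0
    have e1 : ∀ F : X.Modules, FGA.eulerCharLE k X F d = FGA.eulerCharLE k X F (r + 1) := fun F => by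
      rw [← Chi.euler_eq_eulerCharLE hd, Chi.euler_eq_eulerCharLE hdim]
    rw [e1, e1]
    omega

/-- Ampleness of all twists gives degree zero on all curves. -/
theorem nta_of_forall_ample {L H : X.Modules} (hL : PicF.IsInvertible L) (hH : PicF.IsInvertible H)
    (h : ∀ ν : ℕ, 0 < ν → CohB1.IsAmple (CohB1.tensorMod (CohB1.tensorPow L ν) H) ∧
      CohB1.IsAmple (CohB1.tensorMod (CohB1.tensorPow (TensorMod.Dual.dual L) ν) H)) :
    NTA k L := by
  refine ⟨hL, fun d hd => ⟨hL, fun z hz => ?_⟩⟩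
  have h1 := NefConv.nef_of_forall_ample (k := k) (N := d) hd hL hH (fun ν hν => (h ν hν).1) z hz
  have h2 := NefConv.nef_of_forall_ample (k := k) (N := d) hd (isInvertible_dual hL) hH
    (fun ν hν => (h ν hν).2) z hz
  have hl : ∀ M ∈ ([] : List X.Modules), PicF.IsInvertible M := fun M hM => by simp at hM
  have hy : Main.pd k z ≤ ([] : List X.Modules).length + 1 := by simp [hz]
  have hO := PicLoc.isInvertible_structureModule X
  have hsame : ∀ {A B : X.Modules}, (A ≅ B) → ip k d [A] z = ip k d [B] z := fun i => by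
    simp only [ip, List.length_singleton]
    rw [IntNum.sym_cons_iso i]
  have h3 := ip_tensor (k := k) hd hL (isInvertible_dual hL) hl hy
  have h4 := ip_tensor (k := k) hd hO hO hl hy
  rw [hsame (tensorDualIso hL)] at h3
  rw [hsame (leftUnit (Coh.structureModule X))] at h4
  omega

theorem forall_ample {L H : X.Modules} (hL : NTA k L) (hH : CohB1.IsAmple H) (ν : ℕ) (hν : 0 < ν) :
    CohB1.IsAmple (CohB1.tensorMod (CohB1.tensorPow L ν) H) ∧
      CohB1.IsAmple (CohB1.tensorMod (CohB1.tensorPow (TensorMod.Dual.dual L) ν) H) := by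
  obtain ⟨d, hd⟩ := exists_dim_bound k hH
  have hn := hL.2 d hd
  have hn' := NTBound.nt_inv (k := k) hd hn (isInvertible_dual hL.1) (tensorDualIso hL.1)
  constructor
  · exact Ample.Pow.isAmple_of_iso (tensorIso (Iso.refl _) (powOne H))
      (Kleiman.isAmple_tensor (k := k) hd hL.1 (NTBound.nef hd hn) hH hν one_pos)
  · exact Ample.Pow.isAmple_of_iso (tensorIso (Iso.refl _) (powOne H))
      (Kleiman.isAmple_tensor (k := k) hd hn'.1 (NTBound.nef hd hn') hH hν one_pos)

/-- **Uniform vanishing and invariance of `χ`.** -/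
theorem exists_vanishing {H : X.Modules} (hH : CohB1.IsAmple H) {G : X.Modules} (hG : Coh.IsCoh G) :
    ∃ m₀ : ℕ, ∀ L : X.Modules, NTA k L →
      (∀ m, m₀ ≤ m → ∀ q, 1 ≤ q →
        Subsingleton (Coh.HH X (CohB1.tensorMod L (CohB1.tensorMod (CohB1.tensorPow H m) G)) q)) ∧
      ∀ d : ℕ, topologicalKrullDim X ≤ d →
        FGA.eulerCharLE k X (CohB1.tensorMod L G) d = FGA.eulerCharLE k X G d := by
  haveI := Curves.GlobalSections.isNoetherian_of_proper k X
  let K := AlgebraicClosure k
  let f := X ↘ Spec (CommRingCat.of k)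
  let a := Spec.map (CommRingCat.ofHom (algebraMap k K))
  let g := pullback.fst f a
  letI : (pullback f a).Over (Spec (CommRingCat.of K)) := ⟨pullback.snd f a⟩
  have hP : IsPullback g (pullback f a ↘ Spec (CommRingCat.of K)) f a := IsPullback.of_hasPullback f a
  haveI := Curves.BaseChange.isProper hP
  haveI := Curves.GlobalSections.isNoetherian_of_proper K (pullback f a)
  haveI : IsAffineHom g :=
    MorphismProperty.of_isPullback hP.flip (isAffineHom_of_isAffine a)
  haveI : Flat g := MorphismProperty.of_isPullback hP.flip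
    ((HasRingHomProperty.Spec_iff (P := @Flat)).2 (RingHom.flat_algebraMap_iff.2 inferInstance))
  have hqa := Ample.Pullback.isQuasiAffine_of_isAffineHom g
  have hH' : CohB1.IsAmple ((pb g).obj H) := Ample.Pullback.isAmple_pullback g hqa hH
  obtain ⟨m₀, hm₀⟩ := infinite_case K hH' (Cyc.FP.Stalk.isCoh_pullback g hG)
  refine ⟨m₀, fun L hL => ?_⟩
  have hL' : NTA K ((pb g).obj L) := by
    refine nta_of_forall_ample K (PicLoc.isInvertible_pullback g hL.1)
      (PicLoc.isInvertible_pullback g hH.1) fun ν hν => ?_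
    obtain ⟨h1, h2⟩ := forall_ample k hL hH ν hν
    refine ⟨Ample.Pow.isAmple_of_iso ?_ (Ample.Pullback.isAmple_pullback g hqa h1),
      Ample.Pow.isAmple_of_iso ?_ (Ample.Pullback.isAmple_pullback g hqa h2)⟩
    · exact pullbackTensorIso g _ _ ≪≫ tensorIso (pullbackPow g L ν) (Iso.refl _)
    · exact pullbackTensorIso g _ _ ≪≫ tensorIso (pullbackPow g _ ν ≪≫ powIso (PosLin.Volume.inverseIso
        (PicLoc.isInvertible_pullback g hL.1)
        ((pullbackTensorIso g _ _).symm ≪≫ (pb g).mapIso (comm _ _ ≪≫ tensorDualIso hL.1) ≪≫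
          PicLoc.pullbackStructureIso g)) ν) (Iso.refl _)
  obtain ⟨hv, hc⟩ := hm₀ _ hL'
  have hrank : ∀ (F : X.Modules), Coh.IsCoh F → ∀ (F' : (pullback f a).Modules), ((pb g).obj F ≅ F') →
      ∀ q : ℕ, Module.finrank K (Coh.HH (pullback f a) F' q) = Module.finrank k (Coh.HH X F q) := by
    intro F hF F' e q
    haveI := hF.1
    rw [← (Curves.LES.isoK K e q).finrank_eq]
    exact Curves.BaseChange.finrank_HH hP F q
  refine ⟨fun m hm q hq => ?_, fun d hd => ?_⟩
  · have hHm := isInvertible_tensorPow hH.1 m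
    have hF := Twist.isCoh_twist hL.1 (Twist.isCoh_twist hHm hG)
    haveI := hv m hm q hq
    have h := hrank _ hF _ (pullbackTensorIso g _ _ ≪≫ tensorIso (Iso.refl _)
      (pullbackTensorIso g _ _ ≪≫ tensorIso (pullbackPow g H m) (Iso.refl _))) q
    rw [Module.finrank_zero_of_subsingleton] at h
    haveI := Finite.cohFinite k X _ hF q
    exact Module.finrank_zero_iff.1 h.symm
  · obtain ⟨d', hd'⟩ := exists_dim_bound K hH'
    have h1 := hc (max d d') (hd'.trans (by exact_mod_cast le_max_right d d'))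
    have e : ∀ (F : X.Modules), Coh.IsCoh F → ∀ (F' : (pullback f a).Modules), ((pb g).obj F ≅ F') →
        FGA.eulerCharLE K (pullback f a) F' (max d d') = FGA.eulerCharLE k X F d := fun F hF F' i => by
      rw [← Chi.eulerCharLE_eq_of_le hd (le_max_left d d') F]
      unfold FGA.eulerCharLE
      exact Finset.sum_congr rfl fun q _ => by rw [hrank F hF F' i q]
    rwa [e _ (Twist.isCoh_twist hL.1 hG) _ (pullbackTensorIso g _ _), e G hG _ (Iso.refl _)] at h1

theorem nta_structure : NTA k (Coh.structureModule X) := by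
  have hO := PicLoc.isInvertible_structureModule X
  refine ⟨hO, fun d hd => ⟨hO, fun z hz => ?_⟩⟩
  have h4 := ip_tensor (k := k) hd hO hO (l := []) (fun M hM => by simp at hM) (y := z) (by simp [hz])
  have hsame : ∀ {A B : X.Modules}, (A ≅ B) → ip k d [A] z = ip k d [B] z := fun i => by
    simp only [ip, List.length_singleton]
    rw [IntNum.sym_cons_iso i]
  rw [hsame (leftUnit (Coh.structureModule X))] at h4
  omega

/-- Numerically trivial twists do not change `χ`. -/
theorem chi_eq {H : X.Modules} (hH : CohB1.IsAmple H) {G : X.Modules} (hG : Coh.IsCoh G)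
    {L : X.Modules} (hL : NTA k L) {d : ℕ} (hd : topologicalKrullDim X ≤ d) :
    FGA.eulerCharLE k X (CohB1.tensorMod L G) d = FGA.eulerCharLE k X G d :=
  ((exists_vanishing k hH hG).choose_spec L hL).2 d hd

/-- Numerically trivial twists do not change `h⁰` of large twists. -/
theorem exists_h0_eq {H : X.Modules} (hH : CohB1.IsAmple H) {G : X.Modules} (hG : Coh.IsCoh G) :
    ∃ m₀ : ℕ, ∀ m, m₀ ≤ m → ∀ L : X.Modules, NTA k L →
      Module.finrank k (Coh.HH X (CohB1.tensorMod L (CohB1.tensorMod (CohB1.tensorPow H m) G)) 0) =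
        Module.finrank k (Coh.HH X (CohB1.tensorMod (CohB1.tensorPow H m) G) 0) := by
  haveI := Curves.GlobalSections.isNoetherian_of_proper k X
  obtain ⟨m₀, h⟩ := exists_vanishing k hH hG
  obtain ⟨d, hd⟩ := exists_dim_bound k hH
  refine ⟨m₀, fun m hm L hL => ?_⟩
  have key : ∀ (F : X.Modules), (∀ q, 1 ≤ q → Subsingleton (Coh.HH X F q)) →
      FGA.eulerCharLE k X F d = (Module.finrank k (Coh.HH X F 0) : ℤ) := fun F hF => by
    unfold FGA.eulerCharLE
    rw [Finset.sum_eq_single 0 (fun q _ hq => ?_) (by simp)]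
    · simp
    · haveI := hF q (by omega)
      rw [Module.finrank_zero_of_subsingleton]
      simp
  have h1 := key _ ((h L hL).1 m hm)
  rw [chi_eq k hH (Twist.isCoh_twist (isInvertible_tensorPow hH.1 m) hG) hL hd,
    key _ (fun q hq =>
      haveI := (h _ (nta_structure k)).1 m hm q hq
      (Curves.LES.isoK k (leftUnit (CohB1.tensorMod (CohB1.tensorPow H m) G)) q).symm.toEquiv.subsingleton)] at h1
  exact_mod_cast h1.symm

end Groth.Agent.Lib.Nakai.UnifAbs
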