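import Groth.Agent.Lib.Nakai.Kleiman
import Groth.Agent.Lib.PosLin.Kodaira
import Groth.Agent.Lib.AssPt.Basic

/-!
# Intersection numbers on an integral scheme, and effective modules
-/

set_option autoImplicit false
set_option linter.style.haveILetI false
set_option linter.unusedSectionVars false
universe u

open CategoryTheory CategoryTheory.Limits AlgebraicGeometry TopologicalSpace

namespace Groth.Agent.Lib.Nakai.Top

open Groth.Agent.Lib Groth.Agent.Lib.Snapper Groth.Agent.Lib.IntTheory Groth.Agent.Lib.Nakai.Cut
open Groth.Agent.Lib.Nakai.Kleiman (Nef mixList)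
open Groth.Agent.Lib.Snapper.Vanish (sym sym_cons sym_of_iso)
open Groth.Agent.Lib.TensorMod.Basic (comm assoc tensorIso leftUnit rightUnit)
open Groth.Agent.Lib.TensorMod.Invertible (isInvertible_tensorPow isInvertible_tensorMod
  isInvertible_dual tensorDualIso)

variable {k : Type u} [Field k] {X : Scheme.{u}} [X.Over (Spec (CommRingCat.of k))]
  [IsProper (X ↘ Spec (CommRingCat.of k))] [IsIntegral X] {n : ℕ}
  (hn : topologicalKrullDim X = (n : ℕ))

include hn

theorem pd_generic : Main.pd k (genericPoint X) = n := by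
  have h := VarDim.Basic.topologicalKrullDim_irreducibleSpace (X ↘ Spec (CommRingCat.of k))
  rw [hn] at h
  exact_mod_cast h.symm

/-- The fundamental class is that of the structure sheaf. -/
theorem sym_generic {l : List X.Modules} (hl : ∀ M ∈ l, PicF.IsInvertible M) (hlen : l.length = n) :
    sym k X n l (Cyc.closureStructureSheaf (genericPoint X)) =
      sym k X n l (Coh.structureModule X) := by
  haveI := Curves.GlobalSections.isNoetherian_of_proper k X
  set η := genericPoint X
  have hfin := Finite.cohFinite k X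
  have hT : topologicalKrullDim ((⊤ : Closeds X) : Set X) ≤ (n : WithBot ℕ∞) :=
    (Homeomorph.Set.univ X).isHomeomorph.topologicalKrullDim_eq.le.trans hn.le
  rw [Additive.eq_sum (Additive.isAdd_sym hfin hn.le hl)
    (Additive.vanishBelow_sym hfin hn.le hl hlen) (Twist.isCoh_structureModule X)
    (T := ⊤) (Set.subset_univ _) hT]
  have hη : η ∈ Additive.topPts ((⊤ : Closeds X) : Set X) n :=
    ⟨trivial, (dim_closure (k := k) η).trans (congrArg Nat.cast (pd_generic (k := k) hn))⟩
  rw [Finset.sum_eq_single_of_mem η ((Set.Finite.mem_toFinset _).2 hη) fun z hz hne => by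
    exact absurd (Additive.maximal_of_topPts (⊤ : Closeds X).isClosed hT
      ((Set.Finite.mem_toFinset _).1 hz) η trivial
      ((genericPoint_spec X).specializes (Set.mem_univ z))).symm hne]
  have h1 : Module.length (X.presheaf.stalk η) ((Coh.structureModule X).presheaf.stalk η) = 1 := by
    rw [← (AssPt.Basic.unitStalkEquiv η).length_eq]
    let _ : Field (X.presheaf.stalk η) := inferInstanceAs (Field X.functionField)
    exact Module.length_eq_one _ _
  rw [h1]
  simp

theorem ip_generic {l : List X.Modules} (hl : ∀ M ∈ l, PicF.IsInvertible M) (hlen : l.length = n) :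
    ip k n l (genericPoint X) = (-1 : ℤ) ^ n * sym k X n l (Coh.structureModule X) := by
  rw [ip, sym_generic hn hl hlen, hlen]

end Groth.Agent.Lib.Nakai.Top

namespace Groth.Agent.Lib.Nakai.Top

open Groth.Agent.Lib Groth.Agent.Lib.Snapper Groth.Agent.Lib.IntTheory Groth.Agent.Lib.Nakai.Cut
open Groth.Agent.Lib.Nakai.Kleiman (Nef mixList)
open Groth.Agent.Lib.Snapper.Vanish (sym sym_cons sym_of_iso)
open Groth.Agent.Lib.TensorMod.Basic (comm assoc tensorIso leftUnit rightUnit)
open Groth.Agent.Lib.TensorMod.Invertible (isInvertible_tensorPow isInvertible_tensorMod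
  isInvertible_dual tensorDualIso)

variable {k : Type u} [Field k] {X : Scheme.{u}} [X.Over (Spec (CommRingCat.of k))]
  [IsProper (X ↘ Spec (CommRingCat.of k))] {N : ℕ} (hN : topologicalKrullDim X ≤ N)

include hN

/-- An additive sum over the components of a coherent module. -/
theorem nonneg_of_points {l : List X.Modules} (hl : ∀ M ∈ l, PicF.IsInvertible M) {F : X.Modules}
    (hF : Coh.IsCoh F) (hdim : topologicalKrullDim (CohB1.support F) ≤ l.length)
    (h : ∀ z : X, Main.pd k z = l.length → 0 ≤ ip k N l z) :
    0 ≤ (-1 : ℤ) ^ l.length * sym k X N l F := by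
  haveI := Curves.GlobalSections.isNoetherian_of_proper k X
  have := hF.2
  rw [Additive.eq_sum (Additive.isAdd_sym (Finite.cohFinite k X) hN hl)
    (Additive.vanishBelow_sym (Finite.cohFinite k X) hN hl rfl) hF
    (T := ⟨_, Modules.Support.isClosed_support F⟩) subset_rfl hdim, Finset.mul_sum]
  refine Finset.sum_nonneg fun z hz => ?_
  obtain ⟨-, hzd⟩ := (Set.Finite.mem_toFinset _).1 hz
  rw [mul_left_comm]
  exact mul_nonneg (Int.natCast_nonneg _)
    (h z (by rw [dim_closure (k := k) z] at hzd; exact_mod_cast hzd))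

end Groth.Agent.Lib.Nakai.Top

namespace Groth.Agent.Lib.Nakai.Top

open Groth.Agent.Lib Groth.Agent.Lib.Snapper Groth.Agent.Lib.IntTheory Groth.Agent.Lib.Nakai.Cut
open Groth.Agent.Lib.Nakai.Kleiman (Nef mixList)
open Groth.Agent.Lib.Snapper.Vanish (sym sym_cons sym_of_iso)
open Groth.Agent.Lib.TensorMod.Basic (comm assoc tensorIso leftUnit rightUnit)
open Groth.Agent.Lib.TensorMod.Invertible (isInvertible_tensorPow isInvertible_tensorMod
  isInvertible_dual tensorDualIso)

variable {k : Type u} [Field k] {X : Scheme.{u}} [X.Over (Spec (CommRingCat.of k))]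
  [IsProper (X ↘ Spec (CommRingCat.of k))] [IsIntegral X] {e : ℕ}
  (hn : topologicalKrullDim X = (e + 1 : ℕ))

include hn

include k in
/-- The divisor sequence of a nonzero section: a cokernel of smaller dimension. -/
theorem exists_divisor {E : X.Modules} (hE : PicF.IsInvertible E) (s : Coh.structureModule X ⟶ E)
    (hs : s ≠ 0) :
    ∃ (S : ShortComplex X.Modules), S.ShortExact ∧ S.X₁ = Coh.structureModule X ∧ S.X₂ = E ∧
      Coh.IsCoh S.X₃ ∧ topologicalKrullDim (CohB1.support S.X₃) ≤ e := by
  haveI := Curves.GlobalSections.isNoetherian_of_proper k X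
  haveI : Mono s :=
    Curves.Positivity.mono_of_ne_zero (PicLoc.isInvertible_structureModule X) hE hs
  have hcoh : Coh.IsCoh (cokernel s) := CohBasics.Closure.isCoh_cokernel s
    (Twist.isCoh_structureModule X).1 (Ample.GG.isCoh_of_isInvertible hE)
  refine ⟨_, Devissage.Basic.exists_ses_mono s, rfl, rfl, hcoh, ?_⟩
  have := hcoh.2
  refine PosLin.Kodaira.dim_le_of_notMem (k := k) (Modules.Support.isClosed_support (cokernel s))
    (fun h => ?_) hn
  obtain ⟨U, hU, hxU⟩ : ∃ U : X.Opens, IsIso ((Scheme.Modules.restrictFunctor U.ι).map s) ∧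
      genericPoint X ∈ U := Opens.mem_sSup.1 (PosLin.TopVanish.genericPoint_mem_genLocus hE hs)
  have hz : IsZero ((Scheme.Modules.restrictFunctor U.ι).obj (cokernel s)) := by
    refine IsZero.of_iso ?_ (PreservesCokernel.iso (Scheme.Modules.restrictFunctor U.ι) s)
    exact isZero_cokernel_of_epi _
  have he := Modules.Support.support_eq_empty_iff.2 hz
  rw [show (Scheme.Modules.restrictFunctor U.ι).obj (cokernel s) = (cokernel s).restrict U.ι from rfl,
    Modules.Support.support_restrict] at he
  exact Set.eq_empty_iff_forall_notMem.1 he ⟨_, hxU⟩ h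

/-- The intersection number of a module with a section, on the divisor of the section. -/
theorem ip_section {E : X.Modules} {S : ShortComplex X.Modules}
    (hS : S.ShortExact) (h₁ : S.X₁ = Coh.structureModule X) (h₂ : S.X₂ = E) (h₃ : Coh.IsCoh S.X₃)
    (hE : PicF.IsInvertible E) {l : List X.Modules} (hl : ∀ M ∈ l, PicF.IsInvertible M)
    (hlen : l.length = e) :
    ip k (e + 1) (E :: l) (genericPoint X) = (-1 : ℤ) ^ e * sym k X (e + 1) l S.X₃ := by
  haveI := Curves.GlobalSections.isNoetherian_of_proper k X
  have hEl : ∀ M ∈ E :: l, PicF.IsInvertible M := List.forall_mem_cons.2 ⟨hE, hl⟩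
  rw [ip_generic hn hEl (by rw [List.length_cons, hlen]), sym_cons,
    sym_of_iso l (rightUnit E)]
  have hadd := (Additive.isAdd_sym (Finite.cohFinite k X) hn.le hl).add hS
    (h₁ ▸ Twist.isCoh_structureModule X) (h₂ ▸ Ample.GG.isCoh_of_isInvertible hE) h₃
  rw [h₁, h₂] at hadd
  rw [hadd]
  ring

/-- A module with a section is nonnegative against nef and ample modules. -/
theorem ip_section_nonneg {L H E : X.Modules} (hL : PicF.IsInvertible L)
    (hnef : Nef k (e + 1) L) (hH : CohB1.IsAmple H) (hE : PicF.IsInvertible E)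
    (s : Coh.structureModule X ⟶ E) (hs : s ≠ 0) {i j : ℕ} (hij : i + j = e) :
    0 ≤ ip k (e + 1) (E :: mixList L H i j) (genericPoint X) := by
  obtain ⟨S, hS, h₁, h₂, h₃, hdim⟩ := exists_divisor (k := k) hn hE s hs
  have hlen : (mixList L H i j).length = e := (Kleiman.length_mixList L H i j).trans hij
  have hl := Kleiman.mixList_invertible hL hH.1 i j
  rw [ip_section (k := k) hn hS h₁ h₂ h₃ hE hl hlen]
  have h := nonneg_of_points (k := k) (N := e + 1) hn.le hl h₃ (by rw [hlen]; exact hdim)
    fun z hz => Kleiman.mixed_nonneg (k := k) hn.le hL hnef _ z rfl H hH.1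
      (ampleAt_of_isAmple hH z) i j (by rw [hz, hlen, hij])
  rwa [hlen] at h

/-- **Big and nef modules have positive self-intersection.** -/
theorem ip_pos_of_mono {L A : X.Modules} (hL : PicF.IsInvertible L) (hnef : Nef k (e + 1) L)
    (hA : CohB1.IsAmple A) {ν : ℕ} (φ : A ⟶ CohB1.tensorPow L ν) [Mono φ] :
    0 < ip k (e + 1) (List.replicate (e + 1) L) (genericPoint X) := by
  haveI := Curves.GlobalSections.isNoetherian_of_proper k X
  have hLν := isInvertible_tensorPow hL ν
  set E := CohB1.tensorMod (TensorMod.Dual.dual A) (CohB1.tensorPow L ν)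
  have hE : PicF.IsInvertible E := isInvertible_tensorMod (isInvertible_dual hA.1) hLν
  obtain ⟨s, hs⟩ := PosLin.Kodaira.exists_section (k := k)
    (PosLin.Kodaira.h0_pos_of_mono (k := k) hA.1 hLν φ)
  let eAE : CohB1.tensorMod A E ≅ CohB1.tensorPow L ν :=
    (assoc _ _ _).symm ≪≫ tensorIso (tensorDualIso hA.1) (Iso.refl _) ≪≫ leftUnit _
  have hpd := pd_generic (k := k) hn
  have key : ∀ i j, i + j = e + 1 → 0 < ip k (e + 1) (mixList L A i j) (genericPoint X) := by
    intro i
    induction i with
    | zero =>
      intro j hj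
      obtain rfl : j = e + 1 := by omega
      exact Kleiman.ip_replicate_pos (k := k) hn.le hA.1 _ _ hpd (ampleAt_of_isAmple hA _)
    | succ i ih =>
      intro j hj
      have hl := Kleiman.mixList_invertible hL hA.1 i j
      have hlen : Main.pd k (genericPoint X) ≤ (mixList L A i j).length + 1 := by
        rw [hpd, Kleiman.length_mixList]; omega
      have hA' : 0 < ip k (e + 1) (A :: mixList L A i j) (genericPoint X) := by
        rw [← ip_perm (k := k) (Kleiman.mixList_perm_right L A i j)]
        exact ih (j + 1) (by omega)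
      have hE' := ip_section_nonneg (k := k) hn hL hnef hA hE s hs (i := i) (j := j) (by omega)
      have heq : (ν : ℤ) * ip k (e + 1) (L :: mixList L A i j) (genericPoint X) =
          ip k (e + 1) (A :: mixList L A i j) (genericPoint X) +
            ip k (e + 1) (E :: mixList L A i j) (genericPoint X) := by
        rw [← ip_pow (k := k) hn.le hL hl hlen ν, ← ip_tensor (k := k) hn.le hA.1 hE hl hlen]
        simp only [ip, List.length_cons]
        rw [IntNum.sym_cons_iso eAE]
      have hpos : 0 < (ν : ℤ) * ip k (e + 1) (L :: mixList L A i j) (genericPoint X) := by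
        rw [heq]; omega
      have := pos_of_mul_pos_right hpos (Int.natCast_nonneg ν)
      rwa [show mixList L A (i + 1) j = L :: mixList L A i j from rfl]
  have := key (e + 1) 0 rfl
  rwa [show mixList L A (e + 1) 0 = List.replicate (e + 1) L from List.append_nil _] at this

end Groth.Agent.Lib.Nakai.Top
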