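import Mathlib

/-!
# Kleiman's real-variable argument

Given mixed numbers `a i j` (`i + j = d`, to be thought of as `(L^i · H^j)`), the polynomial
`mixPoly a c i j t` stands for `((L + tH)^c · L^i · H^j)`.
-/

set_option autoImplicit false

namespace Groth.Agent.Lib.Nakai.MixPoly

/-- `((L + tH)^c · L^i · H^j)` from the mixed numbers. -/
def mixPoly (a : ℕ → ℕ → ℝ) : ℕ → ℕ → ℕ → ℝ → ℝ
  | 0, i, j, _ => a i j
  | c + 1, i, j, t => mixPoly a c (i + 1) j t + t * mixPoly a c i (j + 1) t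

theorem mixPoly_succ (a : ℕ → ℕ → ℝ) (c i j : ℕ) (t : ℝ) :
    mixPoly a (c + 1) i j t = mixPoly a c (i + 1) j t + t * mixPoly a c i (j + 1) t := rfl

theorem continuous_mixPoly (a : ℕ → ℕ → ℝ) :
    ∀ c i j, Continuous (mixPoly a c i j)
  | 0, i, j => continuous_const (y := a i j)
  | c + 1, i, j =>
    (continuous_mixPoly a c (i + 1) j).add (continuous_id.mul (continuous_mixPoly a c i (j + 1)))

theorem mixPoly_zero (a : ℕ → ℕ → ℝ) : ∀ c i j, mixPoly a c i j 0 = a (c + i) j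
  | 0, i, j => by simp [mixPoly]
  | c + 1, i, j => by
    rw [mixPoly_succ, zero_mul, add_zero, mixPoly_zero a c (i + 1) j]
    congr 1; omega

variable {a : ℕ → ℕ → ℝ} {d : ℕ}

theorem mixPoly_nonneg {t : ℝ} (ht : 0 ≤ t) : ∀ c i j, c + i + j = d →
    (∀ i' j', i' + j' = d → j ≤ j' → 0 ≤ a i' j') → 0 ≤ mixPoly a c i j t
  | 0, i, j, h, ha => ha i j (by omega) le_rfl
  | c + 1, i, j, h, ha =>
    add_nonneg (mixPoly_nonneg ht c (i + 1) j (by omega) ha)
      (mul_nonneg ht (mixPoly_nonneg ht c i (j + 1) (by omega) fun i' j' h' hj =>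
        ha i' j' h' (by omega)))

theorem mixPoly_mono (ha : ∀ i' j', i' + j' = d → 1 ≤ j' → 0 ≤ a i' j') {s t : ℝ} (hs : 0 ≤ s)
    (hst : s ≤ t) : ∀ c i j, c + i + j = d → mixPoly a c i j s ≤ mixPoly a c i j t
  | 0, i, j, _ => le_refl (a i j)
  | c + 1, i, j, h => by
    rw [mixPoly_succ, mixPoly_succ]
    refine add_le_add (mixPoly_mono ha hs hst c (i + 1) j (by omega)) ?_
    exact mul_le_mul hst (mixPoly_mono ha hs hst c i (j + 1) (by omega))
      (mixPoly_nonneg hs c i (j + 1) (by omega) fun i' j' h' hj => ha i' j' h' (by omega))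
      (hs.trans hst)

theorem mixPoly_pos {t : ℝ} (ht : 0 < t) : ∀ c j, c + j = d →
    (∀ i' j', i' + j' = d → j ≤ j' → 0 ≤ a i' j') → 0 < a 0 d → 0 < mixPoly a c 0 j t
  | 0, j, h, _, hd => by
    obtain rfl : j = d := by omega
    exact hd
  | c + 1, j, h, ha, hd => by
    rw [mixPoly_succ]
    exact add_pos_of_nonneg_of_pos (mixPoly_nonneg ht.le c 1 j (by omega) ha)
      (mul_pos ht (mixPoly_pos ht c (j + 1) (by omega) (fun i' j' h' hj => ha i' j' h' (by omega)) hd))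

/-- Kleiman's argument: the top self-intersection cannot be negative. -/
theorem nonneg_top (a : ℕ → ℕ → ℝ) (e : ℕ)
    (ha : ∀ i j, i + j = e + 1 → 1 ≤ j → 0 ≤ a i j) (hpos : 0 < a 0 (e + 1))
    (hkey : ∀ p b : ℕ, 0 < p → 0 < b → 0 < mixPoly a (e + 1) 0 0 ((p : ℝ) / b) →
      0 ≤ mixPoly a e 1 0 ((p : ℝ) / b)) :
    0 ≤ a (e + 1) 0 := by
  by_contra hlt
  rw [not_le] at hlt
  set q := mixPoly a e 1 0 with hq
  set r := mixPoly a e 0 1 with hr
  have hf : ∀ t, mixPoly a (e + 1) 0 0 t = q t + t * r t := fun t => rfl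
  have hf0 : mixPoly a (e + 1) 0 0 0 = a (e + 1) 0 := mixPoly_zero a (e + 1) 0 0
  have hqmono : ∀ {s t : ℝ}, 0 ≤ s → s ≤ t → q s ≤ q t := fun hs hst =>
    mixPoly_mono ha hs hst e 1 0 (by omega)
  have hrmono : ∀ {s t : ℝ}, 0 ≤ s → s ≤ t → r s ≤ r t := fun hs hst =>
    mixPoly_mono ha hs hst e 0 1 (by omega)
  have hrpos : ∀ {t : ℝ}, 0 < t → 0 < r t := fun ht =>
    mixPoly_pos ht e 1 (by omega) ha hpos
  set T : ℝ := 1 + |q 0| / r 1 with hT
  have hr1 := hrpos one_pos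
  have hdiv : 0 ≤ |q 0| / r 1 := by positivity
  have hT1 : (1 : ℝ) ≤ T := by rw [hT]; linarith
  have hT0 : (0 : ℝ) ≤ T := by linarith
  have hfT : 0 < mixPoly a (e + 1) 0 0 T := by
    rw [hf]
    have h1 : q 0 ≤ q T := hqmono le_rfl hT0
    have h2 : r 1 ≤ r T := hrmono zero_le_one hT1
    have h3 : T * r 1 ≤ T * r T := mul_le_mul_of_nonneg_left h2 hT0
    have h4 : T * r 1 = r 1 + |q 0| := by rw [hT]; field_simp
    linarith [neg_abs_le (q 0)]
  obtain ⟨t₀, ht₀, hft₀⟩ := intermediate_value_Icc hT0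
    (continuous_mixPoly a (e + 1) 0 0).continuousOn
    (show (0 : ℝ) ∈ Set.Icc _ _ from ⟨by rw [hf0]; exact hlt.le, hfT.le⟩)
  have ht₀pos : 0 < t₀ := by
    rcases ht₀.1.lt_or_eq with h | h
    · exact h
    · rw [← h, hf0] at hft₀; linarith
  rw [hf] at hft₀
  have hgt : ∀ t, t₀ < t → 0 < mixPoly a (e + 1) 0 0 t := fun t ht => by
    rw [hf]
    have h1 : q t₀ ≤ q t := hqmono ht₀pos.le ht.le
    have h2 : r t₀ ≤ r t := hrmono ht₀pos.le ht.le
    have h3 : t₀ * r t₀ < t * r t₀ := mul_lt_mul_of_pos_right ht (hrpos ht₀pos)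
    have h4 : t * r t₀ ≤ t * r t := mul_le_mul_of_nonneg_left h2 (ht₀pos.trans ht).le
    linarith
  have hqt₀ : 0 ≤ q t₀ := by
    by_contra hneg
    rw [not_le] at hneg
    obtain ⟨δ, hδ, hδ'⟩ := Metric.mem_nhds_iff.1
      ((continuous_mixPoly a e 1 0).continuousAt.preimage_mem_nhds (Iio_mem_nhds hneg))
    obtain ⟨x, hx₀, hx₁⟩ := exists_rat_btwn (lt_add_of_pos_right t₀ hδ)
    have hxpos : (0 : ℝ) < x := ht₀pos.trans hx₀
    have hnum : 0 < x.num := Rat.num_pos.2 (by exact_mod_cast hxpos)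
    have hxe : ((x.num.toNat : ℝ) / (x.den : ℝ)) = (x : ℝ) := by
      rw [Rat.cast_def]
      congr 1
      have : ((x.num.toNat : ℤ)) = x.num := Int.toNat_of_nonneg hnum.le
      exact_mod_cast this
    have h := hkey x.num.toNat x.den (by omega) x.den_pos (by rw [hxe]; exact hgt _ hx₀)
    rw [hxe] at h
    have hmem : (x : ℝ) ∈ Metric.ball t₀ δ := by
      rw [Metric.mem_ball, Real.dist_eq, abs_of_pos (sub_pos.2 hx₀)]
      linarith
    exact absurd (hδ' hmem) (not_lt.2 h)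
  nlinarith [hrpos ht₀pos]

end Groth.Agent.Lib.Nakai.MixPoly
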