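import Groth.Agent.Lib.Nakai.Cut
import Groth.Agent.Lib.Nakai.MixPoly

/-!
# Kleiman's theorem: intersection numbers of nef modules are nonnegative
-/

set_option autoImplicit false
set_option linter.style.haveILetI false
set_option linter.unusedSectionVars false
universe u

open CategoryTheory CategoryTheory.Limits AlgebraicGeometry TopologicalSpace

namespace Groth.Agent.Lib.Nakai.Kleiman

open Groth.Agent.Lib Groth.Agent.Lib.Nakai.Cut Groth.Agent.Lib.Nakai.MixPoly
open Groth.Agent.Lib.TensorMod.Invertible (isInvertible_tensorPow)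

/-- Nonnegative degree on every curve. -/
def Nef (k : Type u) [Field k] {X : Scheme.{u}} [X.Over (Spec (CommRingCat.of k))] (N : ℕ)
    (L : X.Modules) : Prop :=
  ∀ z : X, Main.pd k z = 1 → 0 ≤ ip k N [L] z

/-- `i` copies of `L` followed by `j` copies of `H`. -/
noncomputable abbrev mixList {X : Scheme.{u}} (L H : X.Modules) (i j : ℕ) : List X.Modules :=
  List.replicate i L ++ List.replicate j H

theorem mixList_invertible {X : Scheme.{u}} {L H : X.Modules} (hL : PicF.IsInvertible L)
    (hH : PicF.IsInvertible H) (i j : ℕ) : ∀ M ∈ mixList L H i j, PicF.IsInvertible M := fun M hM => by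
  rcases List.mem_append.1 hM with h | h
  · exact List.eq_of_mem_replicate h ▸ hL
  · exact List.eq_of_mem_replicate h ▸ hH

theorem length_mixList {X : Scheme.{u}} (L H : X.Modules) (i j : ℕ) :
    (mixList L H i j).length = i + j := by simp [mixList]

theorem mixList_perm_right {X : Scheme.{u}} (L H : X.Modules) (i j : ℕ) :
    (mixList L H i (j + 1)).Perm (H :: mixList L H i j) :=
  List.perm_middle

variable {k : Type u} [Field k] {X : Scheme.{u}} [X.Over (Spec (CommRingCat.of k))]
  [IsProper (X ↘ Spec (CommRingCat.of k))] {N : ℕ} (hN : topologicalKrullDim X ≤ N)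

/-- The mixed intersection numbers as reals. -/
noncomputable def mix (k : Type u) [Field k] {X : Scheme.{u}} [X.Over (Spec (CommRingCat.of k))]
    (N : ℕ) (L H : X.Modules) (y : X) : ℕ → ℕ → ℝ :=
  fun i j => (ip k N (mixList L H i j) y : ℝ)

include hN

/-- The self-intersections of `L^b ⊗ H^p`, mixed with `L` and `H`. -/
theorem ip_mix {L H : X.Modules} (hL : PicF.IsInvertible L) (hH : PicF.IsInvertible H)
    {b : ℕ} (p : ℕ) (hb : 0 < b) (y : X) :
    ∀ c i j, c + i + j = Main.pd k y →
      (ip k N (List.replicate c (CohB1.tensorMod (CohB1.tensorPow L b) (CohB1.tensorPow H p)) ++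
          mixList L H i j) y : ℝ) =
        (b : ℝ) ^ c * mixPoly (mix k N L H y) c i j ((p : ℝ) / b)
  | 0, i, j, _ => by
    rw [List.replicate_zero, List.nil_append, pow_zero, one_mul]
    rfl
  | c + 1, i, j, h => by
    set M := CohB1.tensorMod (CohB1.tensorPow L b) (CohB1.tensorPow H p)
    have hM : PicF.IsInvertible M :=
      TensorMod.Invertible.isInvertible_tensorMod (isInvertible_tensorPow hL b) (isInvertible_tensorPow hH p)
    have hl : ∀ Q ∈ List.replicate c M ++ mixList L H i j, PicF.IsInvertible Q := fun Q hQ => by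
      rcases List.mem_append.1 hQ with h | h
      · exact List.eq_of_mem_replicate h ▸ hM
      · exact mixList_invertible hL hH i j Q h
    have hlen : (List.replicate c M ++ mixList L H i j).length + 1 = Main.pd k y := by
      rw [List.length_append, List.length_replicate, length_mixList]; omega
    rw [List.replicate_succ, List.cons_append,
      ip_tensor (k := k) hN (isInvertible_tensorPow hL b) (isInvertible_tensorPow hH p) hl hlen.ge,
      ip_pow (k := k) hN hL hl hlen.ge b, ip_pow (k := k) hN hH hl hlen.ge p]
    have eL : ip k N (L :: (List.replicate c M ++ mixList L H i j)) y =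
        ip k N (List.replicate c M ++ mixList L H (i + 1) j) y :=
      ip_perm (k := k) (by
        rw [mixList, mixList, List.replicate_succ, List.cons_append]
        exact List.perm_middle.symm) y
    have eH : ip k N (H :: (List.replicate c M ++ mixList L H i j)) y =
        ip k N (List.replicate c M ++ mixList L H i (j + 1)) y :=
      ip_perm (k := k)
        (List.perm_middle.symm.trans ((mixList_perm_right L H i j).symm.append_left _)) y
    rw [eL, eH]
    push_cast
    rw [ip_mix hL hH p hb y c (i + 1) j (by omega), ip_mix hL hH p hb y c i (j + 1) (by omega),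
      mixPoly_succ]
    have : (b : ℝ) ≠ 0 := by exact_mod_cast hb.ne'
    field_simp
    ring

/-- Positivity of the self-intersection of a module ample on the closure. -/
theorem ip_replicate_pos {H : X.Modules} (hH : PicF.IsInvertible H) :
    ∀ (d : ℕ) (y : X), Main.pd k y = d → AmpleAt H y → 0 < ip k N (List.replicate d H) y
  | 0, y, hy, _ => ip_nil_pos (k := k) hN hy
  | d + 1, y, hy, hamp => by
    rw [List.replicate_succ]
    refine cut_pos (k := k) hN (fun M hM => List.eq_of_mem_replicate hM ▸ hH) hH
      (by rw [List.length_replicate]; exact hy) hamp fun z hyz hz => ?_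
    rw [List.length_replicate] at hz
    exact ip_replicate_pos hH d z hz (ampleAt_specializes hamp hyz)

/-- **Kleiman.** Mixed intersection numbers of a nef and an ample module are nonnegative. -/
theorem mixed_nonneg {L : X.Modules} (hL : PicF.IsInvertible L) (hnef : Nef k N L) :
    ∀ (d : ℕ) (y : X), Main.pd k y = d → ∀ H : X.Modules, PicF.IsInvertible H → AmpleAt H y →
      ∀ i j, i + j = d → 0 ≤ ip k N (mixList L H i j) y := by
  intro d
  induction d using Nat.strong_induction_on with
  | _ d ih =>
  intro y hy H hH hamp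
  have hmixed : ∀ i j, i + j = d → 1 ≤ j → 0 ≤ ip k N (mixList L H i j) y := by
    intro i j hij hj
    obtain ⟨j, rfl⟩ : ∃ j', j = j' + 1 := ⟨j - 1, by omega⟩
    rw [ip_perm (k := k) (mixList_perm_right L H i j) y]
    refine cut_nonneg (k := k) hN (mixList_invertible hL hH i j) hH
      (by rw [length_mixList]; omega) hamp fun z hyz hz => ?_
    rw [length_mixList] at hz
    exact ih (i + j) (by omega) z hz H hH (ampleAt_specializes hamp hyz) i j rfl
  intro i j hij
  rcases Nat.eq_zero_or_pos j with rfl | hj
  swap
  · exact hmixed i j hij hj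
  obtain rfl : i = d := by omega
  rcases i with _ | _ | e
  · exact (ip_nil_pos (k := k) hN hy).le
  · exact hnef y hy
  have hd : e + 1 + 1 = Main.pd k y := hy.symm
  have key := nonneg_top (mix k N L H y) (e + 1)
    (fun i j hij hj => Int.cast_nonneg (hmixed i j hij hj))
    (by
      show (0 : ℝ) < ((ip k N (mixList L H 0 (e + 1 + 1)) y : ℤ) : ℝ)
      exact Int.cast_pos.2 (ip_replicate_pos (k := k) hN hH _ y hy hamp))
    (fun p b hp hb hf => ?_)
  · exact (Int.cast_nonneg_iff (R := ℝ)).1 key
  set M := CohB1.tensorMod (CohB1.tensorPow L b) (CohB1.tensorPow H p)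
  have hM : PicF.IsInvertible M :=
    TensorMod.Invertible.isInvertible_tensorMod (isInvertible_tensorPow hL b) (isInvertible_tensorPow hH p)
  have hbR : (0 : ℝ) < b := by exact_mod_cast hb
  have htR : (0 : ℝ) < (p : ℝ) / b := by positivity
  have hdeg : ∀ z : X, (ip k N (List.replicate (Main.pd k z) M) z : ℝ) =
      (b : ℝ) ^ Main.pd k z * mixPoly (mix k N L H z) (Main.pd k z) 0 0 ((p : ℝ) / b) := fun z => by
    have := ip_mix (k := k) hN hL hH p hb z (Main.pd k z) 0 0 (by omega)
    simpa [mixList] using this
  have hMamp : AmpleAt M y := by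
    refine Main.isAmple_ptIdeal_on (k := k) hN hM {z | y ⤳ z} (fun a ha c hac => ha.trans hac)
      (fun z hyz hz => ?_) _ y (specializes_refl y) rfl
    rw [degOn_eq_ip (k := k)]
    refine (Int.cast_pos (R := ℝ)).1 ?_
    rw [hdeg z]
    refine mul_pos (pow_pos hbR _) ?_
    by_cases hzy : y = z
    · subst hzy
      rw [hy]
      exact hf
    · have hlt : Main.pd k z < e + 1 + 1 := hy ▸ VarDim.Basic.pdim_lt _ hyz hzy
      refine mixPoly_pos (d := Main.pd k z) htR _ 0 rfl (fun i' j' h' _ => ?_) ?_
      · exact Int.cast_nonneg (ih _ hlt z rfl H hH (ampleAt_specializes hamp hyz) i' j' h')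
      · show (0 : ℝ) < ((ip k N (mixList L H 0 (Main.pd k z)) z : ℤ) : ℝ)
        exact Int.cast_pos.2 (ip_replicate_pos (k := k) hN hH _ z rfl (ampleAt_specializes hamp hyz))
  have hcut : 0 ≤ ip k N (List.replicate (e + 1) M ++ mixList L H 1 0) y := by
    rw [List.replicate_succ, List.cons_append]
    refine cut_nonneg (k := k) hN ?_ hM (by simp [mixList]; omega) hMamp fun z hyz hz => ?_
    · intro Q hQ
      rcases List.mem_append.1 hQ with h | h
      · exact List.eq_of_mem_replicate h ▸ hM
      · exact mixList_invertible hL hH 1 0 Q h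
    · have hz' : Main.pd k z = 1 + e := by simpa [mixList, Nat.add_comm] using hz
      rw [ip_perm (k := k) (show (List.replicate e M ++ mixList L H 1 0).Perm (mixList L M 1 e) by
        simpa [mixList] using List.perm_append_comm) z]
      exact ih (1 + e) (by omega) z hz' M hM (ampleAt_specializes hMamp hyz) 1 e rfl
  have hval := ip_mix (k := k) hN hL hH p hb y (e + 1) 1 0 (by omega)
  have h0 : (0 : ℝ) ≤ (b : ℝ) ^ (e + 1) * mixPoly (mix k N L H y) (e + 1) 1 0 ((p : ℝ) / b) :=
    hval ▸ Int.cast_nonneg hcut
  exact nonneg_of_mul_nonneg_right h0 (pow_pos hbR _)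

/-- `L^b ⊗ H^p` is ample for nef `L`, ample `H` and `p > 0`. -/
theorem isAmple_tensor {L : X.Modules} (hL : PicF.IsInvertible L) (hnef : Nef k N L)
    {H : X.Modules} (hH : CohB1.IsAmple H) {b p : ℕ} (hb : 0 < b) (hp : 0 < p) :
    CohB1.IsAmple (CohB1.tensorMod (CohB1.tensorPow L b) (CohB1.tensorPow H p)) := by
  refine Main.isAmple (k := k) hN
    (TensorMod.Invertible.isInvertible_tensorMod (isInvertible_tensorPow hL b) (isInvertible_tensorPow hH.1 p))
    fun z hz => ?_
  rw [degOn_eq_ip (k := k)]
  refine (Int.cast_pos (R := ℝ)).1 ?_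
  have := ip_mix (k := k) hN hL hH.1 p hb z (Main.pd k z) 0 0 (by omega)
  rw [show mixList L H 0 0 = [] from rfl, List.append_nil] at this
  rw [this]
  refine mul_pos (pow_pos (by exact_mod_cast hb) _)
    (mixPoly_pos (d := Main.pd k z) (by positivity) _ 0 rfl (fun i' j' h' _ => ?_) ?_)
  · exact Int.cast_nonneg
      (mixed_nonneg (k := k) hN hL hnef _ z rfl H hH.1 (ampleAt_of_isAmple hH z) i' j' h')
  · show (0 : ℝ) < ((ip k N (mixList L H 0 (Main.pd k z)) z : ℤ) : ℝ)
    exact Int.cast_pos.2
      (ip_replicate_pos (k := k) hN hH.1 _ z rfl (ampleAt_of_isAmple hH z))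

end Groth.Agent.Lib.Nakai.Kleiman
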