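import Groth.Agent.Lib.Nakai.Kleiman
import Groth.Agent.Lib.IntTheory.NumEq

/-!
# The forms of numerical effectivity; the ampleness criterion for nefness
-/

set_option autoImplicit false
set_option linter.style.haveILetI false
set_option linter.unusedSectionVars false
universe u

open CategoryTheory CategoryTheory.Limits AlgebraicGeometry TopologicalSpace

namespace Groth.Agent.Lib.Nakai.NefConv

open Groth.Agent.Lib Groth.Agent.Lib.Snapper Groth.Agent.Lib.IntTheory Groth.Agent.Lib.Nakai.Cut
open Groth.Agent.Lib.Nakai.Kleiman (Nef)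

variable {k : Type u} [Field k] {X : Scheme.{u}} [X.Over (Spec (CommRingCat.of k))]
  [IsProper (X ↘ Spec (CommRingCat.of k))] {N : ℕ} (hN : topologicalKrullDim X ≤ N)

include hN

theorem ip_singleton_eq (L : X.Modules) (y : X) :
    ip k N [L] y = - Vanish.sym k X N [L] (Cyc.closureStructureSheaf y) := by
  rw [ip, List.length_singleton, pow_one, neg_one_mul]

/-- Nonnegative degrees on curves in the sense of `Pic13.curveDeg`. -/
theorem nef_of_curves {L : X.Modules} (hL : PicF.IsInvertible L)
    (h : ∀ (Y : Scheme.{u}) (i : Y ⟶ X) [IsClosedImmersion i], IsIntegral Y → topologicalKrullDim Y = 1 →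
      0 ≤ Pic13.curveDeg k (i ≫ (X ↘ Spec (CommRingCat.of k))) ((Scheme.Modules.pullback i).obj L)) :
    Nef k N L := by
  haveI := Curves.GlobalSections.isNoetherian_of_proper k X
  intro z hz
  have hz1 : topologicalKrullDim (closure ({z} : Set X)) = 1 := by
    rw [dim_closure (k := k) z, hz]; rfl
  rw [ip_singleton_eq (k := k) hN L z, IntTheory.Curves.sym_closure hN hz1 hL, neg_neg]
  exact h _ (IntMult.ptIdeal z).subschemeι (IntTheory.Curves.isIntegral_ptIdeal z)
    ((IntTheory.Curves.dim_ptIdeal z).trans hz1)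

/-- A nef module has nonnegative degree on every proper curve over the scheme. -/
theorem curveDeg_nonneg {L : X.Modules} (hL : PicF.IsInvertible L) (hnef : Nef k N L)
    {Y : Scheme.{u}} (f : Y ⟶ X) [IsClosedImmersion f] (hY : topologicalKrullDim Y ≤ (1 : ℕ)) :
    0 ≤ Pic13.curveDeg k (f ≫ (X ↘ Spec (CommRingCat.of k))) ((Scheme.Modules.pullback f).obj L) := by
  haveI := Curves.GlobalSections.isNoetherian_of_proper k X
  haveI : IsLocallyNoetherian Y := LocallyOfFiniteType.isLocallyNoetherian f
  rw [NumEq.curveDeg_eq hN f hY hL]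
  have hcoh : Coh.IsCoh ((Coh.push f).obj (Coh.structureModule Y)) :=
    Cyc.Dev.SchemeEquiv.isCoh_push f (Twist.isCoh_structureModule Y)
  let T : Closeds X := ⟨Set.range f, f.isClosedEmbedding.isClosed_range⟩
  have hT : topologicalKrullDim (T : Set X) ≤ (1 : ℕ) :=
    (f.isClosedEmbedding.isEmbedding.toHomeomorph.isHomeomorph.topologicalKrullDim_eq).symm.le.trans hY
  have hl : ∀ M ∈ [L], PicF.IsInvertible M := fun M hM => (List.mem_singleton.1 hM) ▸ hL
  rw [Additive.eq_sum (Additive.isAdd_sym (Finite.cohFinite k X) hN hl)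
    (Additive.vanishBelow_sym (Finite.cohFinite k X) hN hl rfl) hcoh (T := T)
    (by rw [IntTheory.Positive.support_push]; exact Set.image_subset_range _ _) hT,
    ← Finset.sum_neg_distrib]
  refine Finset.sum_nonneg fun z hz => ?_
  obtain ⟨-, hzd⟩ := (Set.Finite.mem_toFinset _).1 hz
  rw [← mul_neg, ← ip_singleton_eq (k := k) hN L z]
  refine mul_nonneg (Int.natCast_nonneg _) (hnef z ?_)
  have h1 := hzd
  rw [dim_closure (k := k) z] at h1
  exact_mod_cast h1

/-- If all `L^ν ⊗ A` are ample, `L` is nef. -/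
theorem nef_of_forall_ample {L A : X.Modules} (hL : PicF.IsInvertible L) (hA : PicF.IsInvertible A)
    (h : ∀ ν : ℕ, 0 < ν → CohB1.IsAmple (CohB1.tensorMod (CohB1.tensorPow L ν) A)) :
    Nef k N L := by
  intro z hz
  by_contra hlt
  rw [not_le] at hlt
  set ν : ℕ := (ip k N [A] z).toNat + 1
  have hM := h ν (by omega)
  have hpos := Kleiman.ip_replicate_pos (k := k) hN hM.1 1 z hz (ampleAt_of_isAmple hM z)
  rw [List.replicate_one, ip_tensor (k := k) hN (TensorMod.Invertible.isInvertible_tensorPow hL ν) hA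
    (l := []) (by simp) (by simp [hz]), ip_pow (k := k) hN hL (l := []) (by simp) (by simp [hz]) ν]
    at hpos
  have h2 : (ν : ℤ) * ip k N [L] z ≤ -(ν : ℤ) := by
    have := mul_le_mul_of_nonneg_left (show ip k N [L] z ≤ -1 by omega) (Int.natCast_nonneg ν)
    linarith
  have h3 : ip k N [A] z < (ν : ℤ) := by omega
  omega

end Groth.Agent.Lib.Nakai.NefConv
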