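import Groth.Agent.Lib.Nakai.Criterion
import Groth.Agent.H34.GlobGen

/-!
# Strictly nef and semiample, or effective on every integral closed subscheme, means ample
-/

set_option autoImplicit false
set_option linter.style.haveILetI false
set_option linter.unusedSectionVars false
universe u

open CategoryTheory CategoryTheory.Limits AlgebraicGeometry TopologicalSpace

namespace Groth.Agent.Lib.Nakai.Effective

open Groth.Agent.Lib Groth.Agent.Lib.Snapper

variable {k : Type u} [Field k] {X : Scheme.{u}} [X.Over (Spec (CommRingCat.of k))]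
  [IsProper (X ↘ Spec (CommRingCat.of k))]

/-- The degree on a curve, as a difference of Euler characteristics. -/
theorem degOn_curve {N : ℕ} (hN : topologicalKrullDim X ≤ N) (L : X.Modules) {y : X}
    (hy : Main.pd k y = 1) :
    Main.degOn k N L y =
      Curv2.euler k X (CohB1.tensorMod (_root_.ClSub.quotMod (IntMult.ptIdeal y)) L) -
        Curv2.euler k X (_root_.ClSub.quotMod (IntMult.ptIdeal y)) := by
  haveI := Curves.GlobalSections.isNoetherian_of_proper k X
  rw [Main.degOn, hy, List.replicate_one, Chi.euler_eq_eulerCharLE hN, Chi.euler_eq_eulerCharLE hN,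
    Chi.eulerCharLE_of_iso (TensorMod.Basic.comm _ L) N]
  show (-1 : ℤ) ^ 1 * (FGA.eulerCharLE k X (_root_.ClSub.quotMod (IntMult.ptIdeal y)) N -
    FGA.eulerCharLE k X (CohB1.tensorMod L (_root_.ClSub.quotMod (IntMult.ptIdeal y))) N) = _
  ring

/-- Strictly nef, as a positivity of degrees on curves. -/
theorem degOn_curve_pos {N : ℕ} (hN : topologicalKrullDim X ≤ N) {L : X.Modules}
    (hnef : ∀ C : X.IdealSheafData, IsIntegral C.subscheme →
      topologicalKrullDim (C.support : Set X) = 1 →
        0 < Curv2.euler k X (CohB1.tensorMod (_root_.ClSub.quotMod C) L) -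
          Curv2.euler k X (_root_.ClSub.quotMod C)) {y : X} (hy : Main.pd k y = 1) :
    0 < Main.degOn k N L y := by
  rw [degOn_curve hN L hy]
  refine hnef _ (IntTheory.Curves.isIntegral_ptIdeal y) ?_
  refine (VarDim.Basic.topologicalKrullDim_isGenericPoint (X ↘ Spec (CommRingCat.of k))
    (show IsGenericPoint y (closure ({y} : Set X)) from rfl)).trans ?_
  rw [show VarDim.Basic.pdim (X ↘ Spec (CommRingCat.of k)) y = 1 from hy]
  rfl

/-- A semiample module has sections on every integral closed subscheme. -/
theorem exists_section_of_gg {L : X.Modules} (hL : PicF.IsInvertible L) {m : ℕ}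
    (hg : Curv2.IsGloballyGenerated (CohB1.tensorPow L m)) (y : X) :
    ∃ s : Coh.structureModule (IntMult.ptIdeal y).subscheme ⟶ CohB1.tensorPow
      ((Scheme.Modules.pullback (IntMult.ptIdeal y).subschemeι).obj L) m, s ≠ 0 := by
  let i := (IntMult.ptIdeal y).subschemeι
  haveI := IntTheory.Curves.isIntegral_ptIdeal y
  have hLm := TensorMod.Invertible.isInvertible_tensorPow hL m
  obtain ⟨t, ht⟩ := Ample.GG.exists_genLocus_of_genAt hLm (H34.GlobGen.gl_eq_top_of_gg hg y)
  obtain ⟨z, hz⟩ : y ∈ Set.range i := by
    rw [Devissage.Closure.range_ptIdeal y]; exact subset_closure rfl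
  let t' := (PicLoc.pullbackStructureIso i).inv ≫ (Scheme.Modules.pullback i).map t
  have hloc : CohB1.genLocus _ t' = i ⁻¹ᵁ CohB1.genLocus _ t :=
    Ample.GenLocus.genLocus_pullback i hLm t (PicLoc.pullbackStructureIso i).symm
  let t'' := t' ≫ (Ample.Pow.pullbackPow i L m).hom
  have hz'' : z ∈ CohB1.genLocus _ t'' := by
    rw [Ample.GenLocus.genLocus_comp_iso, hloc]
    show i z ∈ CohB1.genLocus _ t
    rw [hz]; exact ht
  exact ⟨t'', SurfInt.Pencil.ne_zero_of_mem_genLocus
    (TensorMod.Invertible.isInvertible_tensorPow (PicLoc.isInvertible_pullback i hL) m) hz''⟩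

end Groth.Agent.Lib.Nakai.Effective
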