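import Groth.Agent.H97.CurveAmple
import Groth.Agent.H97.AmpleH1
import Groth.Agent.H78.Existence.AmpleVanish

/-!
# Vanishing and ampleness from the integral closed subschemes

On a scheme proper over a Noetherian ring, an invertible module whose restrictions to all integral
closed subschemes are ample is ample.
-/

set_option autoImplicit false
set_option linter.style.haveILetI false
set_option linter.unusedSectionVars false
universe u

open CategoryTheory CategoryTheory.Limits AlgebraicGeometry TopologicalSpace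

namespace Groth.Agent.Lib.Nakai.VanDev

open Groth.Agent.Lib
open Groth.Agent.Lib.TensorMod.Basic (comm assoc tensorIso leftUnit rightUnit tensorBy)
open Groth.Agent.Lib.Curves.LES (isoK exactK₂ exactK₃)
open Groth.Agent.Lib.TensorMod.Invertible (isInvertible_tensorPow)

local notation "pb" => Scheme.Modules.pullback

/-- High twists by `L` kill the higher cohomology of `F`. -/
def Vanh {X : Scheme.{u}} (L F : X.Modules) : Prop :=
  ∀ᶠ n in Filter.atTop, ∀ q : ℕ,
    Subsingleton (Coh.HH X (CohB1.tensorMod F (CohB1.tensorPow L n)) (q + 1))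

/-- `Vanh` for all coherent submodules. -/
def SubVanh {X : Scheme.{u}} (L F : X.Modules) : Prop :=
  ∀ (G : X.Modules) (i : G ⟶ F), Mono i → Coh.IsCoh G → Vanh L G

section Ring

variable (A : Type u) [CommRing A] [IsNoetherianRing A] {X : Scheme.{u}}
  [X.Over (Spec (CommRingCat.of A))] [IsProper (X ↘ Spec (CommRingCat.of A))]

include A

theorem Vanh.of_iso {L F G : X.Modules} (e : F ≅ G) (h : Vanh L F) : Vanh L G :=
  h.mono fun _ hn q =>
    haveI := hn q
    (isoK A (tensorIso e (Iso.refl _)) (q + 1)).symm.toEquiv.subsingleton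

theorem Vanh.middle {L : X.Modules} (hL : PicF.IsInvertible L) {S : ShortComplex X.Modules}
    (hS : S.ShortExact) (h₁ : Vanh L S.X₁) (h₃ : Vanh L S.X₃) : Vanh L S.X₂ := by
  refine (h₁.and h₃).mono fun n hn q => ?_
  have hS' := CurveBundle.Twist.shortExact (isInvertible_tensorPow hL n) hS
  haveI := hn.1 q
  haveI := hn.2 q
  refine subsingleton_of_forall_eq 0 fun z => ?_
  obtain ⟨w, hw⟩ := ((exactK₂ A hS' (q + 1)) z).mp (Subsingleton.elim (α := Coh.HH X
    (CohB1.tensorMod S.X₃ (CohB1.tensorPow L n)) (q + 1)) _ _)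
  exact hw.symm.trans (by
    rw [Subsingleton.elim (α := Coh.HH X (CohB1.tensorMod S.X₁ (CohB1.tensorPow L n)) (q + 1)) w 0]
    exact map_zero _)

theorem Vanh.right {L : X.Modules} (hL : PicF.IsInvertible L) {S : ShortComplex X.Modules}
    (hS : S.ShortExact) (h₁ : Vanh L S.X₁) (h₂ : Vanh L S.X₂) : Vanh L S.X₃ := by
  refine (h₁.and h₂).mono fun n hn q => ?_
  have hS' := CurveBundle.Twist.shortExact (isInvertible_tensorPow hL n) hS
  haveI := hn.1 (q + 1)
  haveI := hn.2 q
  refine subsingleton_of_forall_eq 0 fun z => ?_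
  obtain ⟨w, hw⟩ := ((exactK₃ A hS' (q + 1) (q + 1 + 1) rfl) z).mp (Subsingleton.elim (α := Coh.HH X
    (CohB1.tensorMod S.X₁ (CohB1.tensorPow L n)) (q + 1 + 1)) _ _)
  exact hw.symm.trans (by
    rw [Subsingleton.elim (α := Coh.HH X (CohB1.tensorMod S.X₂ (CohB1.tensorPow L n)) (q + 1)) w 0]
    exact map_zero _)

theorem thick_subVanh {L : X.Modules} (hL : PicF.IsInvertible L) (T : Set X) :
    ProperFin.Devissage.Thick T (SubVanh L) where
  of_isZero M hM := fun G i _ _ => by
    refine Filter.Eventually.of_forall fun n q => ?_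
    have hG : IsZero G := IsZero.of_mono i hM
    haveI := CurveBundle.Twist.isEquivalence (isInvertible_tensorPow hL n)
    have hz : IsZero (CohB1.tensorMod G (CohB1.tensorPow L n)) :=
      Functor.map_isZero (tensorBy (CohB1.tensorPow L n)) hG
    refine subsingleton_of_forall_eq 0 fun x => ?_
    have h1 : (Curves.LES.F X).map (𝟙 (CohB1.tensorMod G (CohB1.tensorPow L n))) = 0 := by
      rw [hz.eq_of_src (𝟙 _) 0, Functor.map_zero]
    rw [CategoryTheory.Functor.map_id] at h1
    have := congrArg (fun g => Sheaf.H.map g (q + 1) x) h1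
    simp only [Sheaf.H.map_id_apply, Sheaf.H.map_apply, Abelian.Ext.mk₀_zero, Abelian.Ext.comp_zero,
      Abelian.Ext.comp_mk₀_id] at this
    exact this
  two S hS h₁ h₂ h₃ := by
    haveI := H78.Existence.AmpleVanish.isNoetherian_of_proper A (X := X)
    haveI := hS.mono_f
    haveI := hS.epi_g
    refine ⟨fun q₁ q₃ G i _ hG => ?_, fun q₂ _ G i _ hG => q₂ G (i ≫ S.f) (mono_comp _ _) hG,
      fun q₁ q₂ G i _ hG => ?_⟩
    · let ψ : G ⟶ S.X₃ := i ≫ S.g
      have hK : Coh.IsCoh (kernel ψ) := CohBasics.Closure.isCoh_kernel ψ hG h₃.1.1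
      have hI : Coh.IsCoh (Abelian.coimage ψ) :=
        CohBasics.Closure.isCoh_cokernel (kernel.ι ψ) hK.1 hG
      haveI := hS.exact.mono_g
      let lK : kernel ψ ⟶ S.X₁ := hS.fIsKernel.lift
        (KernelFork.ofι (kernel.ι ψ ≫ i) (by rw [Category.assoc]; exact kernel.condition ψ))
      have hlK : lK ≫ S.f = kernel.ι ψ ≫ i := Fork.IsLimit.lift_ι hS.fIsKernel
      haveI : Mono lK := mono_of_mono_fac hlK
      exact Vanh.middle A
        (S := ShortComplex.mk (kernel.ι ψ) (cokernel.π (kernel.ι ψ)) (cokernel.condition _))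
        hL (Devissage.Basic.exists_ses_mono (kernel.ι ψ)) (q₁ (kernel ψ) lK inferInstance hK)
        (q₃ (Abelian.coimage ψ) (Abelian.factorThruCoimage ψ) inferInstance hI)
    · have hP : Coh.IsCoh (pullback i S.g) :=
        CohBasics.Closure.isCoh_pullback i S.g hG h₂.1 h₃.1.1
      let p := pullback.fst i S.g
      have hK : Coh.IsCoh (kernel p) := CohBasics.Closure.isCoh_kernel p hP hG.1
      let lK : kernel p ⟶ S.X₁ := hS.fIsKernel.lift
        (KernelFork.ofι (kernel.ι p ≫ pullback.snd i S.g) (by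
          rw [Category.assoc, ← pullback.condition, ← Category.assoc, kernel.condition, zero_comp]))
      have hlK : lK ≫ S.f = kernel.ι p ≫ pullback.snd i S.g := Fork.IsLimit.lift_ι hS.fIsKernel
      haveI : Mono lK := mono_of_mono_fac hlK
      exact Vanh.right A (S := ShortComplex.mk (kernel.ι p) p (kernel.condition p)) hL
        (Devissage.Basic.exists_ses_epi p) (q₁ (kernel p) lK inferInstance hK)
        (q₂ _ (pullback.snd i S.g) inferInstance hP)

end Ring

variable {Z X : Scheme.{u}}

open Groth.Agent.Lib.TensorMod in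
theorem vanh_push (i : Z ⟶ X) [IsClosedImmersion i] {L : X.Modules} (hL : PicF.IsInvertible L)
    {N : Z.Modules} [N.IsQuasicoherent] (h : Vanh ((pb i).obj L) N) :
    Vanh L ((Scheme.Modules.pushforward i).obj N) := by
  refine h.mono fun n hn q => ?_
  have hLn := isInvertible_tensorPow hL n
  let e : CohB1.tensorMod ((Scheme.Modules.pushforward i).obj N) (CohB1.tensorPow L n) ≅
      (Scheme.Modules.pushforward i).obj (CohB1.tensorMod N (CohB1.tensorPow ((pb i).obj L) n)) :=
    comm _ _ ≪≫ (Modules.ProjFormula.projIso i (E := CohB1.tensorPow L n)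
      (Modules.DualBasis.hasDBases_of_isFinLocFree
        (LocFree.of_rank (LocFree.of_isInvertible hLn)))).app N ≪≫
    (Scheme.Modules.pushforward i).mapIso (comm _ _ ≪≫
      tensorIso (Iso.refl N) (Ample.Pow.pullbackPow i L n))
  let N' := CohB1.tensorMod N (CohB1.tensorPow ((pb i).obj L) n)
  haveI := QCohInv.isQCoh_of_isInvertible
    (isInvertible_tensorPow (PicLoc.isInvertible_pullback i hL) n)
  haveI : N'.IsQuasicoherent := TensorQCoh.isQCoh_tensorMod _ _
  haveI := hn q
  haveI : Subsingleton (Coh.HH X ((Scheme.Modules.pushforward i).obj N') (q + 1)) :=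
    (ZarCoh.PushH.pushEquiv i.base X.isBasis_affineOpens (Coh.toAb N')
      (fun W hW r => ZarCoh.Affine.HU_subsingleton N' (IsAffineOpen.preimage hW i) r)
      (q + 1)).toEquiv.subsingleton
  exact H34.HOne.ext_of_iso.{u} _ (q + 1) ((H34.HOne.ab X).mapIso e.symm) ‹_›

/-- Submodules of `i_* O` come from the closed subscheme. -/
theorem subVanh_push (i : Z ⟶ X) [IsClosedImmersion i] {L : X.Modules} (hL : PicF.IsInvertible L)
    (h : ∀ N : Z.Modules, Coh.IsCoh N → Vanh ((pb i).obj L) N) :
    ∀ (G : X.Modules) (m : G ⟶ (Coh.push i).obj (Coh.structureModule Z)), Mono m → Coh.IsCoh G →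
      ∃ N : Z.Modules, Vanh L ((Scheme.Modules.pushforward i).obj N) ∧
        Nonempty (G ≅ (Scheme.Modules.pushforward i).obj N) := by
  intro G m _ hG
  let A := Scheme.Modules.pullbackPushforwardAdjunction i
  haveI : Mono m := ‹_›
  haveI : Mono (A.unit.app G) := by
    have e : A.unit.app G ≫ (Scheme.Modules.pushforward i).map
        ((Scheme.Modules.pullback i).map m ≫ A.counit.app (Coh.structureModule Z)) = m := by
      rw [Functor.map_comp, ← Category.assoc]
      erw [← A.unit.naturality m]
      rw [Category.assoc]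
      erw [A.right_triangle_components]
      exact Category.comp_id m
    exact mono_of_mono_fac e
  haveI := PushClosed.Unit.epi_unit i G
  haveI : IsIso (A.unit.app G) := isIso_of_mono_of_epi _
  haveI := hG.1
  haveI := hG.2
  haveI := QCoh.Pullback.isQCoh_pullback i G
  exact ⟨_, vanh_push i hL (h _ ⟨QCoh.Pullback.isQCoh_pullback i G,
    Modules.SupportOps.isFT_pullback i G⟩), ⟨asIso (A.unit.app G)⟩⟩

variable (A : Type u) [CommRing A] [IsNoetherianRing A] [X.Over (Spec (CommRingCat.of A))]
  [IsProper (X ↘ Spec (CommRingCat.of A))]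

include A

/-- Serre vanishing for an ample module. -/
theorem vanh_of_isAmple {L F : X.Modules} (hA : CohB1.IsAmple L) (hF : Coh.IsCoh F) : Vanh L F := by
  obtain ⟨n₀, h⟩ := H78.Existence.AmpleVanish.exists_subsingleton A hA hF
  exact Filter.eventually_atTop.2 ⟨n₀, h⟩

/-- **Vanishing on a closed set from ampleness on its integral closed subschemes.** -/
theorem vanh_of_integral {L : X.Modules} (hL : PicF.IsInvertible L) (T : Closeds X)
    (h : ∀ y ∈ T, CohB1.IsAmple ((pb (IntMult.ptIdeal y).subschemeι).obj L))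
    {F : X.Modules} (hF : Coh.IsCoh F) (hFT : CohB1.support F ⊆ T) : Vanh L F := by
  haveI := H78.Existence.AmpleVanish.isNoetherian_of_proper A (X := X)
  refine ProperFin.Devissage.devissage (SubVanh L) T (thick_subVanh A hL _) (fun y hy => ?_)
    F ⟨hF, hFT⟩ F (𝟙 F) inferInstance hF
  refine ⟨_, Devissage.Closure.cohIn_closureStructureSheaf y,
    Devissage.Closure.length_closureStructureSheaf y, fun G m hm hG => ?_⟩
  let i := (IntMult.ptIdeal y).subschemeι
  letI : (IntMult.ptIdeal y).subscheme.Over (Spec (CommRingCat.of A)) :=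
    ⟨i ≫ (X ↘ Spec (CommRingCat.of A))⟩
  haveI : IsProper ((IntMult.ptIdeal y).subscheme ↘ Spec (CommRingCat.of A)) :=
    inferInstanceAs (IsProper (i ≫ (X ↘ Spec (CommRingCat.of A))))
  obtain ⟨N, hN, ⟨e⟩⟩ := subVanh_push i hL
    (fun N hN => vanh_of_isAmple (X := (IntMult.ptIdeal y).subscheme) A (h y hy) hN) G m hm hG
  exact hN.of_iso A e.symm

/-- **Ampleness from the integral closed subschemes.** -/
theorem isAmple_of_integral {L : X.Modules} (hL : PicF.IsInvertible L)
    (h : ∀ y : X, CohB1.IsAmple ((pb (IntMult.ptIdeal y).subschemeι).obj L)) :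
    CohB1.IsAmple L := by
  haveI := H78.Existence.AmpleVanish.isNoetherian_of_proper A (X := X)
  refine H97.AmpleH1.isAmple hL fun I i _ hI => ?_
  haveI : I.IsQuasicoherent := hI
  have hcoh : Coh.IsCoh I :=
    CohBasics.Closure.isCoh_of_mono i (Snapper.Twist.isCoh_structureModule X)
  obtain ⟨n₀, hn⟩ := Filter.eventually_atTop.1
    (vanh_of_integral A hL ⊤ (fun y _ => h y) hcoh (Set.subset_univ _))
  exact ⟨n₀, hn (n₀ + 1) n₀.le_succ 0⟩

end Groth.Agent.Lib.Nakai.VanDev
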