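import Groth.Agent.Lib.Nakai.UnifAbs
import Groth.Agent.Lib.IntTheory.Push
import Groth.Agent.Lib.ProperFin.Assembly
import Groth.Agent.Lib.HProj.QuasiProj
import Groth.Agent.Lib.ProjTilde.LocTriv

/-!
# Numerically trivial twists do not change Euler characteristics on proper schemes
-/

set_option autoImplicit false
set_option linter.style.haveILetI false
set_option linter.unusedSectionVars false
universe u

open CategoryTheory CategoryTheory.Limits AlgebraicGeometry Opposite TopologicalSpace

namespace Groth.Agent.Lib.Nakai.NumProper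

open Groth.Agent.Lib Groth.Agent.Lib.Snapper Groth.Agent.Lib.IntTheory
open Groth.Agent.Lib.Devissage.Basic (CohIn)
open Groth.Agent.Lib.Snapper.Vanish (sym sym_cons sym_of_iso)
open Groth.Agent.Lib.TensorMod.Pullback (pb)

variable {k : Type u} [Field k] {X : Scheme.{u}} [X.Over (Spec (CommRingCat.of k))]
  [IsProper (X ↘ Spec (CommRingCat.of k))] {d : ℕ} (hd : topologicalKrullDim X ≤ d)
  {L : X.Modules} (hL : NTBound.NT k d L)

include hd hL

/-- The symbol of a numerically trivial module kills modules of dimension at most one. -/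
theorem sym_low {F : X.Modules} (hF : Coh.IsCoh F)
    (hs : topologicalKrullDim (CohB1.support F) ≤ (1 : ℕ)) : sym k X d [L] F = 0 := by
  haveI := Curves.GlobalSections.isNoetherian_of_proper k X
  have hl : ∀ M ∈ [L], PicF.IsInvertible M := fun M hM => List.mem_singleton.1 hM ▸ hL.1
  refine Additive.eq_zero (Additive.isAdd_sym (Finite.cohFinite k X) hd hl)
    (Additive.vanishBelow_sym (Finite.cohFinite k X) hd hl rfl) hF hs fun y hy => ?_
  have h1 : Main.pd k y = 1 := by
    have := hy.2
    rw [Cut.dim_closure (k := k) y] at this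
    exact_mod_cast this
  have h2 := hL.2 y h1
  rwa [NefConv.ip_singleton_eq (k := k) hd, neg_eq_zero] at h2

section Pullback

variable {X' : Scheme.{u}} [X'.Over (Spec (CommRingCat.of k))]
  [IsProper (X' ↘ Spec (CommRingCat.of k))] (g : X' ⟶ X)
  (hg : g ≫ (X ↘ Spec (CommRingCat.of k)) = X' ↘ Spec (CommRingCat.of k))

include hg in
/-- Numerical triviality pulls back. -/
theorem nt_pullback {d' : ℕ} (hd' : topologicalKrullDim X' ≤ d') :
    NTBound.NT k d' ((pb g).obj L) := by
  haveI := Curves.GlobalSections.isNoetherian_of_proper k X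
  haveI := Curves.GlobalSections.isNoetherian_of_proper k X'
  haveI := IntTheory.Push.isProper g hg
  refine ⟨PicLoc.isInvertible_pullback g hL.1, fun z hz => ?_⟩
  have hA := Devissage.Closure.cohIn_closureStructureSheaf z
  have h := IntTheory.Push.sym_push g hg hd hd' [L] (fun M hM => List.mem_singleton.1 hM ▸ hL.1)
    (Cyc.closureStructureSheaf z) hA.1 (by
      refine (Cut.dim_support_closure (k := k) z).trans ?_
      rw [hz]; rfl)
  rw [List.map_cons, List.map_nil] at h
  rw [NefConv.ip_singleton_eq (k := k) hd', neg_eq_zero, h]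
  refine sym_low hd hL (Cyc.PP.Push.isCoh_push g hA.1) ?_
  refine (Devissage.Dim.dim_mono (IntTheory.Push.support_push_subset g
    (S := closure {g z}) isClosed_closure fun w hw =>
      specializes_iff_mem_closure.1 ((specializes_iff_mem_closure.2 (hA.2 hw)).map g.continuous))).trans ?_
  rw [Cut.dim_closure (k := k) (g z)]
  have h' : Main.pd k (g z) ≤ Main.pd k z :=
    VarDim.Fibre.pdim_apply_le (X' ↘ Spec (CommRingCat.of k)) (X ↘ Spec (CommRingCat.of k)) g hg z
  exact_mod_cast h'.trans hz.le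

end Pullback

omit hd hL [IsProper (X ↘ Spec (CommRingCat.of k))] in
/-- Cohomology of a direct image without higher cohomology over a basis. -/
theorem euler_push {Y : Scheme.{u}} [Y.Over (Spec (CommRingCat.of k))] (f : Y ⟶ X)
    (hf : f ≫ (X ↘ Spec (CommRingCat.of k)) = Y ↘ Spec (CommRingCat.of k))
    {B : Set (Opens X)} (hB : Opens.IsBasis B) (M : Y.Modules)
    (hv : ∀ W ∈ B, ∀ q, Subsingleton (CohTop.HU (Coh.toAb M) (q + 1) ((Opens.map f.base).obj W)))
    (e : ℕ) : FGA.eulerCharLE k X ((Coh.push f).obj M) e = FGA.eulerCharLE k Y M e := by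
  unfold FGA.eulerCharLE
  refine Finset.sum_congr rfl fun n _ => ?_
  let E : Coh.HH X ((Coh.push f).obj M) n ≃ₗ[k] Coh.HH Y M n :=
    { ZarCoh.PushH.pushEquiv f.base hB (Coh.toAb M) hv n with
      map_smul' := fun a x =>
        ZarCoh.Morph.pushH_smul f M n _ _ (ZarCoh.Linear.toGlobal_comp f hf a) x }
  rw [E.finrank_eq]

/-- Every point carries a coherent module of generic length one killed by the symbol. -/
theorem exists_generator (y : X) : ∃ G : X.Modules, CohIn (closure {y}) G ∧
    Module.length (X.presheaf.stalk y) (G.presheaf.stalk y) = 1 ∧ sym k X d [L] G = 0 := by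
  classical
  haveI := Curves.GlobalSections.isNoetherian_of_proper k X
  let Z := (IntMult.ptIdeal y).subscheme
  let i : Z ⟶ X := (IntMult.ptIdeal y).subschemeι
  haveI : AlgebraicGeometry.IsReduced Z := H75.RedSub.isReduced_vanishingIdeal _
  have hrange : Set.range i = closure ({y} : Set X) := Devissage.Closure.range_ptIdeal y
  obtain ⟨z, hz⟩ : y ∈ Set.range i := by rw [hrange]; exact subset_closure rfl
  have hcl : closure {z} = Set.univ := by
    rw [i.isClosedEmbedding.isInducing.closure_eq_preimage_closure_image, Set.image_singleton, hz,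
      ← hrange, Set.preimage_range]
  haveI : IrreducibleSpace Z :=
    { isPreirreducible_univ := hcl ▸ isIrreducible_singleton.closure.2
      toNonempty := ⟨z⟩ }
  haveI : IsIntegral Z := isIntegral_of_irreducibleSpace_of_isReduced Z
  have hgen : genericPoint Z = z := ((genericPoint_spec Z).eq (show IsGenericPoint z Set.univ from hcl))
  let h := i ≫ (X ↘ Spec (CommRingCat.of k))
  haveI : IsLocallyNoetherian Z := LocallyOfFiniteType.isLocallyNoetherian h
  haveI : CompactSpace Z := QuasiCompact.compactSpace_of_compactSpace h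
  haveI : IsNoetherian Z := ⟨⟩
  obtain ⟨n, Z', π, j, U, hji, hj, hπ, -, hU, hUiso, -, -⟩ :=
    Chow.Main.chow h TopologicalSpace.NoetherianSpace.finite_irreducibleComponents
  haveI := hji
  haveI := hπ
  let f : Z' ⟶ X := π ≫ i
  letI : Z'.Over (Spec (CommRingCat.of k)) := ⟨π ≫ h⟩
  have hf : f ≫ (X ↘ Spec (CommRingCat.of k)) = Z' ↘ Spec (CommRingCat.of k) :=
    Category.assoc _ _ _
  haveI : IsProper (Z' ↘ Spec (CommRingCat.of k)) :=
    inferInstanceAs (IsProper (π ≫ i ≫ (X ↘ Spec (CommRingCat.of k))))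
  let j' : Z' ⟶ CohB1.ProjSpace n k := j ≫ (ProjSpace.BaseChange.overSpecIso n k).hom
  have hj' : j' ≫ CohB1.ProjSpace.toSpec n k = Z' ↘ Spec (CommRingCat.of k) := by
    rw [Category.assoc, ProjSpace.BaseChange.overSpecIso_hom_toSpec, hj]
    rfl
  haveI : IsClosedImmersion j' := by
    refine (IsClosedImmersion.iff_isProper_and_mono j').mpr ⟨?_, inferInstance⟩
    haveI : IsProper (j' ≫ CohB1.ProjSpace.toSpec n k) := by
      rw [hj']; infer_instance
    exact IsProper.of_comp j' (CohB1.ProjSpace.toSpec n k)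
  haveI := Curves.GlobalSections.isNoetherian_of_proper k Z'
  haveI : Z'.IsSeparated := ⟨by
    rw [← Limits.terminal.comp_from (Z' ↘ Spec (CommRingCat.of k))]
    infer_instance⟩
  haveI : IsProper f := IntTheory.Push.isProper f hf
  -- an affine cover trivialising `L`
  have hcv : ∀ x : X, ∃ V : X.Opens, x ∈ V ∧ IsAffineOpen V ∧
      Nonempty (L.restrict V.ι ≅ Coh.structureModule (V : Scheme.{u})) := fun x => by
    obtain ⟨W, hxW, ⟨e⟩⟩ := hL.1 x
    obtain ⟨V, hV, hxV, hle⟩ := exists_isAffineOpen_mem_and_subset (U := W) hxW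
    exact ⟨V, hxV, hV, ProjTilde.LocTriv.nonempty_restrict_iso_unit e V.ι (by simpa using hle)⟩
  choose V hxV hV hVL using hcv
  obtain ⟨T, hT⟩ := isCompact_univ.elim_finite_subcover (fun x => (V x : Set X))
    (fun x => (V x).2) fun x _ => Set.mem_iUnion.2 ⟨x, hxV x⟩
  let VT : T → X.Opens := fun t => V t.1
  have hcov : ⨆ t, VT t = ⊤ := top_le_iff.1 fun x _ => by
    obtain ⟨w, hw, hx⟩ := Set.mem_iUnion₂.1 (hT (Set.mem_univ x))
    exact Opens.mem_iSup.2 ⟨⟨w, hw⟩, hx⟩
  choose d₀ hd₀ using fun t : T => ProperFin.Assembly.local_facts (Finite.facts.{u}) f hf j' hj' (hV t.1)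
  let m := Finset.univ.sup d₀
  have hm : ∀ t, d₀ t ≤ m := fun t => Finset.le_sup (Finset.mem_univ t)
  let M := (Scheme.Modules.pullback j').obj (ProperFin.Projective.O n k m)
  have hM : PicF.IsInvertible M := PicLoc.isInvertible_pullback j' ((Finite.facts.{u}).inv n k m)
  have hfL := PicLoc.isInvertible_pullback f hL.1
  let N := CohB1.tensorMod ((pb f).obj L) M
  have hN : PicF.IsInvertible N := TensorMod.Invertible.isInvertible_tensorMod hfL hM
  haveI := (Ample.GG.isCoh_of_isInvertible hM).1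
  haveI := (Ample.GG.isCoh_of_isInvertible hN).1
  have hcov' : ∀ t, ∃ (ι : Type u) (_ : _root_.Finite ι) (W : ι → Z'.Opens),
      ProperFin.LocalVanishing.AffInter W ∧ iSup W = f ⁻¹ᵁ VT t := fun t => by
    obtain ⟨ι, hι, W, hW, hWcov⟩ := ProperFin.Assembly.exists_finite_affine_cover (X := Z') (f ⁻¹ᵁ VT t)
      (f.isCompact_preimage (hV t.1).isCompact)
    exact ⟨ι, hι, W, ProperFin.Assembly.affInter_of_isSeparated W hW, hWcov⟩
  have hvM := ProperFin.PushVanish.vanishing_basics f VT M hcov' fun t q => (hd₀ t m (hm t)).1 q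
  have hvN := ProperFin.PushVanish.vanishing_basics f VT N hcov' fun t q => by
    obtain ⟨eV⟩ := hVL t.1
    obtain ⟨eU⟩ := IntTheory.Push.nonempty_twist_iso f eV M
    letI : (f ⁻¹ᵁ VT t : Scheme.{u}).Over (Spec (CommRingCat.of k)) :=
      ⟨(f ⁻¹ᵁ VT t).ι ≫ (Z' ↘ Spec (CommRingCat.of k))⟩
    haveI h1 : Subsingleton (CohTop.HU (Coh.toAb M) (q + 1) ((f ⁻¹ᵁ VT t).ι ''ᵁ ⊤)) := by
      rw [Scheme.Opens.ι_image_top]; exact (hd₀ t m (hm t)).1 q
    haveI h2 : Subsingleton (Coh.HH _ (M.restrict (f ⁻¹ᵁ VT t).ι) (q + 1)) :=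
      (ZarCoh.Morph.openEquiv (f ⁻¹ᵁ VT t).ι M (q + 1)).toEquiv.subsingleton
    haveI h3 : Subsingleton (Coh.HH _ (N.restrict (f ⁻¹ᵁ VT t).ι) (q + 1)) :=
      (Curves.LES.isoK k eU (q + 1)).toEquiv.subsingleton
    have h4 := (ZarCoh.Morph.openEquiv (f ⁻¹ᵁ VT t).ι N (q + 1)).symm.toEquiv.subsingleton
    rwa [Scheme.Opens.ι_image_top] at h4
  have hB := ProperFin.PushVanish.isBasis_basics VT (fun t => hV t.1) hcov
  refine ⟨(Coh.push f).obj M,
    ⟨Cyc.PP.Push.isCoh_push f (Ample.GG.isCoh_of_isInvertible hM), fun x hx => ?_⟩, ?_, ?_⟩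
  · by_contra hne
    exact hx (Cyc.SheafLen.subsingleton_push_stalk f M (closure {y}) isClosed_closure
      (fun w _ => hrange ▸ ⟨π w, rfl⟩) x hne)
  · have hne : genericPoint Z ∈ U := by
      obtain ⟨w, hw⟩ := hU.nonempty
      exact ((genericPoint_spec Z).mem_open_set_iff U.2).mpr ⟨w, trivial, hw⟩
    have := ProperFin.Generator.length_push π i hUiso hne hM
    rwa [hgen, hz] at this
  · have hE : Modules.DualBasis.HasDBases L := Modules.DualBasis.hasDBases_of_isFinLocFree
      (TensorMod.LocFree.of_rank (TensorMod.LocFree.of_isInvertible hL.1))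
    have eN : CohB1.tensorMod L ((Coh.push f).obj M) ≅ (Coh.push f).obj N :=
      (Modules.ProjFormula.projIso f hE).app M
    have hd' := UnifVan.dim_le j' hj'
    have hH : CohB1.IsAmple (UnifVan.twX j' 1) :=
      Ample.Pullback.isAmple_pullback _ (Ample.Pullback.isQuasiAffine_of_isAffineHom _)
        (HProj.QuasiProj.isAmple_twist_projSpace n k)
    have hχ := UnifAbs.chi_eq k hH (Ample.GG.isCoh_of_isInvertible hM)
      (L := (pb f).obj L) ⟨hfL, fun e he => nt_pullback hd hL f hf he⟩
      (d := d + (n + 1)) (hd'.trans (by exact_mod_cast Nat.le_add_left _ _))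
    rw [sym_cons, sym_of_iso [] eN]
    show FGA.eulerCharLE k X _ d - FGA.eulerCharLE k X _ d = 0
    rw [← Chi.eulerCharLE_eq_of_le hd (Nat.le_add_right d (n + 1)),
      ← Chi.eulerCharLE_eq_of_le hd (Nat.le_add_right d (n + 1)),
      euler_push f hf hB M hvM, euler_push f hf hB N hvN]
    exact sub_eq_zero.2 hχ.symm

/-- **Numerically trivial twists do not change `χ`.** -/
theorem sym_eq_zero {F : X.Modules} (hF : Coh.IsCoh F) : sym k X d [L] F = 0 := by
  haveI := Curves.GlobalSections.isNoetherian_of_proper k X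
  have hl : ∀ M ∈ [L], PicF.IsInvertible M := fun M hM => List.mem_singleton.1 hM ▸ hL.1
  have hadd := Additive.isAdd_sym (Finite.cohFinite k X) hd hl
  refine ProperFin.Devissage.devissage (fun G => sym k X d [L] G = 0) ⊤
    ⟨fun G hG => hadd.zero hG, fun S hS h₁ h₂ h₃ => ?_⟩ (fun y _ => exists_generator hd hL y) F
    ⟨hF, Set.subset_univ _⟩
  have := hadd.add hS h₁.1 h₂.1 h₃.1
  exact ⟨fun a b => by omega, fun a b => by omega, fun a b => by omega⟩

theorem chi_eq {F : X.Modules} (hF : Coh.IsCoh F) :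
    FGA.eulerCharLE k X (CohB1.tensorMod F L) d = FGA.eulerCharLE k X F d := by
  have h := sym_eq_zero hd hL hF
  rw [sym_cons, sym_of_iso [] (TensorMod.Basic.comm L F)] at h
  exact (sub_eq_zero.1 h).symm

end Groth.Agent.Lib.Nakai.NumProper
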