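import Groth.Agent.Lib.Nakai.Siu
import Groth.Agent.Lib.TensorMod.TensorInv

/-!
# For nef modules, big is the same as positive self-intersection
-/

set_option autoImplicit false
set_option linter.style.haveILetI false
set_option linter.unusedSectionVars false
universe u

open CategoryTheory CategoryTheory.Limits AlgebraicGeometry TopologicalSpace

namespace Groth.Agent.Lib.Nakai.Big

open Groth.Agent.Lib Groth.Agent.Lib.Snapper Groth.Agent.Lib.IntTheory Groth.Agent.Lib.Nakai.Cut
open Groth.Agent.Lib.Nakai.Kleiman (Nef)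
open Groth.Agent.Lib.PosLin.SectionBound (h0 exists_growth)
open Groth.Agent.Lib.TensorMod.Basic (comm)

variable {k : Type u} [Field k] {X : Scheme.{u}} [X.Over (Spec (CommRingCat.of k))]
  [IsProper (X ↘ Spec (CommRingCat.of k))] [IsIntegral X] {n : ℕ}
  (hn : topologicalKrullDim X = (n : ℕ))

include hn

/-- The self-intersection, through copies of an inverse. -/
theorem intNum_eq_ip {L Linv : X.Modules} (hL : PicF.IsInvertible L)
    (hLinv : _root_.ClSub.IsInverseOf Linv L) :
    FGA.intNum k X n (fun _ : Fin n => Linv) (Coh.structureModule X) =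
      ip k n (List.replicate n L) (genericPoint X) := by
  haveI := Curves.GlobalSections.isNoetherian_of_proper k X
  obtain ⟨e⟩ := hLinv
  have h := PosLin.SectionBound.sym_replicate_dual (k := k) hn.le hL
    (TensorMod.TensorInv.isInvertible_of_tensor_iso e) (comm L Linv ≪≫ e)
    (Twist.isCoh_structureModule X) n 0 (by omega)
  rw [List.replicate_zero, List.append_nil] at h
  rw [IntNum.intNum_eq_sym, List.ofFn_const, h, Top.ip_generic (k := k) hn
    (fun M hM => List.eq_of_mem_replicate hM ▸ hL) List.length_replicate]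

include k in
omit hn in
/-- In dimension zero everything invertible is ample. -/
theorem isAmple_of_dim_zero (hd : topologicalKrullDim X = (0 : ℕ)) {L : X.Modules}
    (hL : PicF.IsInvertible L) : CohB1.IsAmple L := by
  haveI := Curves.GlobalSections.isNoetherian_of_proper k X
  haveI : IsAffine X := by
    obtain ⟨U, hU, hxU, -⟩ := exists_isAffineOpen_mem_and_subset
      (U := (⊤ : X.Opens)) (x := genericPoint X) trivial
    have htop : U = ⊤ := top_le_iff.mp fun z _ => by
      rw [PosLin.Kodaira.eq_genericPoint_of_dim_zero (k := k) hd z]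
      exact hxU
    haveI : IsAffine ((⊤ : X.Opens) : Scheme.{u}) := htop ▸ hU
    exact IsAffine.of_isIso X.topIso.inv
  exact Ample.RelAmple.isAmple_of_isAffine hL

/-- A monomorphism from an ample module gives a positive self-intersection. -/
theorem pos_of_mono {L A : X.Modules} (hL : PicF.IsInvertible L) (hnef : Nef k n L)
    (hA : CohB1.IsAmple A) {ν : ℕ} (φ : A ⟶ CohB1.tensorPow L ν) [Mono φ] :
    0 < ip k n (List.replicate n L) (genericPoint X) := by
  rcases n with _ | e
  · exact ip_nil_pos (k := k) hn.le (Top.pd_generic (k := k) hn)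
  · exact Top.ip_pos_of_mono (k := k) hn hL hnef hA φ

/-- A positive self-intersection gives a monomorphism from an ample module, and full growth. -/
theorem big_of_pos {L H : X.Modules} (hL : PicF.IsInvertible L) (hnef : Nef k n L)
    (hH : CohB1.IsAmple H) (hpos : 0 < ip k n (List.replicate n L) (genericPoint X)) :
    (∃ (ν : ℕ) (A : X.Modules) (φ : A ⟶ CohB1.tensorPow L ν), 0 < ν ∧ CohB1.IsAmple A ∧ Mono φ) ∧
      ∃ a m₀ : ℕ, 0 < a ∧ ∀ m, m₀ ≤ m → m ^ n ≤ a * h0 k X (CohB1.tensorPow L m) := by
  haveI := Curves.GlobalSections.isNoetherian_of_proper k X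
  rcases n with _ | e
  · have hLa := isAmple_of_dim_zero (k := k) hn hL
    exact ⟨⟨1, CohB1.tensorPow L 1, 𝟙 _, one_pos,
      (Ample.Pow.isAmple_tensorPow_iff hL one_pos).mp hLa, inferInstance⟩,
      exists_growth (k := k) hn hLa⟩
  · obtain ⟨ν, a, μ₀, hν, hg⟩ := Siu.exists_growth_mul (k := k) hn hL hnef hH hpos
    have hu := PosLin.Kodaira.unbdd_of_growth (k := k) hν hg
    refine ⟨?_, PosLin.Volume.exists_growth (k := k) hn hH hL hu⟩
    obtain ⟨m, hm, hm'⟩ := PosLin.Kodaira.exists_sections (k := k) hn hH hL hu hH.1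
    obtain ⟨φ, hφ⟩ := PosLin.Kodaira.exists_mono (k := k) hH.1
      (TensorMod.Invertible.isInvertible_tensorPow hL m) hm'
    exact ⟨m, H, φ, hm, hH, hφ⟩

/-- Full growth gives a monomorphism from an ample module. -/
theorem mono_of_growth {L H : X.Modules} (hL : PicF.IsInvertible L) (hH : CohB1.IsAmple H) {a m₀ : ℕ}
    (hg : ∀ m, m₀ ≤ m → m ^ n ≤ a * h0 k X (CohB1.tensorPow L m)) :
    ∃ (ν : ℕ) (φ : H ⟶ CohB1.tensorPow L ν), Mono φ := by
  haveI := Curves.GlobalSections.isNoetherian_of_proper k X
  have hu := PosLin.Kodaira.unbdd_of_growth (k := k) (L := L) (ν := 1) (d := n) (a := a) (μ₀ := m₀) one_pos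
    (fun μ hμ => by rw [one_mul]; exact hg μ hμ)
  obtain ⟨m, -, hm'⟩ := PosLin.Kodaira.exists_sections (k := k) hn hH hL hu hH.1
  obtain ⟨φ, hφ⟩ := PosLin.Kodaira.exists_mono (k := k) hH.1
    (TensorMod.Invertible.isInvertible_tensorPow hL m) hm'
  exact ⟨m, φ, hφ⟩

end Groth.Agent.Lib.Nakai.Big
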