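import Groth.Agent.Lib.Nakai.Main
import Groth.Agent.Lib.Snapper.DimBound
import Groth.Agent.Lib.Snapper.Poly

/-!
# The Nakai–Moishezon criterion in terms of numerical polynomials
-/

set_option autoImplicit false
set_option linter.style.haveILetI false
set_option linter.unusedSectionVars false
universe u

open CategoryTheory CategoryTheory.Limits AlgebraicGeometry TopologicalSpace

namespace Groth.Agent.Lib.Nakai.Criterion

open Groth.Agent.Lib Groth.Agent.Lib.Snapper

/-- An integral closed subscheme is the reduced closure of its generic point. -/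
theorem exists_eq_ptIdeal {X : Scheme.{u}} (Z : X.IdealSheafData) [IsIntegral Z.subscheme] :
    ∃ y : X, Z = IntMult.ptIdeal y ∧ (Z.support : Set X) = closure {y} := by
  set g := genericPoint Z.subscheme
  have hs : (Z.support : Set X) = closure {Z.subschemeι g} := by
    rw [← Z.range_subschemeι, ← Set.image_univ, ← (genericPoint_spec Z.subscheme).def,
      ← Z.subschemeι.isClosedEmbedding.closure_image_eq, Set.image_singleton]
  refine ⟨Z.subschemeι g, ?_, hs⟩
  refine (Scheme.IdealSheafData.ker_subschemeι Z).symm.trans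
    ((H75.RedKer.ker_eq_vanishingIdeal Z.subschemeι).trans ?_)
  refine congrArg Scheme.IdealSheafData.vanishingIdeal (Closeds.ext ?_)
  show closure (Set.range Z.subschemeι) = closure {Z.subschemeι g}
  rw [Z.range_subschemeι, hs, closure_closure]

variable {k : Type u} [Field k] {X : Scheme.{u}} [X.Over (Spec (CommRingCat.of k))]
  [IsProper (X ↘ Spec (CommRingCat.of k))]

theorem pdim_eq_of_dim {y : X} {d : ℕ} (h : topologicalKrullDim (closure ({y} : Set X)) = (d : ℕ)) :
    Main.pd k y = d := by
  rw [VarDim.Basic.topologicalKrullDim_isGenericPoint (X ↘ Spec (CommRingCat.of k))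
    (show IsGenericPoint y (closure ({y} : Set X)) from rfl)] at h
  exact_mod_cast h

/-- The leading coefficient on an integral closed subscheme is the degree. -/
theorem coeff_eq_degOn {N : ℕ} (hN : topologicalKrullDim X ≤ N) {L : X.Modules}
    (hL : PicF.IsInvertible L) (y : X) {d : ℕ} (hd : Main.pd k y = d)
    {P : MvPolynomial (Fin d) ℚ}
    (hP : ∀ n : Fin d → ℕ,
      (Curv2.euler k X (Curv2.tensorPows (_root_.ClSub.quotMod (IntMult.ptIdeal y)) d (fun _ => L) n) : ℚ) =
        MvPolynomial.eval (fun i => (n i : ℚ)) P) :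
    MvPolynomial.coeff (Finsupp.equivFunOnFinite.symm fun _ : Fin d => 1) P =
      (Main.degOn k N L y : ℚ) := by
  have hsupp : topologicalKrullDim
      (CohB1.support (_root_.ClSub.quotMod (IntMult.ptIdeal y))) ≤ d := by
    rw [ClSub.Quot.support_quotMod]
    show topologicalKrullDim (closure ({y} : Set X)) ≤ _
    rw [VarDim.Basic.topologicalKrullDim_isGenericPoint (X ↘ Spec (CommRingCat.of k))
      (show IsGenericPoint y (closure ({y} : Set X)) from rfl)]
    exact_mod_cast hd.le
  rw [H97.IntMult.coeff_eq_sym hN (SurfInt.Effective.isCoh_quotMod _) hsupp (fun _ => hL) hP,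
    List.ofFn_const, Main.degOn, hd]
  rfl

/-- There is such a polynomial. -/
theorem exists_poly {L : X.Modules} (hL : PicF.IsInvertible L) (Z : X.IdealSheafData) (d : ℕ) :
    ∃ P : MvPolynomial (Fin d) ℚ, ∀ n : Fin d → ℕ,
      (Curv2.euler k X (Curv2.tensorPows (_root_.ClSub.quotMod Z) d (fun _ => L) n) : ℚ) =
        MvPolynomial.eval (fun i => (n i : ℚ)) P := by
  haveI := Curves.GlobalSections.isNoetherian_of_proper k X
  obtain ⟨N, hN⟩ := Snapper.DimBound.exists_dim_bound k X
  obtain ⟨P, -, hP⟩ := Poly.exists_poly (d := N) (Finite.cohFinite k X) hN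
    (SurfInt.Effective.isCoh_quotMod Z) N
    ((Devissage.Dim.dim_mono (Set.subset_univ _)).trans
      ((Homeomorph.Set.univ X).isHomeomorph.topologicalKrullDim_eq.le.trans hN))
    d (fun _ => L) (fun _ => hL) [] (by simp)
  refine ⟨P, fun n => ?_⟩
  obtain ⟨e⟩ := Poly.exists_tensorPowsIso (_root_.ClSub.quotMod Z) d (fun _ => L) n
  rw [Chi.euler_eq_eulerCharLE hN, Chi.eulerCharLE_of_iso e N]
  exact hP n

/-- **Nakai–Moishezon.** -/
theorem isAmple_iff {L : X.Modules} (hL : PicF.IsInvertible L) :
    CohB1.IsAmple L ↔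
      ∀ (Z : X.IdealSheafData) [IsIntegral Z.subscheme] (d : ℕ), 0 < d →
        topologicalKrullDim (Z.support : Set X) = d →
        ∀ P : MvPolynomial (Fin d) ℚ,
          (∀ n : Fin d → ℕ,
            (Curv2.euler k X (Curv2.tensorPows (_root_.ClSub.quotMod Z) d (fun _ => L) n) : ℚ) =
              MvPolynomial.eval (fun i => (n i : ℚ)) P) →
          0 < MvPolynomial.coeff (Finsupp.equivFunOnFinite.symm fun _ : Fin d => 1) P := by
  haveI := Curves.GlobalSections.isNoetherian_of_proper k X
  obtain ⟨N, hN⟩ := Snapper.DimBound.exists_dim_bound k X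
  constructor
  · intro hA Z _ d hd hdim P hP
    obtain ⟨y, rfl, hs⟩ := exists_eq_ptIdeal Z
    have hdim' : topologicalKrullDim (closure ({y} : Set X)) = (d : ℕ) := by rw [← hs]; exact hdim
    have hy := pdim_eq_of_dim (k := k) hdim'
    rw [coeff_eq_degOn hN hL y hy hP, Main.degOn, hy, Int.cast_pos]
    obtain ⟨M, hM, ⟨e⟩⟩ := TensorMod.Invertible.exists_inverse hL
    have hcoh := Devissage.Closure.isCoh_closureStructureSheaf y
    have hsupp : topologicalKrullDim (CohB1.support (Cyc.closureStructureSheaf y)) ≤ d :=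
      (Devissage.Dim.dim_mono (Devissage.Closure.support_closureStructureSheaf y)).trans hdim'.le
    have h := H97.AsympRR.sym_replicate_inverse k hN hL hM e hcoh d [] (by simp)
      (by simpa using hsupp)
    simp only [List.append_nil] at h
    rw [← h]
    exact IntTheory.Positive.sym_closure_pos hN _
      (fun Q hQ => List.eq_of_mem_replicate hQ ▸ hM)
      (fun Q hQ => ⟨L, hA, List.eq_of_mem_replicate hQ ▸ ⟨e⟩⟩) y
      (by rw [List.length_replicate]; exact hdim')
  · intro h
    refine Main.isAmple (k := k) hN hL fun y hy => ?_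
    obtain ⟨P, hP⟩ := exists_poly (k := k) hL (IntMult.ptIdeal y) (Main.pd k y)
    haveI := IntTheory.Curves.isIntegral_ptIdeal y
    have := h (IntMult.ptIdeal y) (Main.pd k y) hy
      (VarDim.Basic.topologicalKrullDim_isGenericPoint (X ↘ Spec (CommRingCat.of k))
        (show IsGenericPoint y (closure ({y} : Set X)) from rfl)) P hP
    rwa [coeff_eq_degOn hN hL y rfl hP, Int.cast_pos] at this

end Groth.Agent.Lib.Nakai.Criterion
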