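import Groth.Agent.Lib.Nakai.Main
import Groth.Agent.Lib.IntTheory.Positive

/-!
# Cutting an intersection number by a section of an ample module
-/

set_option autoImplicit false
set_option linter.style.haveILetI false
set_option linter.unusedSectionVars false
universe u

open CategoryTheory CategoryTheory.Limits AlgebraicGeometry TopologicalSpace

namespace Groth.Agent.Lib.Nakai.Cut

open Groth.Agent.Lib Groth.Agent.Lib.Snapper Groth.Agent.Lib.IntTheory
open Groth.Agent.Lib.Snapper.Vanish (sym sym_cons sym_of_iso)
open Groth.Agent.Lib.TensorMod.Basic (rightUnit)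

local notation "pb" => Scheme.Modules.pullback

/-- The intersection number `(L₁ ⋯ Lᵣ · V)` on the closure `V` of `y`. -/
noncomputable def ip (k : Type u) [Field k] {X : Scheme.{u}} [X.Over (Spec (CommRingCat.of k))]
    (N : ℕ) (l : List X.Modules) (y : X) : ℤ :=
  (-1 : ℤ) ^ l.length * sym k X N l (Cyc.closureStructureSheaf y)

/-- Ampleness on the closure of a point. -/
def AmpleAt {X : Scheme.{u}} (H : X.Modules) (y : X) : Prop :=
  CohB1.IsAmple ((pb (IntMult.ptIdeal y).subschemeι).obj H)

theorem ampleAt_specializes {X : Scheme.{u}} {H : X.Modules} {y z : X} (h : AmpleAt H y)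
    (hyz : y ⤳ z) : AmpleAt H z := by
  haveI : AlgebraicGeometry.IsReduced (IntMult.ptIdeal z).subscheme :=
    H75.RedSub.isReduced_vanishingIdeal _
  refine Step.isAmple_of_range_subset (IntMult.ptIdeal z).subschemeι
    (IntMult.ptIdeal y).subschemeι ?_ h
  rw [Devissage.Closure.range_ptIdeal, Devissage.Closure.range_ptIdeal]
  exact closure_minimal (Set.singleton_subset_iff.2 hyz.mem_closure) isClosed_closure

theorem ampleAt_of_isAmple {X : Scheme.{u}} {H : X.Modules} (h : CohB1.IsAmple H) (y : X) :
    AmpleAt H y :=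
  Ample.Pullback.isAmple_pullback _ (Ample.Pullback.isQuasiAffine_of_isAffineHom _) h

variable {k : Type u} [Field k] {X : Scheme.{u}} [X.Over (Spec (CommRingCat.of k))]
  [IsProper (X ↘ Spec (CommRingCat.of k))] {N : ℕ} (hN : topologicalKrullDim X ≤ N)

theorem degOn_eq_ip (L : X.Modules) (y : X) :
    Main.degOn k N L y = ip k N (List.replicate (Main.pd k y) L) y := by
  rw [Main.degOn, ip, List.length_replicate]

theorem ip_perm {l l' : List X.Modules} (h : l.Perm l') (y : X) : ip k N l y = ip k N l' y := by
  rw [ip, ip, IntNum.sym_perm h, h.length_eq]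

theorem dim_closure (y : X) :
    topologicalKrullDim (closure ({y} : Set X)) = (Main.pd k y : ℕ) :=
  VarDim.Basic.topologicalKrullDim_isGenericPoint (X ↘ Spec (CommRingCat.of k))
    (show IsGenericPoint y (closure ({y} : Set X)) from rfl)

theorem dim_support_closure (y : X) :
    topologicalKrullDim (CohB1.support (Cyc.closureStructureSheaf y)) ≤ (Main.pd k y : ℕ) :=
  (Devissage.Dim.dim_mono (Devissage.Closure.support_closureStructureSheaf y)).trans
    (dim_closure y).le

include hN

/-- The intersection number of a point is positive. -/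
theorem ip_nil_pos {y : X} (hy : Main.pd k y = 0) : 0 < ip k N [] y := by
  haveI := Curves.GlobalSections.isNoetherian_of_proper k X
  rw [ip, List.length_nil, pow_zero, one_mul]
  exact Positive.euler_point_pos (k := k) (d := N) (by rw [dim_closure (k := k) y, hy]; rfl)

/-- Linearity in the first entry. -/
theorem ip_tensor {L L' : X.Modules} (hL : PicF.IsInvertible L) (hL' : PicF.IsInvertible L')
    {l : List X.Modules} (hl : ∀ M ∈ l, PicF.IsInvertible M) {y : X}
    (hy : Main.pd k y ≤ l.length + 1) :
    ip k N (CohB1.tensorMod L L' :: l) y = ip k N (L :: l) y + ip k N (L' :: l) y := by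
  haveI := Curves.GlobalSections.isNoetherian_of_proper k X
  simp only [ip, List.length_cons]
  rw [IntNum.sym_tensor_of_dim (Finite.cohFinite k X) hN hL hL' l hl
    (Devissage.Closure.isCoh_closureStructureSheaf y)
    (IntTheory.Basic.dim_lt_add_two ((dim_support_closure y).trans (by exact_mod_cast hy)))]
  ring

theorem ip_pow {L : X.Modules} (hL : PicF.IsInvertible L) {l : List X.Modules}
    (hl : ∀ M ∈ l, PicF.IsInvertible M) {y : X} (hy : Main.pd k y ≤ l.length + 1) (n : ℕ) :
    ip k N (CohB1.tensorPow L n :: l) y = n * ip k N (L :: l) y := by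
  haveI := Curves.GlobalSections.isNoetherian_of_proper k X
  simp only [ip, List.length_cons]
  rw [IntTheory.Basic.sym_pow (Finite.cohFinite k X) hN hL hl
    (Devissage.Closure.isCoh_closureStructureSheaf y)
    ((dim_support_closure y).trans (by exact_mod_cast hy)) n]
  ring

/-- A section of a power of `H` on the closure of `y` cuts out a module of dimension one less. -/
theorem exists_cut {l : List X.Modules} (hl : ∀ M ∈ l, PicF.IsInvertible M) {H : X.Modules}
    (hH : PicF.IsInvertible H) {y : X} (hy : Main.pd k y = l.length + 1) (hamp : AmpleAt H y) :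
    ∃ (n : ℕ) (Q : X.Modules), 0 < n ∧ Coh.IsCoh Q ∧
      CohB1.support Q ⊆ closure ({y} : Set X) ∧
      topologicalKrullDim (CohB1.support Q) = l.length ∧
      (n : ℤ) * ip k N (H :: l) y = (-1 : ℤ) ^ l.length * sym k X N l Q := by
  haveI := Curves.GlobalSections.isNoetherian_of_proper k X
  have hfin := Finite.cohFinite k X
  let I := IntMult.ptIdeal y
  let i := I.subschemeι
  let fY := i ≫ (X ↘ Spec (CommRingCat.of k))
  haveI : IsIntegral I.subscheme := IntTheory.Curves.isIntegral_ptIdeal y
  haveI : IsLocallyNoetherian I.subscheme := LocallyOfFiniteType.isLocallyNoetherian i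
  have hdimY : topologicalKrullDim I.subscheme = (l.length + 1 : ℕ) :=
    (IntTheory.Curves.dim_ptIdeal y).trans ((dim_closure y).trans (congrArg Nat.cast hy))
  obtain ⟨n, s, hgen₀, haff⟩ := hamp.2.2 (genericPoint I.subscheme)
  have hHn := TensorMod.Invertible.isInvertible_tensorPow hH (n + 1)
  let sY : Coh.structureModule I.subscheme ⟶ (TensorMod.Pullback.pb i).obj (CohB1.tensorPow H (n + 1)) :=
    s ≫ (Ample.Pow.pullbackPow i H (n + 1)).inv
  have hloc : CohB1.genLocus _ sY = CohB1.genLocus _ s :=
    Ample.GenLocus.genLocus_comp_iso _ (Ample.Pow.pullbackPow i H (n + 1)).symm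
  have hgen : genericPoint I.subscheme ∈ CohB1.genLocus _ sY := hloc ▸ hgen₀
  have hne : CohB1.genLocus _ sY ≠ ⊤ := by
    intro htop
    rw [hloc] at htop
    rw [htop] at haff
    have : IsAffine (⊤ : I.subscheme.Opens) := haff
    have : IsAffine I.subscheme := .of_isIso (Scheme.topIso I.subscheme).inv
    have : IsFinite fY := IsFinite.iff_isProper_and_isAffineHom.mpr ⟨inferInstance, inferInstance⟩
    have : Finite I.subscheme := by
      have h := Scheme.Hom.finite_preimage_singleton fY
        (IsLocalRing.closedPoint k : Spec (CommRingCat.of k))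
      exact Set.finite_univ_iff.mp (h.subset fun x _ => Subsingleton.elim (α := PrimeSpectrum k) _ _)
    have : JacobsonSpace I.subscheme := LocallyOfFiniteType.jacobsonSpace fY
    have h := topologicalKrullDim_zero_of_discreteTopology I.subscheme
    rw [hdimY] at h
    exact absurd (show l.length + 1 ≤ 0 by exact_mod_cast h) (by omega)
  obtain ⟨hmono, hdimQ⟩ :=
    Positive.dim_support_coker fY hdimY (PicLoc.isInvertible_pullback i hHn) sY hgen hne
  have := DerivedOX.PushExact.preservesFiniteColimits_pushforward i
  have hS := (Devissage.Basic.exists_ses_mono sY).map_of_exact (Coh.push i)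
  let Q := (Coh.push i).obj (cokernel sY)
  have hcohQ : Coh.IsCoh Q := Cyc.Dev.SchemeEquiv.isCoh_push i
    (CohBasics.Closure.isCoh_cokernel sY (Snapper.Twist.isCoh_structureModule _).1
      (Ample.GG.isCoh_of_isInvertible (PicLoc.isInvertible_pullback i hHn)))
  have hsuppQ : topologicalKrullDim (CohB1.support Q) = l.length := by
    rw [Positive.support_push, ← hdimQ]
    exact ((i.isClosedEmbedding.isEmbedding.homeomorphImage _).isHomeomorph.topologicalKrullDim_eq).symm
  refine ⟨n + 1, Q, n.succ_pos, hcohQ, ?_, hsuppQ, ?_⟩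
  · rw [Positive.support_push, ← Devissage.Closure.range_ptIdeal y]
    exact Set.image_subset_range _ _
  have e₂ : CohB1.tensorMod (CohB1.tensorPow H (n + 1)) (Cyc.closureStructureSheaf y) ≅
      (Coh.push i).obj ((TensorMod.Pullback.pb i).obj (CohB1.tensorPow H (n + 1))) :=
    (Modules.ProjFormula.projIso i (Modules.DualBasis.hasDBases_of_isFinLocFree
        (TensorMod.LocFree.of_rank (TensorMod.LocFree.of_isInvertible hHn)))).app
        (Coh.structureModule I.subscheme) ≪≫
      (Coh.push i).mapIso (rightUnit _)
  have hadd := (Additive.isAdd_sym hfin hN hl).add hS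
    (Devissage.Closure.isCoh_closureStructureSheaf y)
    (Cyc.Dev.SchemeEquiv.isCoh_push i
      (Ample.GG.isCoh_of_isInvertible (PicLoc.isInvertible_pullback i hHn))) hcohQ
  change sym k X N l ((Coh.push i).obj ((TensorMod.Pullback.pb i).obj (CohB1.tensorPow H (n + 1)))) =
    sym k X N l (Cyc.closureStructureSheaf y) + sym k X N l Q at hadd
  rw [← sym_of_iso l e₂] at hadd
  have hp := ip_pow (k := k) hN hH hl (y := y) hy.le (n + 1)
  rw [← hp, ip, sym_cons, hadd, List.length_cons]
  ring

/-- Nonnegativity one dimension below gives nonnegativity. -/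
theorem cut_nonneg {l : List X.Modules} (hl : ∀ M ∈ l, PicF.IsInvertible M) {H : X.Modules}
    (hH : PicF.IsInvertible H) {y : X} (hy : Main.pd k y = l.length + 1) (hamp : AmpleAt H y)
    (h : ∀ z : X, y ⤳ z → Main.pd k z = l.length → 0 ≤ ip k N l z) :
    0 ≤ ip k N (H :: l) y := by
  haveI := Curves.GlobalSections.isNoetherian_of_proper k X
  obtain ⟨n, Q, hn, hQ, hsub, hdim, he⟩ := exists_cut (k := k) hN hl hH hy hamp
  have hfin := Finite.cohFinite k X
  have := hQ.2
  have hsum := Additive.eq_sum (Additive.isAdd_sym hfin hN hl)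
    (Additive.vanishBelow_sym hfin hN hl rfl) hQ
    (T := ⟨_, Modules.Support.isClosed_support Q⟩) subset_rfl hdim.le
  rw [hsum, Finset.mul_sum] at he
  have hpos : 0 ≤ (n : ℤ) * ip k N (H :: l) y := by
    rw [he]
    refine Finset.sum_nonneg fun z hz => ?_
    obtain ⟨hzQ, hzd⟩ := (Set.Finite.mem_toFinset _).1 hz
    have hz' := h z (specializes_iff_mem_closure.2 (hsub hzQ))
      (by rw [dim_closure (k := k) z] at hzd; exact_mod_cast hzd)
    rw [mul_left_comm]
    exact mul_nonneg (Int.natCast_nonneg _) hz'
  exact nonneg_of_mul_nonneg_right hpos (by exact_mod_cast hn)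

/-- Positivity one dimension below gives positivity. -/
theorem cut_pos {l : List X.Modules} (hl : ∀ M ∈ l, PicF.IsInvertible M) {H : X.Modules}
    (hH : PicF.IsInvertible H) {y : X} (hy : Main.pd k y = l.length + 1) (hamp : AmpleAt H y)
    (h : ∀ z : X, y ⤳ z → Main.pd k z = l.length → 0 < ip k N l z) :
    0 < ip k N (H :: l) y := by
  haveI := Curves.GlobalSections.isNoetherian_of_proper k X
  obtain ⟨n, Q, hn, hQ, hsub, hdim, he⟩ := exists_cut (k := k) hN hl hH hy hamp
  have hfin := Finite.cohFinite k X
  have hA := Additive.isAdd_sym (k := k) hfin hN hl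
  have hV := Additive.vanishBelow_sym (k := k) hfin hN hl (n := l.length) rfl
  have hpos : 0 < (n : ℤ) * ip k N (H :: l) y := by
    rw [he]
    refine Additive.pos (X ↘ Spec (CommRingCat.of k))
      (φ := fun F => (-1 : ℤ) ^ l.length * sym k X N l F) (n := l.length)
      ⟨fun e => by simp only [hA.iso e], fun hz => by simp only [hA.zero hz, mul_zero],
        fun hS h₁ h₂ h₃ => by simp only [hA.add hS h₁ h₂ h₃, mul_add]⟩
      (fun F hF hlt => by simp only [hV F hF hlt, mul_zero]) hQ hdim fun z hz => ?_
    obtain ⟨hzQ, hzd⟩ := hz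
    exact h z (specializes_iff_mem_closure.2 (hsub hzQ))
      (by rw [dim_closure (k := k) z] at hzd; exact_mod_cast hzd)
  exact pos_of_mul_pos_right hpos (Int.natCast_nonneg _)

end Groth.Agent.Lib.Nakai.Cut
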