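import Groth.Agent.Lib.Nakai.Step
import Groth.Agent.Lib.IntTheory.Push

/-!
# The Nakai–Moishezon criterion
-/

set_option autoImplicit false
set_option linter.style.haveILetI false
set_option linter.unusedSectionVars false
universe u

open CategoryTheory CategoryTheory.Limits AlgebraicGeometry TopologicalSpace

namespace Groth.Agent.Lib.Nakai.Main

open Groth.Agent.Lib Groth.Agent.Lib.Snapper

variable {k : Type u} [Field k] {X : Scheme.{u}} [X.Over (Spec (CommRingCat.of k))]
  [IsProper (X ↘ Spec (CommRingCat.of k))]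

/-- The dimension of a point of `X`. -/
noncomputable abbrev pd (k : Type u) [Field k] {X : Scheme.{u}}
    [X.Over (Spec (CommRingCat.of k))] (y : X) : ℕ :=
  VarDim.Basic.pdim (X ↘ Spec (CommRingCat.of k)) y

/-- The degree `(L^e · V)` of `L` on the closure `V` of `y`, `e = dim V`. -/
noncomputable def degOn (k : Type u) [Field k] {X : Scheme.{u}} [X.Over (Spec (CommRingCat.of k))]
    (N : ℕ) (L : X.Modules) (y : X) : ℤ :=
  (-1 : ℤ) ^ pd k y * Vanish.sym k X N (List.replicate (pd k y) L) (Cyc.closureStructureSheaf y)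

/-- Induction on the dimension, on a set of points stable under specialization. -/
theorem isAmple_ptIdeal_ind_on {N : ℕ} (hN : topologicalKrullDim X ≤ N) {L : X.Modules}
    (hL : PicF.IsInvertible L) (S : Set X) (hS : ∀ a ∈ S, ∀ b, a ⤳ b → b ∈ S)
    (hcurve : ∀ y ∈ S, pd k y = 1 → 0 < degOn k N L y)
    (hsec : ∀ y ∈ S, 2 ≤ pd k y →
      (∀ z : (IntMult.ptIdeal y).subscheme, z ≠ @genericPoint (IntMult.ptIdeal y).subscheme _ _
          (haveI := IntTheory.Curves.isIntegral_ptIdeal y; inferInstance) →
        CohB1.IsAmple ((Scheme.Modules.pullback (IntMult.ptIdeal z).subschemeι).obj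
          ((Scheme.Modules.pullback (IntMult.ptIdeal y).subschemeι).obj L))) →
      ∃ (m : ℕ) (s : Coh.structureModule (IntMult.ptIdeal y).subscheme ⟶ CohB1.tensorPow
        ((Scheme.Modules.pullback (IntMult.ptIdeal y).subschemeι).obj L) m), 0 < m ∧ s ≠ 0) :
    ∀ (e : ℕ) (y : X), y ∈ S → pd k y = e →
      CohB1.IsAmple ((Scheme.Modules.pullback (IntMult.ptIdeal y).subschemeι).obj L) := by
  haveI := Curves.GlobalSections.isNoetherian_of_proper k X
  intro e
  induction e using Nat.strong_induction_on with
  | _ e ih =>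
  intro y hyS hy
  let Z := IntMult.ptIdeal y
  let i := Z.subschemeι
  letI : Z.subscheme.Over (Spec (CommRingCat.of k)) := ⟨i ≫ (X ↘ Spec (CommRingCat.of k))⟩
  haveI : IsProper (Z.subscheme ↘ Spec (CommRingCat.of k)) :=
    inferInstanceAs (IsProper (i ≫ (X ↘ Spec (CommRingCat.of k))))
  haveI : IsIntegral Z.subscheme := IntTheory.Curves.isIntegral_ptIdeal y
  haveI := Curves.GlobalSections.isNoetherian_of_proper k Z.subscheme
  have hLi := PicLoc.isInvertible_pullback i hL
  have hdimZ : topologicalKrullDim Z.subscheme = (e : ℕ) := by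
    rw [IntTheory.Curves.dim_ptIdeal, VarDim.Basic.topologicalKrullDim_isGenericPoint
      (X ↘ Spec (CommRingCat.of k))
      (show IsGenericPoint y (closure ({y} : Set X)) from rfl)]
    exact congrArg Nat.cast hy
  rcases Nat.eq_zero_or_pos e with he | he
  · subst he
    haveI : IsAffine Z.subscheme := by
      obtain ⟨U, hU, hxU, -⟩ := exists_isAffineOpen_mem_and_subset
        (U := (⊤ : Z.subscheme.Opens)) (x := genericPoint Z.subscheme) trivial
      have htop : U = ⊤ := top_le_iff.mp fun z _ => by
        rw [PosLin.Kodaira.eq_genericPoint_of_dim_zero (k := k) hdimZ z]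
        exact hxU
      haveI : IsAffine ((⊤ : Z.subscheme.Opens) : Scheme.{u}) := htop ▸ hU
      exact IsAffine.of_isIso Z.subscheme.topIso.inv
    exact Ample.RelAmple.isAmple_of_isAffine hLi
  have hsub : ∀ z : Z.subscheme, z ≠ genericPoint Z.subscheme →
      CohB1.IsAmple ((Scheme.Modules.pullback (IntMult.ptIdeal z).subschemeι).obj
        ((Scheme.Modules.pullback i).obj L)) := fun z hz => Step.isAmple_sub i z (by
    have hηy : i (genericPoint Z.subscheme) = y := by
      refine IsGenericPoint.eq (α := X) ?_ (show IsGenericPoint y (closure ({y} : Set X)) from rfl)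
      show closure {i (genericPoint Z.subscheme)} = closure {y}
      rw [← Devissage.Closure.range_ptIdeal y, ← Set.image_univ,
        ← (genericPoint_spec Z.subscheme).def, ← i.isClosedEmbedding.closure_image_eq,
        Set.image_singleton]
    have hlt : pd k (i z) < pd k y := by
      rw [← hηy]
      exact VarDim.Basic.pdim_lt _
        (((genericPoint_spec Z.subscheme).specializes (Set.mem_univ z)).map i.continuous)
        fun e' => hz (i.isClosedEmbedding.injective e').symm
    refine ih (pd k (i z)) (hy ▸ hlt) (i z) (hS y hyS _ ?_) rfl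
    rw [← hηy]
    exact ((genericPoint_spec Z.subscheme).specializes (Set.mem_univ z)).map i.continuous)
  rcases Nat.lt_or_ge e 2 with he1 | he2
  · obtain rfl : e = 1 := by omega
    refine Step.isAmple_of_curve (k := k) hdimZ hLi ?_
    have hp := hcurve y hyS hy
    rw [degOn, hy] at hp
    have h := IntTheory.Push.sym_push (k := k) i rfl (d := N) (d' := 1) hN hdimZ.le (List.replicate 1 L)
      (fun M hM => List.eq_of_mem_replicate hM ▸ hL) (Coh.structureModule Z.subscheme)
      (Twist.isCoh_structureModule _) (by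
        rw [List.length_replicate, H97.AsympRR.dim_support_structureModule, hdimZ])
    rw [List.map_replicate] at h
    exact hp.trans_eq (congrArg _ h.symm)
  · obtain ⟨m, s, hm, hs⟩ := hsec y hyS (hy.symm ▸ he2) hsub
    exact Step.isAmple_of_section (k := k) he2 hdimZ hLi hsub hm s hs

/-- Induction on the dimension: positive degree on curves and effectivity above. -/
theorem isAmple_ptIdeal_ind {N : ℕ} (hN : topologicalKrullDim X ≤ N) {L : X.Modules}
    (hL : PicF.IsInvertible L) (hcurve : ∀ y : X, pd k y = 1 → 0 < degOn k N L y)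
    (hsec : ∀ y : X, 2 ≤ pd k y →
      (∀ z : (IntMult.ptIdeal y).subscheme, z ≠ @genericPoint (IntMult.ptIdeal y).subscheme _ _
          (haveI := IntTheory.Curves.isIntegral_ptIdeal y; inferInstance) →
        CohB1.IsAmple ((Scheme.Modules.pullback (IntMult.ptIdeal z).subschemeι).obj
          ((Scheme.Modules.pullback (IntMult.ptIdeal y).subschemeι).obj L))) →
      ∃ (m : ℕ) (s : Coh.structureModule (IntMult.ptIdeal y).subscheme ⟶ CohB1.tensorPow
        ((Scheme.Modules.pullback (IntMult.ptIdeal y).subschemeι).obj L) m), 0 < m ∧ s ≠ 0) :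
    ∀ (e : ℕ) (y : X), pd k y = e →
      CohB1.IsAmple ((Scheme.Modules.pullback (IntMult.ptIdeal y).subschemeι).obj L) :=
  fun e y => isAmple_ptIdeal_ind_on (k := k) hN hL Set.univ (fun _ _ _ _ => Set.mem_univ _)
    (fun y _ => hcurve y) (fun y _ => hsec y) e y (Set.mem_univ y)

/-- **Nakai–Moishezon**, on a set of points stable under specialization. -/
theorem isAmple_ptIdeal_on {N : ℕ} (hN : topologicalKrullDim X ≤ N) {L : X.Modules}
    (hL : PicF.IsInvertible L) (S : Set X) (hS : ∀ a ∈ S, ∀ b, a ⤳ b → b ∈ S)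
    (hpos : ∀ y ∈ S, 0 < pd k y → 0 < degOn k N L y) :
    ∀ (e : ℕ) (y : X), y ∈ S → pd k y = e →
      CohB1.IsAmple ((Scheme.Modules.pullback (IntMult.ptIdeal y).subschemeι).obj L) := by
  refine isAmple_ptIdeal_ind_on (k := k) hN hL S hS (fun y hyS hy => hpos y hyS (by omega)) fun y hyS hy hsub => ?_
  let Z := IntMult.ptIdeal y
  let i := Z.subschemeι
  letI : Z.subscheme.Over (Spec (CommRingCat.of k)) := ⟨i ≫ (X ↘ Spec (CommRingCat.of k))⟩
  haveI : IsProper (Z.subscheme ↘ Spec (CommRingCat.of k)) :=
    inferInstanceAs (IsProper (i ≫ (X ↘ Spec (CommRingCat.of k))))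
  haveI : IsIntegral Z.subscheme := IntTheory.Curves.isIntegral_ptIdeal y
  haveI := Curves.GlobalSections.isNoetherian_of_proper k X
  haveI := Curves.GlobalSections.isNoetherian_of_proper k Z.subscheme
  have hdimZ : topologicalKrullDim Z.subscheme = (pd k y : ℕ) := by
    rw [IntTheory.Curves.dim_ptIdeal, VarDim.Basic.topologicalKrullDim_isGenericPoint
      (X ↘ Spec (CommRingCat.of k))
      (show IsGenericPoint y (closure ({y} : Set X)) from rfl)]
  have hp := hpos y hyS (by omega)
  rw [degOn] at hp
  have h := IntTheory.Push.sym_push (k := k) i rfl (d := N) (d' := pd k y) hN hdimZ.le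
    (List.replicate (pd k y) L)
    (fun M hM => List.eq_of_mem_replicate hM ▸ hL) (Coh.structureModule Z.subscheme)
    (Twist.isCoh_structureModule _) (by
      rw [List.length_replicate, H97.AsympRR.dim_support_structureModule, hdimZ])
  rw [List.map_replicate] at h
  obtain ⟨m, hm, h0⟩ := Sections.exists_section (k := k) hdimZ (PicLoc.isInvertible_pullback i hL)
    hsub (by omega) (hp.trans_eq (congrArg _ h.symm))
  obtain ⟨s, hs⟩ := PosLin.Kodaira.exists_section (k := k) h0
  exact ⟨m, s, hm, hs⟩

/-- **Nakai–Moishezon**: positivity on every integral closed subscheme gives ampleness. -/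
theorem isAmple_ptIdeal {N : ℕ} (hN : topologicalKrullDim X ≤ N) {L : X.Modules}
    (hL : PicF.IsInvertible L) (hpos : ∀ y : X, 0 < pd k y → 0 < degOn k N L y) :
    ∀ (e : ℕ) (y : X), pd k y = e →
      CohB1.IsAmple ((Scheme.Modules.pullback (IntMult.ptIdeal y).subschemeι).obj L) :=
  fun e y => isAmple_ptIdeal_on (k := k) hN hL Set.univ (fun _ _ _ _ => Set.mem_univ _)
    (fun y _ => hpos y) e y (Set.mem_univ y)

theorem isAmple {N : ℕ} (hN : topologicalKrullDim X ≤ N) {L : X.Modules}
    (hL : PicF.IsInvertible L) (hpos : ∀ y : X, 0 < pd k y → 0 < degOn k N L y) :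
    CohB1.IsAmple L :=
  VanDev.isAmple_of_integral k hL fun y => isAmple_ptIdeal (k := k) hN hL hpos _ y rfl

/-- Ampleness from degrees on curves and effectivity. -/
theorem isAmple_of_effective {N : ℕ} (hN : topologicalKrullDim X ≤ N) {L : X.Modules}
    (hL : PicF.IsInvertible L) (hcurve : ∀ y : X, pd k y = 1 → 0 < degOn k N L y)
    (hsec : ∀ y : X, 2 ≤ pd k y →
      ∃ (m : ℕ) (s : Coh.structureModule (IntMult.ptIdeal y).subscheme ⟶ CohB1.tensorPow
        ((Scheme.Modules.pullback (IntMult.ptIdeal y).subschemeι).obj L) m), 0 < m ∧ s ≠ 0) :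
    CohB1.IsAmple L :=
  VanDev.isAmple_of_integral k hL fun y =>
    isAmple_ptIdeal_ind (k := k) hN hL hcurve (fun y hy _ => hsec y hy) _ y rfl

end Groth.Agent.Lib.Nakai.Main
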