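import Groth.Agent.Lib.Nakai.Big
import Groth.Agent.Lib.Nakai.NefConv

/-!
# The volume depends only on the numerical class
-/

set_option autoImplicit false
set_option linter.style.haveILetI false
set_option linter.unusedSectionVars false
universe u

open CategoryTheory CategoryTheory.Limits AlgebraicGeometry TopologicalSpace Filter
open scoped ENNReal

namespace Groth.Agent.Lib.Nakai.VolNum

open Groth.Agent.Lib Groth.Agent.Lib.Snapper Groth.Agent.Lib.IntTheory Groth.Agent.Lib.Nakai.Cut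
open Groth.Agent.Lib.PosLin.SectionBound (h0 h0_congr h0_le_twist h0_le_twist_invertible exists_h0_bound
  isCoh_twist_right)
open Groth.Agent.Lib.TensorMod.Basic (tmap comm assoc tensorIso leftUnit rightUnit)
open Groth.Agent.Lib.TensorMod.Invertible (isInvertible_tensorPow isInvertible_tensorMod
  isInvertible_dual tensorDualIso)
open Groth.Agent.Lib.Ample.Pow (powMul powTensor powAdd powIso powOne powCongr middleFour)

variable {k : Type u} [Field k] {X : Scheme.{u}} [X.Over (Spec (CommRingCat.of k))]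
  [IsProper (X ↘ Spec (CommRingCat.of k))] [IsIntegral X]

/-- `h⁰(Lⁿ ⊗ Hˢ) ≤ h⁰(Lⁿ) + s O(nᵉ)` for `s ≤ n`. -/
theorem exists_mono_bound {e : ℕ} (hd : topologicalKrullDim X = (e + 1 : ℕ)) {L H : X.Modules}
    (hL : PicF.IsInvertible L) (hH : CohB1.IsAmple H) (σ : Coh.structureModule X ⟶ H) (hσ : σ ≠ 0) :
    ∃ K : ℕ, ∀ n s : ℕ, s ≤ n →
      h0 k X (CohB1.tensorMod (CohB1.tensorPow L n) (CohB1.tensorPow H s)) ≤
        h0 k X (CohB1.tensorPow L n) + s * (K * (n + 1) ^ e) := by
  classical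
  haveI := Curves.GlobalSections.isNoetherian_of_proper k X
  obtain ⟨S, hS, h₁, h₂, h₃, hdimD⟩ := Top.exists_divisor (k := k) hd hH.1 σ hσ
  let D := S.X₃
  obtain ⟨q, hq, τ, hτ, -, -⟩ := Ample.Basis.exists_locus_of_finite hH
    {x | Curv2.IsAssPoint D x} (UnifReg.Hyperplane.finite_assPoints h₃) ⊤ (fun _ _ => trivial)
  have hHq := isInvertible_tensorPow hH.1 q
  choose K hK using fun r : ℕ => exists_h0_bound (k := k) (r := e)
    (F := CohB1.tensorMod D (CohB1.tensorPow H r)) hd.le hH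
    (isInvertible_tensorMod hL hH.1) (isCoh_twist_right h₃ (isInvertible_tensorPow hH.1 r)) (by
      rw [Modules.Support.support_congr (comm D (CohB1.tensorPow H r)),
        Twist.support_twist (isInvertible_tensorPow hH.1 r)]
      exact hdimD)
  refine ⟨∑ r ∈ Finset.range q, K r, fun n s => ?_⟩
  induction s with
  | zero =>
    intro _
    rw [Nat.zero_mul, Nat.add_zero]
    exact (h0_congr (rightUnit (CohB1.tensorPow L n))).le
  | succ j ih =>
    intro hj
    set M := CohB1.tensorMod (CohB1.tensorPow L n) (CohB1.tensorPow H j)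
    have hM : PicF.IsInvertible M :=
      isInvertible_tensorMod (isInvertible_tensorPow hL n) (isInvertible_tensorPow hH.1 j)
    have hmid := PosLin.CohBound.hd_mid_le (k := k) (Twist.twistSeq_shortExact hM hS)
      (Twist.isCoh_twist hM (h₁ ▸ Twist.isCoh_structureModule X))
      (Twist.isCoh_twist hM (h₂ ▸ Ample.GG.isCoh_of_isInvertible hH.1)) (Twist.isCoh_twist hM h₃) 0
    have hmid' : h0 k X (CohB1.tensorMod M H) ≤
        h0 k X (CohB1.tensorMod M (Coh.structureModule X)) + h0 k X (CohB1.tensorMod M D) := by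
      have : h0 k X (CohB1.tensorMod M S.X₂) ≤
          h0 k X (CohB1.tensorMod M S.X₁) + h0 k X (CohB1.tensorMod M D) := hmid
      rwa [h₁, h₂] at this
    have hD : h0 k X (CohB1.tensorMod M D) ≤ (∑ r ∈ Finset.range q, K r) * (n + 1) ^ e := by
      obtain ⟨t, r, hr, htr⟩ : ∃ t r, r < q ∧ j + q * t = n + r := by
        have h1 := Nat.div_add_mod (n - j + q - 1) q
        have h2 := Nat.mod_lt (n - j + q - 1) hq
        exact ⟨(n - j + q - 1) / q, q - 1 - (n - j + q - 1) % q, by omega, by omega⟩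
      have hass : ∀ x, Curv2.IsAssPoint (CohB1.tensorMod M D) x →
          x ∈ CohB1.genLocus _ (SecTwist.powHom τ t) := by
        intro x hx
        rcases Nat.eq_zero_or_pos t with rfl | ht
        · show x ∈ CohB1.genLocus _ (𝟙 (Coh.structureModule X))
          rw [Ample.GenLocus.genLocus_id]
          trivial
        rw [Ample.GenLocus.genLocus_powHom hHq τ t ht]
        obtain ⟨φ⟩ := Twist.exists_stalkEquiv_twist hM D x
        exact hτ (LinearEquiv.isAssociatedPrime_iff φ |>.mp hx)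
      have h1 := h0_le_twist (k := k) (Twist.isCoh_twist hM h₃) (isInvertible_tensorPow hHq t)
        (SecTwist.powHom τ t) hass
      refine h1.trans ?_
      have eH : CohB1.tensorMod (CohB1.tensorPow H j) (CohB1.tensorPow (CohB1.tensorPow H q) t) ≅
          CohB1.tensorMod (CohB1.tensorPow H n) (CohB1.tensorPow H r) :=
        tensorIso (Iso.refl _) (powMul H q t) ≪≫ (powAdd H j (q * t)).symm ≪≫ powCongr H htr ≪≫
          powAdd H n r
      have e1 : CohB1.tensorMod (CohB1.tensorMod M D) (CohB1.tensorPow (CohB1.tensorPow H q) t) ≅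
          CohB1.tensorMod (CohB1.tensorMod D (CohB1.tensorPow H r))
            (CohB1.tensorPow (CohB1.tensorMod L H) n) :=
        tensorIso (comm M D) (Iso.refl _) ≪≫ assoc _ _ _ ≪≫
          tensorIso (Iso.refl D) (assoc _ _ _ ≪≫ tensorIso (Iso.refl _) eH ≪≫ (assoc _ _ _).symm ≪≫
            tensorIso (powTensor L H n).symm (Iso.refl _) ≪≫ comm _ _) ≪≫ (assoc _ _ _).symm
      rw [h0_congr e1]
      exact (hK r n).trans (Nat.mul_le_mul_right _
        (Finset.single_le_sum (fun _ _ => Nat.zero_le _) (Finset.mem_range.2 hr)))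
    have e2 : CohB1.tensorMod M H ≅
        CohB1.tensorMod (CohB1.tensorPow L n) (CohB1.tensorPow H (j + 1)) := assoc _ _ _
    rw [← h0_congr e2, add_mul, one_mul]
    rw [h0_congr (rightUnit M)] at hmid'
    have := ih (by omega)
    omega

theorem ip_inv_nil {d : ℕ} (hd : topologicalKrullDim X ≤ d) {L L' : X.Modules}
    (hL : PicF.IsInvertible L) (hL' : PicF.IsInvertible L')
    (e : CohB1.tensorMod L L' ≅ Coh.structureModule X) {y : X} (hy : Main.pd k y = 1) :
    ip k d [L'] y = - ip k d [L] y := by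
  have hO := PicLoc.isInvertible_structureModule X
  have hl : ∀ M ∈ ([] : List X.Modules), PicF.IsInvertible M := fun M hM => by simp at hM
  have hy' : Main.pd k y ≤ ([] : List X.Modules).length + 1 := by simp [hy]
  have hsame : ∀ {A B : X.Modules}, (A ≅ B) → ip k d [A] y = ip k d [B] y := fun i => by
    simp only [ip, List.length_singleton]
    rw [IntNum.sym_cons_iso i]
  have h1 := ip_tensor (k := k) hd hL hL' hl hy'
  have h2 := ip_tensor (k := k) hd hO hO hl hy'
  rw [hsame e] at h1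
  rw [hsame (leftUnit (Coh.structureModule X))] at h2
  omega

/-- An inverse of a numerically trivial module is nef, as is the module. -/
theorem nef_dual {d : ℕ} (hd : topologicalKrullDim X ≤ d) {N : X.Modules} (hN : PicF.IsInvertible N)
    (hNum : Pic13.IsNumEquivZero k X N) : Kleiman.Nef k d (TensorMod.Dual.dual N) := by
  haveI := Curves.GlobalSections.isNoetherian_of_proper k X
  intro z hz
  have hz1 : topologicalKrullDim (closure ({z} : Set X)) = 1 := by
    rw [dim_closure (k := k) z, hz]; rfl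
  have h0 : ip k d [N] z = 0 := by
    rw [NefConv.ip_singleton_eq (k := k) hd N z, IntTheory.Curves.sym_closure hd hz1 hN, neg_neg]
    exact hNum _ (IntMult.ptIdeal z).subschemeι (IntTheory.Curves.isIntegral_ptIdeal z)
      ((IntTheory.Curves.dim_ptIdeal z).trans hz1)
  rw [ip_inv_nil (k := k) hd hN (isInvertible_dual hN) (tensorDualIso hN) hz, h0]
  rfl

/-- On a point `h⁰` does not see invertible modules. -/
theorem h0_eq_of_dim_zero (hd : topologicalKrullDim X = (0 : ℕ)) {G G' : X.Modules}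
    (hG : PicF.IsInvertible G) (hG' : PicF.IsInvertible G') : h0 k X G = h0 k X G' := by
  haveI := Curves.GlobalSections.isNoetherian_of_proper k X
  suffices ∀ A B : X.Modules, PicF.IsInvertible A → PicF.IsInvertible B → h0 k X A ≤ h0 k X B from
    le_antisymm (this G G' hG hG') (this G' G hG' hG)
  intro A B hA hB
  have hE := isInvertible_tensorMod (isInvertible_dual hA) hB
  set E := CohB1.tensorMod (TensorMod.Dual.dual A) B
  have hE' := isInvertible_dual hE
  obtain ⟨a, m₀, -, h₁⟩ := PosLin.SectionBound.exists_growth (k := k) hd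
    (Big.isAmple_of_dim_zero (k := k) hd hE)
  obtain ⟨a', m₁, -, h₂⟩ := PosLin.SectionBound.exists_growth (k := k) hd
    (Big.isAmple_of_dim_zero (k := k) hd hE')
  set m := m₀ + m₁ + 1
  have hp : ∀ {a h : ℕ}, m ^ 0 ≤ a * h → 0 < h := fun {a h} hh => by
    rcases Nat.eq_zero_or_pos h with rfl | hpos
    · simp at hh
    · exact hpos
  have hp' : ∀ {a h : ℕ}, (m + 1) ^ 0 ≤ a * h → 0 < h := fun {a h} hh => by
    rcases Nat.eq_zero_or_pos h with rfl | hpos
    · simp at hh
    · exact hpos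
  obtain ⟨s₁, hs₁⟩ := PosLin.Kodaira.exists_section (k := k) (hp' (h₁ (m + 1) (by omega)))
  obtain ⟨s₂, hs₂⟩ := PosLin.Kodaira.exists_section (k := k) (hp (h₂ m (by omega)))
  have hE1 := isInvertible_tensorPow hE (m + 1)
  have hE2 := isInvertible_tensorPow hE' m
  refine (h0_le_twist_invertible (k := k) hA hE1 s₁ hs₁).trans
    ((h0_le_twist_invertible (k := k) (isInvertible_tensorMod hA hE1) hE2 s₂ hs₂).trans (le_of_eq ?_))
  refine h0_congr (assoc _ _ _ ≪≫ tensorIso (Iso.refl A) ?_ ≪≫ (assoc _ _ _).symm ≪≫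
    tensorIso (tensorDualIso hA) (Iso.refl B) ≪≫ leftUnit B)
  exact tensorIso (comm _ _) (Iso.refl _) ≪≫ assoc _ _ _ ≪≫ tensorIso (Iso.refl E)
    ((powTensor E (TensorMod.Dual.dual E) m).symm ≪≫ powIso (tensorDualIso hE) m ≪≫
      Ample.Pow.powUnit X m) ≪≫ rightUnit E

/-- The volume of `L ⊗ N` is at most that of `L` when `N` is numerically trivial. -/
theorem limsup_le {d : ℕ} (hd : topologicalKrullDim X = d) {A L N : X.Modules} (hA : CohB1.IsAmple A)
    (hL : PicF.IsInvertible L) (hN : PicF.IsInvertible N) (hnef : Kleiman.Nef k d (TensorMod.Dual.dual N)) :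
    limsup (fun m : ℕ => (h0 k X (CohB1.tensorPow (CohB1.tensorMod L N) m) : ℝ≥0∞) / (m : ℝ≥0∞) ^ d)
        atTop ≤
      limsup (fun m : ℕ => (h0 k X (CohB1.tensorPow L m) : ℝ≥0∞) / (m : ℝ≥0∞) ^ d) atTop := by
  haveI := Curves.GlobalSections.isNoetherian_of_proper k X
  have hLN := isInvertible_tensorMod hL hN
  rcases d with _ | e
  · exact le_of_eq (congrArg (fun f => limsup f atTop) (funext fun m => by
      rw [h0_eq_of_dim_zero (k := k) hd (isInvertible_tensorPow hLN m) (isInvertible_tensorPow hL m)]))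
  obtain ⟨a, m₀, -, hgA⟩ := PosLin.SectionBound.exists_growth (k := k) hd hA
  set H := CohB1.tensorPow A (m₀ + 1) with hHdef
  have hH : CohB1.IsAmple H := (Ample.Pow.isAmple_tensorPow_iff hA.1 m₀.succ_pos).mp hA
  obtain ⟨σ, hσ⟩ := PosLin.Kodaira.exists_section (k := k) (M := H) (by
    have h := hgA (m₀ + 1) (by omega)
    rcases Nat.eq_zero_or_pos (h0 k X H) with h' | h'
    · rw [← hHdef, h', Nat.mul_zero] at h
      have := pow_pos (show 0 < m₀ + 1 by omega) (e + 1)
      omega
    · exact h')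
  obtain ⟨K, hK⟩ := exists_mono_bound (k := k) hd hL hH σ hσ
  set V := limsup (fun m : ℕ => (h0 k X (CohB1.tensorPow L m) : ℝ≥0∞) / (m : ℝ≥0∞) ^ (e + 1)) atTop
  set V' := limsup
    (fun m : ℕ => (h0 k X (CohB1.tensorPow (CohB1.tensorMod L N) m) : ℝ≥0∞) / (m : ℝ≥0∞) ^ (e + 1)) atTop
  have hb : ∀ b : ℕ, 0 < b → V' ≤ V + (K * 2 ^ e : ℕ) / (b : ℝ≥0∞) := by
    intro b hb
    have hN'b := isInvertible_tensorPow (isInvertible_dual hN) b
    set Hb := CohB1.tensorMod (CohB1.tensorPow (TensorMod.Dual.dual N) b) (CohB1.tensorPow H 1)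
    have hHb : CohB1.IsAmple Hb :=
      Kleiman.isAmple_tensor (k := k) hd.le (isInvertible_dual hN) hnef hH hb one_pos
    obtain ⟨a', s₀, -, hgB⟩ := PosLin.SectionBound.exists_growth (k := k) hd hHb
    have hev : ∀ s : ℕ, s₀ + 1 ≤ s →
        (h0 k X (CohB1.tensorPow (CohB1.tensorPow (CohB1.tensorMod L N) b) s) : ℝ≥0∞) /
            (s : ℝ≥0∞) ^ (e + 1) ≤
          (h0 k X (CohB1.tensorPow (CohB1.tensorPow L b) s) : ℝ≥0∞) / (s : ℝ≥0∞) ^ (e + 1) +
            ((K * (2 * b) ^ e : ℕ) : ℝ≥0∞) := by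
      intro s hs
      have hsec : 0 < h0 k X (CohB1.tensorPow Hb s) := by
        have h := hgB s (by omega)
        rcases Nat.eq_zero_or_pos (h0 k X (CohB1.tensorPow Hb s)) with h' | h'
        · rw [h', Nat.mul_zero] at h
          have := pow_pos (show 0 < s by omega) (e + 1)
          omega
        · exact h'
      obtain ⟨τ, hτ⟩ := PosLin.Kodaira.exists_section (k := k) hsec
      have h1 := h0_le_twist_invertible (k := k)
        (isInvertible_tensorPow (isInvertible_tensorPow hLN b) s) (isInvertible_tensorPow hHb.1 s) τ hτ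
      have ein : CohB1.tensorMod (CohB1.tensorPow (CohB1.tensorMod L N) b) Hb ≅
          CohB1.tensorMod (CohB1.tensorPow L b) H :=
        tensorIso (powTensor L N b) (Iso.refl _) ≪≫ assoc _ _ _ ≪≫
          tensorIso (Iso.refl _) ((assoc _ _ _).symm ≪≫
            tensorIso ((powTensor N _ b).symm ≪≫ powIso (tensorDualIso hN) b ≪≫ Ample.Pow.powUnit X b)
              (Iso.refl _) ≪≫ leftUnit _ ≪≫ powOne H)
      rw [h0_congr ((powTensor _ _ s).symm ≪≫ powIso ein s ≪≫ powTensor _ _ s ≪≫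
        tensorIso (powMul L b s) (Iso.refl _))] at h1
      have hsn : s ≤ b * s := Nat.le_mul_of_pos_left s hb
      have h2 := hK (b * s) s hsn
      rw [← h0_congr (powMul L b s)] at h2
      have h3 : s * (K * (b * s + 1) ^ e) ≤ K * (2 * b) ^ e * s ^ (e + 1) := by
        have : (b * s + 1) ^ e ≤ (2 * b) ^ e * s ^ e := by
          rw [← mul_pow]
          exact Nat.pow_le_pow_left (by rw [mul_assoc]; omega) e
        calc s * (K * (b * s + 1) ^ e) ≤ s * (K * ((2 * b) ^ e * s ^ e)) := by gcongr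
          _ = K * (2 * b) ^ e * s ^ (e + 1) := by ring
      have h4 : h0 k X (CohB1.tensorPow (CohB1.tensorPow (CohB1.tensorMod L N) b) s) ≤
          h0 k X (CohB1.tensorPow (CohB1.tensorPow L b) s) + K * (2 * b) ^ e * s ^ (e + 1) := by omega
      have hs0 : (s : ℝ≥0∞) ^ (e + 1) ≠ 0 := pow_ne_zero _ (by exact_mod_cast (show s ≠ 0 by omega))
      have hst : (s : ℝ≥0∞) ^ (e + 1) ≠ ⊤ := ENNReal.pow_ne_top (ENNReal.natCast_ne_top s)
      refine (ENNReal.div_le_div_right (Nat.cast_le.2 h4) _).trans_eq ?_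
      rw [Nat.cast_add, ENNReal.add_div, Nat.cast_mul (K * (2 * b) ^ e), Nat.cast_pow s,
        mul_div_assoc, ENNReal.div_self hs0 hst, mul_one]
    have hlim := Filter.limsup_le_limsup (β := ℝ≥0∞) (f := atTop) (u := fun s : ℕ =>
        (h0 k X (CohB1.tensorPow (CohB1.tensorPow (CohB1.tensorMod L N) b) s) : ℝ≥0∞) /
          (s : ℝ≥0∞) ^ (e + 1))
      (v := fun s : ℕ => (h0 k X (CohB1.tensorPow (CohB1.tensorPow L b) s) : ℝ≥0∞) /
          (s : ℝ≥0∞) ^ (e + 1) + ((K * (2 * b) ^ e : ℕ) : ℝ≥0∞))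
      (eventually_atTop.2 ⟨s₀ + 1, hev⟩)
    rw [limsup_add_const atTop (fun s : ℕ => (h0 k X (CohB1.tensorPow (CohB1.tensorPow L b) s) : ℝ≥0∞) /
          (s : ℝ≥0∞) ^ (e + 1)) ((K * (2 * b) ^ e : ℕ) : ℝ≥0∞) (by isBoundedDefault) (by isBoundedDefault),
      PosLin.Volume.limsup_pow (k := k) hd hA hLN hb,
      PosLin.Volume.limsup_pow (k := k) hd hA hL hb] at hlim
    have hb0 : (b : ℝ≥0∞) ^ (e + 1) ≠ 0 := pow_ne_zero _ (by exact_mod_cast hb.ne')
    have hbt : (b : ℝ≥0∞) ^ (e + 1) ≠ ⊤ := ENNReal.pow_ne_top (ENNReal.natCast_ne_top b)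
    rw [← ENNReal.mul_le_mul_iff_right hb0 hbt, mul_add]
    refine hlim.trans (add_le_add le_rfl (le_of_eq ?_))
    have hbn : (b : ℝ≥0∞) ≠ 0 := by exact_mod_cast hb.ne'
    rw [pow_succ, mul_assoc, ENNReal.mul_div_cancel hbn (ENNReal.natCast_ne_top b)]
    push_cast
    ring
  refine ENNReal.le_of_forall_pos_le_add fun ε hε _ => ?_
  obtain ⟨b, hb'⟩ := ENNReal.exists_nat_gt
    (ENNReal.div_ne_top (ENNReal.natCast_ne_top (K * 2 ^ e)) (ENNReal.coe_ne_zero.2 hε.ne'))
  have hb0 : 0 < b := by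
    rcases Nat.eq_zero_or_pos b with rfl | h
    · simp at hb'
    · exact h
  refine (hb b hb0).trans (add_le_add le_rfl ?_)
  refine ENNReal.div_le_of_le_mul ?_
  exact ((ENNReal.div_le_iff (ENNReal.coe_ne_zero.2 hε.ne') ENNReal.coe_ne_top).1 hb'.le).trans_eq
    (mul_comm _ _)

end Groth.Agent.Lib.Nakai.VolNum
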