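import Groth.Agent.Lib.Nakai.NumTrivial
import Groth.Agent.Lib.Nakai.VolNum

/-!
# Sections of twists by numerically trivial modules are uniformly bounded
-/

set_option autoImplicit false
set_option linter.style.haveILetI false
set_option linter.unusedSectionVars false
universe u

open CategoryTheory CategoryTheory.Limits AlgebraicGeometry TopologicalSpace

namespace Groth.Agent.Lib.Nakai.NTBound

open Groth.Agent.Lib Groth.Agent.Lib.Snapper Groth.Agent.Lib.IntTheory Groth.Agent.Lib.Nakai.Cut
open Groth.Agent.Lib.Nakai.SubDevissage (PureAt SubThick)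
open Groth.Agent.Lib.PosLin.SectionBound (h0 h0_congr h0_le_of_mono)
open Groth.Agent.Lib.TensorMod.Basic (tmap comm assoc tensorIso leftUnit rightUnit)
open Groth.Agent.Lib.TensorMod.Invertible (isInvertible_tensorPow isInvertible_tensorMod
  isInvertible_dual tensorDualIso)

variable (k : Type u) [Field k] {X : Scheme.{u}} [X.Over (Spec (CommRingCat.of k))]

/-- Invertible with degree zero on every curve. -/
def NT (N : ℕ) (L : X.Modules) : Prop :=
  PicF.IsInvertible L ∧ ∀ z : X, Main.pd k z = 1 → ip k N [L] z = 0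

variable {k} [IsProper (X ↘ Spec (CommRingCat.of k))] {d : ℕ} (hd : topologicalKrullDim X ≤ d)

include hd

theorem nt_of_num {L : X.Modules} (hL : PicF.IsInvertible L) (h : Pic13.IsNumEquivZero k X L) :
    NT k d L := by
  haveI := Curves.GlobalSections.isNoetherian_of_proper k X
  refine ⟨hL, fun z hz => ?_⟩
  have hz1 : topologicalKrullDim (closure ({z} : Set X)) = 1 := by
    rw [dim_closure (k := k) z, hz]; rfl
  rw [NefConv.ip_singleton_eq (k := k) hd L z, IntTheory.Curves.sym_closure hd hz1 hL, neg_neg]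
  exact h _ (IntMult.ptIdeal z).subschemeι (IntTheory.Curves.isIntegral_ptIdeal z)
    ((IntTheory.Curves.dim_ptIdeal z).trans hz1)

theorem nt_inv {L L' : X.Modules} (h : NT k d L) (hL' : PicF.IsInvertible L')
    (e : CohB1.tensorMod L L' ≅ Coh.structureModule X) : NT k d L' := by
  refine ⟨hL', fun z hz => ?_⟩
  have hO := PicLoc.isInvertible_structureModule X
  have hl : ∀ M ∈ ([] : List X.Modules), PicF.IsInvertible M := fun M hM => by simp at hM
  have hy' : Main.pd k z ≤ ([] : List X.Modules).length + 1 := by simp [hz]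
  have hsame : ∀ {A B : X.Modules}, (A ≅ B) → ip k d [A] z = ip k d [B] z := fun i => by
    simp only [ip, List.length_singleton]
    rw [IntNum.sym_cons_iso i]
  have h1 := ip_tensor (k := k) hd h.1 hL' hl hy'
  have h2 := ip_tensor (k := k) hd hO hO hl hy'
  rw [hsame e, h.2 z hz] at h1
  rw [hsame (leftUnit (Coh.structureModule X))] at h2
  omega

theorem nt_pow {L : X.Modules} (h : NT k d L) (j : ℕ) : NT k d (CohB1.tensorPow L j) := by
  refine ⟨isInvertible_tensorPow h.1 j, fun z hz => ?_⟩
  rw [ip_pow (k := k) hd h.1 (l := []) (fun M hM => by simp at hM) (by simp [hz]) j, h.2 z hz,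
    mul_zero]

theorem nef {L : X.Modules} (h : NT k d L) : Kleiman.Nef k d L := fun z hz => (h.2 z hz).ge

/-- **Uniform bound.** -/
theorem exists_bound {H : X.Modules} (hH : CohB1.IsAmple H) {G : X.Modules} (hG : Coh.IsCoh G) :
    ∃ K : ℕ, ∀ L : X.Modules, NT k d L → h0 k X (CohB1.tensorMod L G) ≤ K := by
  haveI := Curves.GlobalSections.isNoetherian_of_proper k X
  refine SubDevissage.devissage
    (fun G => ∃ K : ℕ, ∀ L : X.Modules, NT k d L → h0 k X (CohB1.tensorMod L G) ≤ K)
    ⊤ ⟨fun G hz => ⟨0, fun L hL => ?_⟩, fun S hS h₁ h₂ h₃ hQ₁ hQ₃ => ?_, fun g hg hA hB hQ => ?_⟩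
    (fun y _ => ?_) G ⟨hG, Set.subset_univ _⟩
  · have hz' : IsZero (CohB1.tensorMod L G) := by
      rw [← Modules.Support.support_eq_empty_iff, Twist.support_twist hL.1,
        Modules.Support.support_eq_empty_iff.2 hz]
    haveI := PosLin.CohBound.subsingleton_HH_isZero (k := k) hz' 0
    simp [h0, Module.finrank_zero_of_subsingleton]
  · obtain ⟨K₁, hK₁⟩ := hQ₁
    obtain ⟨K₃, hK₃⟩ := hQ₃
    refine ⟨K₁ + K₃, fun L hL => ?_⟩
    refine le_trans (PosLin.CohBound.hd_mid_le (k := k) (Twist.twistSeq_shortExact hL.1 hS)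
      (Twist.isCoh_twist hL.1 h₁.1) (Twist.isCoh_twist hL.1 h₂.1) (Twist.isCoh_twist hL.1 h₃.1) 0) ?_
    exact add_le_add (hK₁ L hL) (hK₃ L hL)
  · obtain ⟨K, hK⟩ := hQ
    refine ⟨K, fun L hL => ?_⟩
    haveI : Mono (tmap (𝟙 L) g) :=
      (Twist.twistSeq_shortExact hL.1 (Devissage.Basic.exists_ses_mono g)).mono_f
    exact (h0_le_of_mono (k := k) (Twist.isCoh_twist hL.1 hB.1) (tmap (𝟙 _) g)).trans (hK L hL)
  · have hH' := isInvertible_dual hH.1
    set F := CohB1.tensorMod (TensorMod.Dual.dual H) (Cyc.closureStructureSheaf y) with hFdef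
    have hF : Coh.IsCoh F := Twist.isCoh_twist hH' (Devissage.Closure.isCoh_closureStructureSheaf y)
    refine ⟨F, ⟨hF, by
      rw [Twist.support_twist hH']
      exact Devissage.Closure.support_closureStructureSheaf y⟩, by
      rw [Twist.length_twist hH', Devissage.Closure.length_closureStructureSheaf y],
      NumTrivial.pureAt_twist hH' y, ?_⟩
    rcases Nat.eq_zero_or_pos (Main.pd k y) with h | h
    · let Z := IntMult.ptIdeal y
      let i := Z.subschemeι
      letI : Z.subscheme.Over (Spec (CommRingCat.of k)) := ⟨i ≫ (X ↘ Spec (CommRingCat.of k))⟩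
      haveI : IsProper (Z.subscheme ↘ Spec (CommRingCat.of k)) :=
        inferInstanceAs (IsProper (i ≫ (X ↘ Spec (CommRingCat.of k))))
      haveI : IsIntegral Z.subscheme := IntTheory.Curves.isIntegral_ptIdeal y
      haveI := Curves.GlobalSections.isNoetherian_of_proper k Z.subscheme
      have hdimZ : topologicalKrullDim Z.subscheme = (0 : ℕ) :=
        (IntTheory.Curves.dim_ptIdeal y).trans ((dim_closure y).trans (congrArg Nat.cast h))
      refine ⟨h0 k Z.subscheme (Coh.structureModule Z.subscheme), fun L hL => ?_⟩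
      have hE : PicF.IsInvertible (CohB1.tensorMod L (TensorMod.Dual.dual H)) :=
        isInvertible_tensorMod hL.1 hH'
      have hEi := PicLoc.isInvertible_pullback i hE
      have e₂ : CohB1.tensorMod (CohB1.tensorMod L (TensorMod.Dual.dual H)) (Cyc.closureStructureSheaf y) ≅
          (Coh.push i).obj ((TensorMod.Pullback.pb i).obj (CohB1.tensorMod L (TensorMod.Dual.dual H))) :=
        (Modules.ProjFormula.projIso i (Modules.DualBasis.hasDBases_of_isFinLocFree
            (TensorMod.LocFree.of_rank (TensorMod.LocFree.of_isInvertible hE)))).app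
            (Coh.structureModule Z.subscheme) ≪≫
          (Coh.push i).mapIso (rightUnit _)
      haveI : ((TensorMod.Pullback.pb i).obj (CohB1.tensorMod L (TensorMod.Dual.dual H))).IsQuasicoherent :=
        (Ample.GG.isCoh_of_isInvertible hEi).1
      rw [hFdef, h0_congr ((assoc _ _ _).symm ≪≫ e₂)]
      unfold h0
      rw [SurfInt.Push.finrank_push i rfl]
      exact (VolNum.h0_eq_of_dim_zero (k := k) hdimZ hEi (PicLoc.isInvertible_structureModule _)).le
    · refine ⟨0, fun L hL => ?_⟩
      have htriv : NumTrivial.Triv k d L 1 := fun z hz => by simpa using hL.2 z hz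
      have h0' := NumTrivial.h0_eq_zero (k := k) hd hL.1 (nef hd hL) hH one_pos htriv (y := y) h 1
      have e : CohB1.tensorPow L 1 ≅ L := leftUnit L
      rw [h0_congr (tensorIso e (Iso.refl _))] at h0'
      exact h0'.le

end Groth.Agent.Lib.Nakai.NTBound
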