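import Groth.Agent.Lib.Nakai.NumProper
import Groth.Agent.Lib.IntTheory.NumEq
import Groth.Agent.S14812

/-!
# Numerical triviality and extension of the ground field
-/

set_option autoImplicit false
set_option linter.style.haveILetI false
set_option linter.unusedSectionVars false
universe u

open CategoryTheory CategoryTheory.Limits AlgebraicGeometry TopologicalSpace

namespace Groth.Agent.Lib.Nakai.NumBaseChange

open Groth.Agent.Lib Groth.Agent.Lib.Snapper Groth.Agent.Lib.Nakai
open Groth.Agent.Lib.TensorMod.Pullback (pb pullbackTensorIso)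
open Groth.Agent.Lib.TensorMod.Basic (comm tensorIso)
open Groth.Agent.Lib.TensorMod.Invertible (isInvertible_dual tensorDualIso)
open Groth.Agent.Lib.Ample.Pow (pullbackPow powIso)

/-- Degree zero on all curve points is numerical triviality. -/
theorem num_of_nta {k : Type u} [Field k] {X : Scheme.{u}} [X.Over (Spec (CommRingCat.of k))]
    [IsProper (X ↘ Spec (CommRingCat.of k))] {L : X.Modules} (h : UnifAbs.NTA k L) :
    Pic13.IsNumEquivZero k X L :=
  (Groth.Agent.S14812.result k X L h.1).2 fun F hF d hd => NumProper.chi_eq hd (h.2 d hd) hF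

variable {k : Type u} [Field k] (K : Type u) [Field K] [Algebra k K]
  {X : Scheme.{u}} [X.Over (Spec (CommRingCat.of k))] [IsProper (X ↘ Spec (CommRingCat.of k))]
  {X' : Scheme.{u}} [X'.Over (Spec (CommRingCat.of K))] {g : X' ⟶ X}
  (hP : IsPullback g (X' ↘ Spec (CommRingCat.of K)) (X ↘ Spec (CommRingCat.of k))
    (Spec.map (CommRingCat.ofHom (algebraMap k K))))

include hP

theorem isAffineHom : IsAffineHom g :=
  MorphismProperty.of_isPullback hP.flip (isAffineHom_of_isAffine _)

/-- Numerical triviality is stable under field extensions: projective case. -/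
theorem nta_pullback_projective {H L : X.Modules} (hH : CohB1.IsAmple H) (hL : UnifAbs.NTA k L) :
    haveI := Curves.BaseChange.isProper hP
    UnifAbs.NTA K ((pb g).obj L) := by
  haveI := Curves.BaseChange.isProper hP
  haveI := isAffineHom K hP
  have hqa := Ample.Pullback.isQuasiAffine_of_isAffineHom g
  refine UnifAbs.nta_of_forall_ample K (PicLoc.isInvertible_pullback g hL.1)
    (PicLoc.isInvertible_pullback g hH.1) fun ν hν => ?_
  obtain ⟨h1, h2⟩ := UnifAbs.forall_ample k hL hH ν hν
  refine ⟨Ample.Pow.isAmple_of_iso ?_ (Ample.Pullback.isAmple_pullback g hqa h1),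
    Ample.Pow.isAmple_of_iso ?_ (Ample.Pullback.isAmple_pullback g hqa h2)⟩
  · exact pullbackTensorIso g _ _ ≪≫ tensorIso (pullbackPow g L ν) (Iso.refl _)
  · exact pullbackTensorIso g _ _ ≪≫ tensorIso (pullbackPow g _ ν ≪≫ powIso (PosLin.Volume.inverseIso
      (PicLoc.isInvertible_pullback g hL.1)
      ((pullbackTensorIso g _ _).symm ≪≫ (pb g).mapIso (comm _ _ ≪≫ tensorDualIso hL.1) ≪≫
        PicLoc.pullbackStructureIso g)) ν) (Iso.refl _)

/-- Numerical triviality is stable under field extensions. -/
theorem num_pullback {L : X.Modules} (hL : PicF.IsInvertible L) (h : Pic13.IsNumEquivZero k X L) :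
    Pic13.IsNumEquivZero K X' ((pb g).obj L) := by
  haveI := Curves.BaseChange.isProper hP
  haveI := Curves.GlobalSections.isNoetherian_of_proper k X
  haveI := Curves.GlobalSections.isNoetherian_of_proper K X'
  obtain ⟨n, Z, π, j, U, hji, hj, hπ, hsurj, -⟩ := Chow.Main.chow (X ↘ Spec (CommRingCat.of k))
    TopologicalSpace.NoetherianSpace.finite_irreducibleComponents
  haveI := hji
  haveI := hπ
  haveI := hsurj
  letI : Z.Over (Spec (CommRingCat.of k)) := ⟨π ≫ (X ↘ Spec (CommRingCat.of k))⟩
  haveI : IsProper (Z ↘ Spec (CommRingCat.of k)) :=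
    inferInstanceAs (IsProper (π ≫ (X ↘ Spec (CommRingCat.of k))))
  let j' : Z ⟶ CohB1.ProjSpace n k := j ≫ (ProjSpace.BaseChange.overSpecIso n k).hom
  have hj' : j' ≫ CohB1.ProjSpace.toSpec n k = Z ↘ Spec (CommRingCat.of k) := by
    rw [Category.assoc, ProjSpace.BaseChange.overSpecIso_hom_toSpec, hj]
    rfl
  haveI : IsClosedImmersion j' := by
    refine (IsClosedImmersion.iff_isProper_and_mono j').mpr ⟨?_, inferInstance⟩
    haveI : IsProper (j' ≫ CohB1.ProjSpace.toSpec n k) := by
      rw [hj']; infer_instance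
    exact IsProper.of_comp j' (CohB1.ProjSpace.toSpec n k)
  have hH : CohB1.IsAmple (UnifVan.twX j' 1) :=
    Ample.Pullback.isAmple_pullback _ (Ample.Pullback.isQuasiAffine_of_isAffineHom _)
      (HProj.QuasiProj.isAmple_twist_projSpace n k)
  have hLZ : UnifAbs.NTA k ((pb π).obj L) := ⟨PicLoc.isInvertible_pullback π hL, fun e he => by
    obtain ⟨d, hd⟩ := Snapper.DimBound.exists_dim_bound k X
    exact NumProper.nt_pullback hd (NTBound.nt_of_num hd hL h) π rfl he⟩
  let a := Spec.map (CommRingCat.ofHom (algebraMap k K))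
  let gZ := pullback.fst π g
  let πK := pullback.snd π g
  letI : (pullback π g).Over (Spec (CommRingCat.of K)) := ⟨πK ≫ (X' ↘ Spec (CommRingCat.of K))⟩
  haveI : IsProper πK := MorphismProperty.of_isPullback (IsPullback.of_hasPullback π g) inferInstance
  haveI : IsProper (pullback π g ↘ Spec (CommRingCat.of K)) :=
    inferInstanceAs (IsProper (πK ≫ (X' ↘ Spec (CommRingCat.of K))))
  haveI := Curves.GlobalSections.isNoetherian_of_proper K (pullback π g)
  have hPZ : IsPullback gZ (pullback π g ↘ Spec (CommRingCat.of K)) (Z ↘ Spec (CommRingCat.of k)) a :=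
    (IsPullback.of_hasPullback π g).paste_vert hP
  have hK := nta_pullback_projective K hPZ hH hLZ
  obtain ⟨d', hd'⟩ := Snapper.DimBound.exists_dim_bound K (pullback π g)
  refine num_of_nta ⟨PicLoc.isInvertible_pullback g hL, fun d hd => ⟨PicLoc.isInvertible_pullback g hL,
    fun z hz => ?_⟩⟩
  haveI : Surjective πK := MorphismProperty.of_isPullback (IsPullback.of_hasPullback π g) hsurj
  have hO := PicLoc.isInvertible_structureModule X'
  have hgL := PicLoc.isInvertible_pullback g hL
  have hpL := hK.2 d' hd'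
  have hp0 := (UnifAbs.nta_structure K (X := pullback π g)).2 d' hd'
  have hce : IntTheory.Basic.CurveEq K d ((pb g).obj L) (Coh.structureModule X') := by
    refine IntTheory.NumEq.curveEq_of_pullback hd πK rfl hd' hgL hO fun w hw => ?_
    have hw1 : Main.pd K w = 1 := by
      rw [Cut.dim_closure (k := K) w] at hw
      exact_mod_cast hw
    have e1 := hpL.2 w hw1
    have e2 := hp0.2 w hw1
    rw [NefConv.ip_singleton_eq (k := K) hd', neg_eq_zero] at e1 e2
    have e3 : (pb gZ).obj ((pb π).obj L) ≅ (pb πK).obj ((pb g).obj L) :=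
      (Scheme.Modules.pullbackComp gZ π).app L ≪≫
        (Scheme.Modules.pullbackCongr (IsPullback.of_hasPullback π g).w).app L ≪≫
        ((Scheme.Modules.pullbackComp πK g).app L).symm
    have e4 : (pb πK).obj (Coh.structureModule X') ≅ Coh.structureModule (pullback π g) :=
      PicLoc.pullbackStructureIso πK
    rw [IntNum.sym_cons_iso e4, e2, ← IntNum.sym_cons_iso e3, e1]
  have h1 := hce z (by rw [Cut.dim_closure (k := K) z, hz]; rfl)
  have h2 := ((UnifAbs.nta_structure K (X := X')).2 d hd).2 z hz
  rw [NefConv.ip_singleton_eq (k := K) hd] at h2 ⊢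
  rw [h1]
  exact h2

/-- Numerical triviality descends along field extensions. -/
theorem num_of_pullback {L : X.Modules} (hL : PicF.IsInvertible L)
    (h : Pic13.IsNumEquivZero K X' ((pb g).obj L)) : Pic13.IsNumEquivZero k X L := by
  haveI := Curves.BaseChange.isProper hP
  haveI := Curves.GlobalSections.isNoetherian_of_proper k X
  haveI := Curves.GlobalSections.isNoetherian_of_proper K X'
  refine (Groth.Agent.S14812.result k X L hL).2 fun F hF d hd => ?_
  obtain ⟨d', hd'⟩ := Snapper.DimBound.exists_dim_bound K X'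
  have h1 := NumProper.chi_eq (hd'.trans (by exact_mod_cast le_max_right d d'))
    (NTBound.nt_of_num (hd'.trans (by exact_mod_cast le_max_right d d'))
      (PicLoc.isInvertible_pullback g hL) h) (Cyc.FP.Stalk.isCoh_pullback g hF)
  have hFL := CohBasics.Closure.isCoh_of_iso (comm L F) (Snapper.Twist.isCoh_twist hL hF)
  have e : ∀ (F : X.Modules), Coh.IsCoh F → ∀ (F' : X'.Modules), ((pb g).obj F ≅ F') →
      FGA.eulerCharLE K X' F' (max d d') = FGA.eulerCharLE k X F d := fun F hF F' i => by
    rw [← Chi.eulerCharLE_eq_of_le hd (le_max_left d d') F, ← Chi.eulerCharLE_of_iso i]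
    unfold FGA.eulerCharLE
    haveI := hF.1
    exact Finset.sum_congr rfl fun q _ => by rw [Curves.BaseChange.finrank_HH hP F q]
  rwa [e _ hFL _ (pullbackTensorIso g F L), e F hF _ (Iso.refl _)] at h1

end Groth.Agent.Lib.Nakai.NumBaseChange
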