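import Groth.Agent.Lib.Devissage.Basic

/-!
# Dévissage for properties closed under extensions and submodules

`devissage`: a property of modules passing from the outer terms of a short exact sequence of coherent
modules to the middle one and from a module to its submodules holds for all coherent modules as soon
as it holds, for every point `y`, for one module supported in `closure {y}`, of length one at `y`,
without nonzero submodules vanishing at `y`.
-/

set_option autoImplicit false
set_option linter.style.haveILetI false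
universe u

open CategoryTheory Limits AlgebraicGeometry Opposite TopologicalSpace

namespace Groth.Agent.Lib.Nakai.SubDevissage

open Groth.Agent.Lib.Modules.StalkModule
open Groth.Agent.Lib.Devissage.Basic
open Groth.Agent.Lib

variable {X : Scheme.{u}}

/-- No nonzero submodule of `F` vanishes at `y`. -/
def PureAt (F : X.Modules) (y : X) : Prop :=
  ∀ (D : X.Modules) (g : D ⟶ F), Mono g → y ∉ CohB1.support D → IsZero D

/-- `Q` passes from the outer terms to the middle one, and to submodules. -/
structure SubThick (T : Set X) (Q : X.Modules → Prop) : Prop where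
  of_isZero : ∀ M : X.Modules, IsZero M → Q M
  ext : ∀ S : ShortComplex X.Modules, S.ShortExact → CohIn T S.X₁ → CohIn T S.X₂ → CohIn T S.X₃ →
    Q S.X₁ → Q S.X₃ → Q S.X₂
  sub : ∀ {A B : X.Modules} (g : A ⟶ B), Mono g → CohIn T A → CohIn T B → Q B → Q A

theorem SubThick.mono {T T' : Set X} {Q : X.Modules → Prop} (h : SubThick T Q) (hT : T' ⊆ T) :
    SubThick T' Q :=
  ⟨h.of_isZero, fun S hS h₁ h₂ h₃ => h.ext S hS ⟨h₁.1, h₁.2.trans hT⟩ ⟨h₂.1, h₂.2.trans hT⟩
    ⟨h₃.1, h₃.2.trans hT⟩, fun g hg hA hB => h.sub g hg ⟨hA.1, hA.2.trans hT⟩ ⟨hB.1, hB.2.trans hT⟩⟩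

/-- One step of dévissage at the point `y`. -/
theorem reduction [IsLocallyNoetherian X] {T : Set X} {Q : X.Modules → Prop} (hQ : SubThick T Q)
    {y : X} {F G : X.Modules} (hF : CohIn T F)
    (hFy : Module.length (X.presheaf.stalk y) (F.presheaf.stalk y) = 1) (hFQ : Q F) (hpure : PureAt F y)
    (hG : CohIn T G) (hGy : Module.length (X.presheaf.stalk y) (G.presheaf.stalk y) ≠ ⊤)
    [Nontrivial (G.presheaf.stalk y)]
    (small : ∀ D, CohIn T D → y ∉ CohB1.support D → Q D)
    (ih : ∀ K, CohIn T K → Module.length (X.presheaf.stalk y) (K.presheaf.stalk y) + 1 =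
        Module.length (X.presheaf.stalk y) (G.presheaf.stalk y) → Q K) : Q G := by
  obtain ⟨φ, hφ, hnil⟩ := exists_surjective_of_length hGy hFy
  set S := Devissage.Sky.sky y (F.presheaf.stalk y)
  haveI hS : S.IsQuasicoherent :=
    Devissage.Sky.isQCoh_sky y _ fun a ha l => ⟨1, by rw [pow_one]; exact hnil a ha l⟩
  let a : G ⟶ S := Devissage.Sky.toSky φ
  let b : F ⟶ S := Devissage.Sky.toSky LinearMap.id
  have ha : Function.Surjective (stalkMapₗ a y) := fun z => by
    obtain ⟨l, rfl⟩ := (Devissage.Sky.stalkEquiv y (F.presheaf.stalk y)).surjective z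
    obtain ⟨g, rfl⟩ := hφ l
    exact ⟨g, Devissage.Sky.stalkMapₗ_toSky φ g⟩
  have hb : Function.Bijective (stalkMapₗ b y) := by
    have : ⇑(stalkMapₗ b y) = Devissage.Sky.stalkEquiv y (F.presheaf.stalk y) :=
      funext fun z => Devissage.Sky.stalkMapₗ_toSky _ z
    exact this ▸ (Devissage.Sky.stalkEquiv y _).bijective
  let ψ : G ⊞ F ⟶ S := biprod.desc a b
  let M := cokernel (kernel.ι ψ)
  let π : G ⊞ F ⟶ M := cokernel.π (kernel.ι ψ)
  let m : M ⟶ S := cokernel.desc (kernel.ι ψ) ψ (kernel.condition ψ)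
  haveI : Mono m := inferInstanceAs (Mono (Abelian.factorThruCoimage ψ))
  let α : G ⟶ M := biprod.inl ≫ π
  let β : F ⟶ M := biprod.inr ≫ π
  have hα : α ≫ m = a := by simp [α, π, m, ψ]
  have hβ : β ≫ m = b := by simp [β, π, m, ψ]
  have hm : Function.Injective (stalkMapₗ m y) := (mono_iff_stalkMapₗ_injective m).mp inferInstance y
  have hmb (v) : stalkMapₗ m y (stalkMapₗ β y v) = stalkMapₗ b y v := by
    rw [← LinearMap.comp_apply, ← stalkMapₗ_comp, hβ]
  have hma (v) : stalkMapₗ m y (stalkMapₗ α y v) = stalkMapₗ a y v := by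
    rw [← LinearMap.comp_apply, ← stalkMapₗ_comp, hα]
  have hβy : Function.Bijective (stalkMapₗ β y) := by
    refine ⟨fun v w h => hb.1 (by rw [← hmb, ← hmb, h]), fun z => ?_⟩
    obtain ⟨v, hv⟩ := hb.2 (stalkMapₗ m y z)
    exact ⟨v, hm ((hmb v).trans hv)⟩
  have hαy : Function.Surjective (stalkMapₗ α y) := fun z => by
    obtain ⟨v, hv⟩ := ha (stalkMapₗ m y z)
    exact ⟨v, hm ((hma v).trans hv)⟩
  haveI := hG.1.1
  haveI := hF.1.1
  have hGF : Coh.IsCoh (G ⊞ F) := CohBasics.Closure.isCoh_biprod hG.1 hF.1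
  have hkψ : Coh.IsQCoh (kernel ψ) := by
    haveI := hGF.1
    exact QCoh.Closure.isQCoh_kernel ψ
  have hM : CohIn T M := by
    refine ⟨CohBasics.Closure.isCoh_cokernel _ hkψ hGF, ?_⟩
    refine (Modules.Support.support_subset_of_epi π).trans ?_
    rw [Modules.Support.support_eq_union_of_shortExact
      (ShortComplex.Splitting.ofHasBinaryBiproduct G F).shortExact]
    exact Set.union_subset hG.2 hF.2
  haveI := hM.1.1
  have sub {A B : X.Modules} (f : A ⟶ B) [Mono f] (hB : CohIn T B) (hA : Coh.IsCoh A) : CohIn T A :=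
    ⟨hA, (Modules.Support.support_subset_of_mono f).trans hB.2⟩
  have quo {A B : X.Modules} (f : A ⟶ B) [Epi f] (hA : CohIn T A) (hB : Coh.IsCoh B) : CohIn T B :=
    ⟨hB, (Modules.Support.support_subset_of_epi f).trans hA.2⟩
  have hK : CohIn T (kernel α) := sub (kernel.ι α) hG (CohBasics.Closure.isCoh_kernel α hG.1 hM.1.1)
  have hD₁ : CohIn T (kernel β) := sub (kernel.ι β) hF (CohBasics.Closure.isCoh_kernel β hF.1 hM.1.1)
  have hC₃ : CohIn T (cokernel α) :=
    quo (cokernel.π α) hM (CohBasics.Closure.isCoh_cokernel α hG.1.1 hM.1)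
  have hC₂ : CohIn T (cokernel β) :=
    quo (cokernel.π β) hM (CohBasics.Closure.isCoh_cokernel β hF.1.1 hM.1)
  have hI (A : X.Modules) (f : A ⟶ M) (hA : CohIn T A) : CohIn T (Abelian.image f) :=
    sub (Abelian.image.ι f) hM (CohBasics.Closure.isCoh_image f hA.1.1 hM.1)
  have s₁ := exists_ses_epi (Abelian.factorThruImage α)
  have s₂ := exists_ses_mono (Abelian.image.ι α)
  have s₃ := exists_ses_epi (Abelian.factorThruImage β)
  have s₄ := exists_ses_mono (Abelian.image.ι β)
  let kα : kernel (Abelian.factorThruImage α) ≅ kernel α :=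
    (kernelCompMono (Abelian.factorThruImage α) (Abelian.image.ι α)).symm ≪≫
      kernelIsoOfEq (Abelian.image.fac α)
  let kβ : kernel (Abelian.factorThruImage β) ≅ kernel β :=
    (kernelCompMono (Abelian.factorThruImage β) (Abelian.image.ι β)).symm ≪≫
      kernelIsoOfEq (Abelian.image.fac β)
  let cα : cokernel (Abelian.image.ι α) ≅ cokernel α :=
    (cokernelEpiComp (Abelian.factorThruImage α) (Abelian.image.ι α)).symm ≪≫
      cokernelIsoOfEq (Abelian.image.fac α)
  let cβ : cokernel (Abelian.image.ι β) ≅ cokernel β :=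
    (cokernelEpiComp (Abelian.factorThruImage β) (Abelian.image.ι β)).symm ≪≫
      cokernelIsoOfEq (Abelian.image.fac β)
  have coh_iso {A B : X.Modules} (e : A ≅ B) (hA : CohIn T A) : CohIn T B :=
    ⟨CohBasics.Closure.isCoh_of_iso e hA.1, Modules.Support.support_congr e ▸ hA.2⟩
  have hkα := coh_iso kα.symm hK
  have hkβ := coh_iso kβ.symm hD₁
  have hcα := coh_iso cα.symm hC₃
  have hcβ := coh_iso cβ.symm hC₂
  have nd₁ : y ∉ CohB1.support (kernel (Abelian.factorThruImage β)) := by
    rw [Modules.Support.support_congr kβ, Modules.Support.not_mem_support_iff]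
    refine subsingleton_of_forall_eq 0 fun v => ?_
    apply (mono_iff_stalkMapₗ_injective (kernel.ι β)).mp inferInstance y
    apply hβy.1
    rw [← LinearMap.comp_apply, ← stalkMapₗ_comp, kernel.condition, stalkMapₗ_zero, map_zero,
      map_zero]
    rfl
  have coker_zero {A : X.Modules} (f : A ⟶ M) (hf : Function.Surjective (stalkMapₗ f y)) :
      y ∉ CohB1.support (cokernel f) := by
    rw [Modules.Support.not_mem_support_iff]
    refine subsingleton_of_forall_eq 0 fun v => ?_
    obtain ⟨w, rfl⟩ := (epi_iff_stalkMapₗ_surjective (cokernel.π f)).mp inferInstance y v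
    obtain ⟨w, rfl⟩ := hf w
    rw [← LinearMap.comp_apply, ← stalkMapₗ_comp, cokernel.condition, stalkMapₗ_zero]
    rfl
  have nd₂ : y ∉ CohB1.support (cokernel (Abelian.image.ι β)) := by
    rw [Modules.Support.support_congr cβ]; exact coker_zero β hβy.2
  have nd₃ : y ∉ CohB1.support (cokernel (Abelian.image.ι α)) := by
    rw [Modules.Support.support_congr cα]; exact coker_zero α hαy
  have len0 {D : X.Modules} (h : y ∉ CohB1.support D) :
      Module.length (X.presheaf.stalk y) (D.presheaf.stalk y) = 0 :=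
    Module.length_eq_zero_iff.mpr (Modules.Support.not_mem_support_iff.mp h)
  -- the kernel of `α` has smaller length
  have e₁ := Cyc.SheafLen.length_additive _ s₁ y
  have e₂ := Cyc.SheafLen.length_additive _ s₂ y
  have e₃ := Cyc.SheafLen.length_additive _ s₃ y
  have e₄ := Cyc.SheafLen.length_additive _ s₄ y
  dsimp only at e₁ e₂ e₃ e₄
  rw [hFy, len0 nd₁, zero_add] at e₃
  rw [len0 nd₂, add_zero, ← e₃] at e₄
  rw [len0 nd₃, add_zero, e₄] at e₂
  have hQk : Q (kernel (Abelian.factorThruImage α)) := ih _ hkα (by rw [e₁, ← e₂])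
  have hQβ : Q (Abelian.image β) := by
    haveI : Mono (Abelian.factorThruImage β) :=
      Preadditive.mono_of_kernel_zero ((hpure _ (kernel.ι _) inferInstance nd₁).eq_of_src _ _)
    haveI : IsIso (Abelian.factorThruImage β) := isIso_of_mono_of_epi _
    exact hQ.sub (inv (Abelian.factorThruImage β)) inferInstance (hI _ β hF) hF hFQ
  have hQM : Q M := hQ.ext _ s₄ (hI _ β hF) hM hcβ hQβ (small _ hcβ nd₂)
  have hQα : Q (Abelian.image α) :=
    hQ.sub (Abelian.image.ι α) inferInstance (hI _ α hG) hM hQM
  exact hQ.ext _ s₁ hkα hG (hI _ α hG) hQk hQα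

/-- Dévissage. -/
theorem devissage [IsNoetherian X] (Q : X.Modules → Prop) (T : Closeds X)
    (hQ : SubThick (T : Set X) Q)
    (hgen : ∀ y ∈ T, ∃ F, CohIn (closure {y}) F ∧
      Module.length (X.presheaf.stalk y) (F.presheaf.stalk y) = 1 ∧ PureAt F y ∧ Q F)
    (G : X.Modules) (hG : CohIn (T : Set X) G) : Q G := by
  induction T using WellFoundedLT.induction generalizing G with
  | ind T ih =>
    rcases (T : Set X).eq_empty_or_nonempty with hT | hT
    · exact hQ.of_isZero G (Modules.Support.support_eq_empty_iff.mp (Set.subset_eq_empty hG.2 hT))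
    · obtain ⟨y, hy, hmax⟩ := exists_maximal_point T.isClosed hT
      obtain ⟨F, hF, hFy, hpure, hFQ⟩ := hgen y hy
      have hFT : CohIn (T : Set X) F := ⟨hF.1, hF.2.trans (closure_subset_of_mem T.isClosed hy)⟩
      have small : ∀ D, CohIn (T : Set X) D → y ∉ CohB1.support D → Q D := by
        intro D hD hyD
        haveI := hD.1.2
        let T' : Closeds X := ⟨CohB1.support D, Modules.Support.isClosed_support D⟩
        have hle : T' ≤ T := hD.2
        exact ih T' (lt_of_le_of_ne hle fun e => hyD (by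
            have : y ∈ (T' : Set X) := e ▸ hy
            exact this))
          (hQ.mono hD.2) (fun z hz => hgen z (hle hz)) D ⟨hD.1, subset_rfl⟩
      suffices ∀ (ℓ : ℕ) (K : X.Modules), CohIn (T : Set X) K →
          Module.length (X.presheaf.stalk y) (K.presheaf.stalk y) = ℓ → Q K by
        have hfin := Cyc.SheafLen.length_ne_top hG.1 y fun z hzy hz =>
          hmax z (hG.2 (not_subsingleton_iff_nontrivial.mpr hz)) hzy
        exact this _ G hG (ENat.coe_toNat hfin).symm
      intro ℓ
      induction ℓ with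
      | zero =>
        intro K hK hl
        exact small K hK
          (Modules.Support.not_mem_support_iff.mpr (Module.length_eq_zero_iff.mp (by simpa using hl)))
      | succ ℓ ihℓ =>
        intro K hK hl
        haveI : Nontrivial (K.presheaf.stalk y) := Module.length_pos_iff.mp (by rw [hl]; simp)
        refine reduction hQ hFT hFy hFQ hpure hK (by rw [hl]; simp) small fun K' hK' hl' => ihℓ K' hK' ?_
        rw [hl, Nat.cast_add, Nat.cast_one] at hl'
        exact ENat.add_left_injective_of_ne_top ENat.one_ne_top hl'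

end Groth.Agent.Lib.Nakai.SubDevissage
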