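import Groth.Agent.Lib.Nakai.Top
import Groth.Agent.Lib.Nakai.NefConv
import Groth.Agent.Lib.Nakai.SubDevissage
import Groth.Agent.Lib.Cyc.Retr.Witness
import Groth.Agent.Lib.SurfInt.Push

/-!
# A nef module with `Lᵐ` numerically trivial has `h⁰(L^μ) = O(μ^(m-1))`
-/

set_option autoImplicit false
set_option linter.style.haveILetI false
set_option linter.unusedSectionVars false
universe u

open CategoryTheory CategoryTheory.Limits AlgebraicGeometry TopologicalSpace

namespace Groth.Agent.Lib.Nakai.NumTrivial

open Groth.Agent.Lib Groth.Agent.Lib.Snapper Groth.Agent.Lib.IntTheory Groth.Agent.Lib.Nakai.Cut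
open Groth.Agent.Lib.Nakai.Kleiman (Nef mixList)
open Groth.Agent.Lib.Nakai.SubDevissage (PureAt SubThick)
open Groth.Agent.Lib.Devissage.Basic (CohIn)
open Groth.Agent.Lib.PosLin.SectionBound (h0 h0_congr h0_le_of_mono exists_h0_bound isCoh_twist_right)
open Groth.Agent.Lib.Snapper.Vanish (sym sym_cons sym_of_iso)
open Groth.Agent.Lib.TensorMod.Basic (tmap comm assoc tensorIso leftUnit rightUnit)
open Groth.Agent.Lib.TensorMod.Invertible (isInvertible_tensorPow isInvertible_tensorMod
  isInvertible_dual tensorDualIso)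

/-- Vanishing of `Lᵐ` on every `m`-dimensional closure. -/
def Triv (k : Type u) [Field k] {X : Scheme.{u}} [X.Over (Spec (CommRingCat.of k))] (N : ℕ)
    (L : X.Modules) (m : ℕ) : Prop :=
  ∀ z : X, Main.pd k z = m → ip k N (List.replicate m L) z = 0

/-- Twists of the structure sheaf of a closure have no submodules vanishing at the point. -/
theorem pureAt_twist {X : Scheme.{u}} [IsLocallyNoetherian X] {M : X.Modules}
    (hM : PicF.IsInvertible M) (y : X) :
    PureAt (CohB1.tensorMod M (Cyc.closureStructureSheaf y)) y := by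
  intro D g hg hD
  haveI := hg
  have hM' := isInvertible_dual hM
  let O := Cyc.closureStructureSheaf y
  haveI : Mono (tmap (𝟙 (TensorMod.Dual.dual M)) g) :=
    (Twist.twistSeq_shortExact hM' (Devissage.Basic.exists_ses_mono g)).mono_f
  let g' : CohB1.tensorMod (TensorMod.Dual.dual M) D ⟶ O :=
    tmap (𝟙 (TensorMod.Dual.dual M)) g ≫ ((assoc _ _ _).symm ≪≫
      tensorIso (comm _ _ ≪≫ tensorDualIso hM) (Iso.refl O) ≪≫ leftUnit O).hom
  haveI : Mono g' := mono_comp _ _
  have hD' : y ∉ CohB1.support (CohB1.tensorMod (TensorMod.Dual.dual M) D) := by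
    rw [Twist.support_twist hM']; exact hD
  have hinj : ∀ x, Function.Injective (Modules.StalkModule.stalkMapₗ g' x) := fun x =>
    (Modules.StalkModule.mono_iff_stalkMapₗ_injective g').mp inferInstance x
  rw [← Modules.Support.support_eq_empty_iff, ← Twist.support_twist hM' D]
  refine Set.eq_empty_iff_forall_notMem.2 fun x hx => ?_
  have hnt := not_subsingleton_iff_nontrivial.mp hx
  have hxy : y ⤳ x := specializes_iff_mem_closure.2
    (Devissage.Closure.support_closureStructureSheaf y (Modules.Support.support_subset_of_mono g' hx))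
  obtain ⟨v, hv⟩ := exists_ne (0 : (CohB1.tensorMod (TensorMod.Dual.dual M) D).presheaf.stalk x)
  refine hv (hinj x ?_)
  rw [map_zero]
  refine Cyc.Retr.Witness.injective_specializes hxy ?_
  rw [map_zero]
  haveI : Subsingleton ((CohB1.tensorMod (TensorMod.Dual.dual M) D).presheaf.stalk y) :=
    Modules.Support.not_mem_support_iff.mp hD'
  have h := ConcreteCategory.congr_hom (TopCat.Presheaf.stalkSpecializes_stalkFunctor_map
    ((Scheme.Modules.toPresheaf X).map g') hxy) v
  refine h.symm.trans ?_
  show ((TopCat.Presheaf.stalkFunctor Ab y).map ((Scheme.Modules.toPresheaf X).map g'))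
    ((CohB1.tensorMod (TensorMod.Dual.dual M) D).presheaf.stalkSpecializes hxy v) = 0
  rw [Subsingleton.elim ((CohB1.tensorMod (TensorMod.Dual.dual M) D).presheaf.stalkSpecializes hxy v) 0]
  exact map_zero _

variable {k : Type u} [Field k] {X : Scheme.{u}} [X.Over (Spec (CommRingCat.of k))]
  [IsProper (X ↘ Spec (CommRingCat.of k))] {N : ℕ} (hN : topologicalKrullDim X ≤ N)

include hN

/-- Vanishing one dimension below gives vanishing. -/
theorem cut_zero {l : List X.Modules} (hl : ∀ M ∈ l, PicF.IsInvertible M) {H : X.Modules}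
    (hH : PicF.IsInvertible H) {y : X} (hy : Main.pd k y = l.length + 1) (hamp : AmpleAt H y)
    (h : ∀ z : X, Main.pd k z = l.length → ip k N l z = 0) :
    ip k N (H :: l) y = 0 := by
  haveI := Curves.GlobalSections.isNoetherian_of_proper k X
  obtain ⟨n, Q, hn, hQ, hsub, hdim, he⟩ := exists_cut (k := k) hN hl hH hy hamp
  have hfin := Finite.cohFinite k X
  rw [Additive.eq_zero (Additive.isAdd_sym hfin hN hl) (Additive.vanishBelow_sym hfin hN hl rfl) hQ
    hdim.le fun z hz => ?_, mul_zero] at he
  · exact (mul_eq_zero.1 he).resolve_left (by omega)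
  · have hz' : Main.pd k z = l.length := by
      have := hz.2
      rw [dim_closure (k := k) z] at this
      exact_mod_cast this
    exact (mul_eq_zero.1 (h z hz')).resolve_left (pow_ne_zero _ (by norm_num))

/-- All mixed numbers with at least `m` copies of `L` vanish. -/
theorem mixed_zero {L H : X.Modules} (hL : PicF.IsInvertible L) (hnef : Nef k N L)
    (hH : CohB1.IsAmple H) {m : ℕ} (htriv : Triv k N L m) :
    ∀ (d : ℕ) (y : X), Main.pd k y = d → ∀ i j, i + j = d → m ≤ i →
      ip k N (mixList L H i j) y = 0 := by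
  intro d
  induction d using Nat.strong_induction_on with
  | _ d ih =>
  intro y hy
  have hmixed : ∀ i j, i + j = d → m ≤ i → 1 ≤ j → ip k N (mixList L H i j) y = 0 := by
    intro i j hij hi hj
    obtain ⟨j, rfl⟩ : ∃ j', j = j' + 1 := ⟨j - 1, by omega⟩
    rw [ip_perm (k := k) (Kleiman.mixList_perm_right L H i j) y]
    refine cut_zero (k := k) hN (Kleiman.mixList_invertible hL hH.1 i j) hH.1
      (by rw [Kleiman.length_mixList]; omega) (ampleAt_of_isAmple hH y) fun z hz => ?_
    rw [Kleiman.length_mixList] at hz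
    exact ih (i + j) (by omega) z hz i j rfl hi
  intro i j hij hi
  rcases Nat.eq_zero_or_pos j with rfl | hj
  swap
  · exact hmixed i j hij hi hj
  obtain rfl : i = d := by omega
  rw [show mixList L H i 0 = List.replicate i L from List.append_nil _]
  rcases eq_or_lt_of_le hi with rfl | hlt
  · exact htriv y hy
  obtain ⟨e, rfl⟩ : ∃ e, i = e + 1 := ⟨i - 1, by omega⟩
  set P := CohB1.tensorMod (CohB1.tensorPow L 1) (CohB1.tensorPow H 1)
  have hP := Kleiman.isAmple_tensor (k := k) hN hL hnef hH one_pos one_pos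
  have hl : ∀ M ∈ List.replicate e L, PicF.IsInvertible M := fun M hM =>
    List.eq_of_mem_replicate hM ▸ hL
  have hlen : Main.pd k y ≤ (List.replicate e L).length + 1 := by
    rw [List.length_replicate]; omega
  have h0 : ip k N (P :: List.replicate e L) y = 0 :=
    cut_zero (k := k) hN hl hP.1 (by rw [List.length_replicate]; exact hy) (ampleAt_of_isAmple hP y)
      fun z hz => by
        rw [List.length_replicate] at hz
        have := ih e (by omega) z hz e 0 rfl (by omega)
        rw [List.length_replicate] at *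
        rwa [show mixList L H e 0 = List.replicate e L from List.append_nil _] at this
  have h1 : ip k N (H :: List.replicate e L) y = 0 := by
    rw [← ip_perm (k := k) (show (mixList L H e 1).Perm (H :: List.replicate e L) from
      List.perm_append_comm) y]
    exact hmixed e 1 (by omega) (by omega) le_rfl
  rw [ip_tensor (k := k) hN (isInvertible_tensorPow hL 1) (isInvertible_tensorPow hH.1 1) hl hlen,
    ip_pow (k := k) hN hL hl hlen 1, ip_pow (k := k) hN hH.1 hl hlen 1, h1] at h0
  simpa [List.replicate_succ] using h0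

/-- No sections of `L^μ ⊗ H⁻¹` on closures of dimension at least `m`. -/
theorem h0_eq_zero {L H : X.Modules} (hL : PicF.IsInvertible L) (hnef : Nef k N L)
    (hH : CohB1.IsAmple H) {m : ℕ} (hm : 0 < m) (htriv : Triv k N L m) {y : X}
    (hy : m ≤ Main.pd k y) (μ : ℕ) :
    h0 k X (CohB1.tensorMod (CohB1.tensorPow L μ)
      (CohB1.tensorMod (TensorMod.Dual.dual H) (Cyc.closureStructureSheaf y))) = 0 := by
  haveI := Curves.GlobalSections.isNoetherian_of_proper k X
  by_contra hne
  let Z := IntMult.ptIdeal y
  let i := Z.subschemeι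
  letI : Z.subscheme.Over (Spec (CommRingCat.of k)) := ⟨i ≫ (X ↘ Spec (CommRingCat.of k))⟩
  haveI : IsProper (Z.subscheme ↘ Spec (CommRingCat.of k)) :=
    inferInstanceAs (IsProper (i ≫ (X ↘ Spec (CommRingCat.of k))))
  haveI : IsIntegral Z.subscheme := IntTheory.Curves.isIntegral_ptIdeal y
  haveI := Curves.GlobalSections.isNoetherian_of_proper k Z.subscheme
  have hE : PicF.IsInvertible (CohB1.tensorMod (CohB1.tensorPow L μ) (TensorMod.Dual.dual H)) :=
    isInvertible_tensorMod (isInvertible_tensorPow hL μ) (isInvertible_dual hH.1)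
  set E := CohB1.tensorMod (CohB1.tensorPow L μ) (TensorMod.Dual.dual H)
  have hEi := PicLoc.isInvertible_pullback i hE
  have e₂ : CohB1.tensorMod E (Cyc.closureStructureSheaf y) ≅
      (Coh.push i).obj ((TensorMod.Pullback.pb i).obj E) :=
    (Modules.ProjFormula.projIso i (Modules.DualBasis.hasDBases_of_isFinLocFree
        (TensorMod.LocFree.of_rank (TensorMod.LocFree.of_isInvertible hE)))).app
        (Coh.structureModule Z.subscheme) ≪≫
      (Coh.push i).mapIso (rightUnit _)
  rw [h0_congr ((assoc _ _ _).symm ≪≫ e₂)] at hne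
  haveI : ((TensorMod.Pullback.pb i).obj E).IsQuasicoherent := (Ample.GG.isCoh_of_isInvertible hEi).1
  unfold h0 at hne
  rw [SurfInt.Push.finrank_push i rfl] at hne
  obtain ⟨s, hs⟩ := PosLin.Kodaira.exists_section (k := k) (Nat.pos_of_ne_zero hne)
  obtain ⟨e, he⟩ : ∃ e, Main.pd k y = e + 1 := ⟨Main.pd k y - 1, by omega⟩
  have hdimZ : topologicalKrullDim Z.subscheme = (e + 1 : ℕ) :=
    (IntTheory.Curves.dim_ptIdeal y).trans ((dim_closure y).trans (congrArg Nat.cast he))
  obtain ⟨S, hS, h₁, h₂, h₃, hdim⟩ := Top.exists_divisor (k := k) hdimZ hEi s hs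
  have := DerivedOX.PushExact.preservesFiniteColimits_pushforward i
  have hS' := hS.map_of_exact (Coh.push i)
  set F := (Coh.push i).obj S.X₃
  have hcohF : Coh.IsCoh F := Cyc.Dev.SchemeEquiv.isCoh_push i h₃
  have hdimF : topologicalKrullDim (CohB1.support F) ≤ e := by
    rw [Positive.support_push]
    exact ((i.isClosedEmbedding.isEmbedding.homeomorphImage _).isHomeomorph.topologicalKrullDim_eq).symm.le.trans hdim
  have key : ∀ p q, p + q = e + 1 → 0 < ip k N (mixList L H p q) y := by
    intro p
    induction p with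
    | zero =>
      intro q hq
      obtain rfl : q = e + 1 := by omega
      exact Kleiman.ip_replicate_pos (k := k) hN hH.1 _ _ he (ampleAt_of_isAmple hH _)
    | succ p ihp =>
      intro q hq
      have hl := Kleiman.mixList_invertible hL hH.1 p q
      have hlen : Main.pd k y ≤ (mixList L H p q).length + 1 := by
        rw [Kleiman.length_mixList]; omega
      have hH' : 0 < ip k N (H :: mixList L H p q) y := by
        rw [← ip_perm (k := k) (Kleiman.mixList_perm_right L H p q)]
        exact ihp (q + 1) (by omega)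
      have hadd := (Additive.isAdd_sym (Finite.cohFinite k X) hN hl).add hS'
        (Cyc.Dev.SchemeEquiv.isCoh_push i (h₁ ▸ Twist.isCoh_structureModule _))
        (Cyc.Dev.SchemeEquiv.isCoh_push i (h₂ ▸ Ample.GG.isCoh_of_isInvertible hEi)) hcohF
      change sym k X N (mixList L H p q) ((Coh.push i).obj S.X₂) =
        sym k X N (mixList L H p q) ((Coh.push i).obj S.X₁) + sym k X N (mixList L H p q) F at hadd
      rw [h₁, h₂, ← sym_of_iso _ e₂] at hadd
      have hE' : 0 ≤ ip k N (E :: mixList L H p q) y := by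
        have h := Top.nonneg_of_points (k := k) hN hl hcohF
          (by rw [Kleiman.length_mixList, show p + q = e by omega]; exact hdimF)
          fun z hz => Kleiman.mixed_nonneg (k := k) hN hL hnef _ z rfl H hH.1
            (ampleAt_of_isAmple hH z) p q (by rw [hz, Kleiman.length_mixList])
        have heq : ip k N (E :: mixList L H p q) y =
            (-1 : ℤ) ^ (mixList L H p q).length * sym k X N (mixList L H p q) F := by
          rw [ip, sym_cons, hadd, List.length_cons,
            show Cyc.closureStructureSheaf y = (Coh.push i).obj (Coh.structureModule Z.subscheme) from rfl]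
          ring
        rw [heq]; exact h
      have heq : (μ : ℤ) * ip k N (L :: mixList L H p q) y =
          ip k N (H :: mixList L H p q) y + ip k N (E :: mixList L H p q) y := by
        rw [← ip_pow (k := k) hN hL hl hlen μ, ← ip_tensor (k := k) hN hH.1 hE hl hlen]
        simp only [ip, List.length_cons]
        rw [IntNum.sym_cons_iso ((tensorIso (Iso.refl H) (comm _ _) ≪≫ (assoc _ _ _).symm ≪≫
          tensorIso (tensorDualIso hH.1) (Iso.refl _) ≪≫ leftUnit (CohB1.tensorPow L μ)).symm)]
      have hpos : 0 < (μ : ℤ) * ip k N (L :: mixList L H p q) y := by rw [heq]; omega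
      have := pos_of_mul_pos_right hpos (Int.natCast_nonneg μ)
      rwa [show mixList L H (p + 1) q = L :: mixList L H p q from rfl]
  have := key (e + 1) 0 rfl
  rw [mixed_zero (k := k) hN hL hnef hH htriv (e + 1) y he (e + 1) 0 rfl (by omega)] at this
  omega

/-- **The bound.** -/
theorem exists_bound {L H : X.Modules} (hL : PicF.IsInvertible L) (hnef : Nef k N L)
    (hH : CohB1.IsAmple H) {m : ℕ} (hm : 0 < m) (htriv : Triv k N L m) {G : X.Modules}
    (hG : Coh.IsCoh G) :
    ∃ K : ℕ, ∀ μ : ℕ, h0 k X (CohB1.tensorMod (CohB1.tensorPow L μ) G) ≤ K * (μ + 1) ^ (m - 1) := by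
  haveI := Curves.GlobalSections.isNoetherian_of_proper k X
  refine SubDevissage.devissage
    (fun G => ∃ K : ℕ, ∀ μ : ℕ,
      h0 k X (CohB1.tensorMod (CohB1.tensorPow L μ) G) ≤ K * (μ + 1) ^ (m - 1))
    ⊤ ⟨fun G hz => ⟨0, fun μ => ?_⟩, fun S hS h₁ h₂ h₃ hQ₁ hQ₃ => ?_, fun g hg hA hB hQ => ?_⟩
    (fun y _ => ?_) G ⟨hG, Set.subset_univ _⟩
  · have hz' : IsZero (CohB1.tensorMod (CohB1.tensorPow L μ) G) := by
      rw [← Modules.Support.support_eq_empty_iff, Twist.support_twist (isInvertible_tensorPow hL μ),
        Modules.Support.support_eq_empty_iff.2 hz]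
    haveI := PosLin.CohBound.subsingleton_HH_isZero (k := k) hz' 0
    simp [h0, Module.finrank_zero_of_subsingleton]
  · obtain ⟨K₁, hK₁⟩ := hQ₁
    obtain ⟨K₃, hK₃⟩ := hQ₃
    refine ⟨K₁ + K₃, fun μ => ?_⟩
    have hM := isInvertible_tensorPow hL μ
    refine le_trans (PosLin.CohBound.hd_mid_le (k := k) (Twist.twistSeq_shortExact hM hS)
      (Twist.isCoh_twist hM h₁.1) (Twist.isCoh_twist hM h₂.1) (Twist.isCoh_twist hM h₃.1) 0) ?_
    rw [add_mul]
    exact add_le_add (hK₁ μ) (hK₃ μ)
  · obtain ⟨K, hK⟩ := hQ
    refine ⟨K, fun μ => ?_⟩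
    have hM := isInvertible_tensorPow hL μ
    haveI : Mono (tmap (𝟙 (CohB1.tensorPow L μ)) g) :=
      (Twist.twistSeq_shortExact hM (Devissage.Basic.exists_ses_mono g)).mono_f
    exact (h0_le_of_mono (k := k) (Twist.isCoh_twist hM hB.1) (tmap (𝟙 _) g)).trans (hK μ)
  · have hH' := isInvertible_dual hH.1
    set F := CohB1.tensorMod (TensorMod.Dual.dual H) (Cyc.closureStructureSheaf y)
    have hF : Coh.IsCoh F := Twist.isCoh_twist hH' (Devissage.Closure.isCoh_closureStructureSheaf y)
    refine ⟨F, ⟨hF, by
      rw [Twist.support_twist hH']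
      exact Devissage.Closure.support_closureStructureSheaf y⟩, by
      rw [Twist.length_twist hH', Devissage.Closure.length_closureStructureSheaf y],
      pureAt_twist hH' y, ?_⟩
    rcases Nat.lt_or_ge (Main.pd k y) m with h | h
    · obtain ⟨K, hK⟩ := exists_h0_bound (k := k) hN hH hL hF (r := m - 1) (by
        rw [Twist.support_twist hH']
        exact (dim_support_closure (k := k) y).trans
          (by exact_mod_cast (show Main.pd k y ≤ m - 1 by omega)))
      exact ⟨K, fun μ => (h0_congr (comm _ F)).le.trans (hK μ)⟩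
    · exact ⟨0, fun μ => by rw [h0_eq_zero (k := k) hN hL hnef hH hm htriv h μ]; exact Nat.zero_le _⟩

end Groth.Agent.Lib.Nakai.NumTrivial
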