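import Groth.Agent.Lib.Nakai.VanDev
import Groth.Agent.Lib.PosLin.CohBound
import Groth.Agent.Lib.CohDelta.IdealMul.Main
import Groth.Agent.H97.AsympRR
import Groth.Agent.H97.CurvePositivity
import Groth.Agent.Lib.SurfInt.Semiample
import Groth.Agent.Lib.SurfInt.GGAmple
import Groth.Agent.Lib.IntTheory.Curves

/-!
# The inductive step of the Nakai–Moishezon criterion
-/

set_option autoImplicit false
set_option linter.style.haveILetI false
set_option linter.unusedSectionVars false
universe u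

open CategoryTheory CategoryTheory.Limits AlgebraicGeometry TopologicalSpace

namespace Groth.Agent.Lib.Nakai.Sections

open Groth.Agent.Lib Groth.Agent.Lib.Snapper Groth.Agent.Lib.Nakai.VanDev
open Groth.Agent.Lib.PosLin.CohBound (hd hd_congr hd_mid_le hd_left_le hd_right_le)
open Groth.Agent.Lib.TensorMod.Basic (comm assoc tensorIso leftUnit rightUnit)
open Groth.Agent.Lib.TensorMod.Invertible (isInvertible_tensorPow)
open Groth.Agent.Lib.Modules.StalkModule (stalkMapₗ)

section Choose

/-- A binomial polynomial with positive leading coefficient is unbounded above. -/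
theorem exists_large {d : ℕ} (hd : 0 < d) (c : ℕ → ℤ) (hc : 0 < c d) (C : ℤ) (m₀ : ℕ) :
    ∃ m, m₀ ≤ m ∧ C < ∑ i ∈ Finset.range (d + 1), c i * (m.choose i : ℤ) := by
  set S := ∑ i ∈ Finset.range d, |c i| with hS
  obtain ⟨T, hT⟩ : ∃ T : ℕ, S + |C| + 1 ≤ T := ⟨(S + |C| + 1).toNat, Int.self_le_toNat _⟩
  refine ⟨m₀ + 2 * d + d * T, by omega, ?_⟩
  set m := m₀ + 2 * d + d * T with hm
  have h1 : ∀ i, i ≤ d - 1 → m.choose i ≤ m.choose (d - 1) := by
    intro i hi
    induction hi using Nat.decreasingInduction with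
    | self => exact le_rfl
    | of_succ j hj ih => exact (Nat.choose_le_succ_of_lt_half_left (by omega)).trans ih
  have h2 : m.choose d * d = m.choose (d - 1) * (m - (d - 1)) := by
    have h := Nat.choose_succ_right_eq m (d - 1)
    rwa [Nat.sub_add_cancel hd] at h
  have h3 : T * m.choose (d - 1) ≤ m.choose d := by
    refine Nat.le_of_mul_le_mul_right ?_ hd
    rw [h2, mul_right_comm, mul_comm (T * d)]
    exact Nat.mul_le_mul_left _ (by rw [mul_comm]; omega)
  have h4 : 1 ≤ m.choose (d - 1) := Nat.choose_pos (by omega)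
  have h5 : -(S * (m.choose (d - 1) : ℤ)) ≤ ∑ i ∈ Finset.range d, c i * (m.choose i : ℤ) := by
    rw [hS, Finset.sum_mul, ← Finset.sum_neg_distrib]
    refine Finset.sum_le_sum fun i hi => ?_
    have := h1 i (by have := Finset.mem_range.1 hi; omega)
    nlinarith [neg_abs_le (c i), abs_nonneg (c i), (Int.natCast_nonneg (m.choose i)),
      (show (m.choose i : ℤ) ≤ m.choose (d - 1) by exact_mod_cast this)]
  have h6 : (T : ℤ) * (m.choose (d - 1) : ℤ) ≤ (m.choose d : ℤ) := by exact_mod_cast h3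
  have h7 : (1 : ℤ) ≤ (m.choose (d - 1) : ℤ) := by exact_mod_cast h4
  have h8 : (m.choose d : ℤ) ≤ c d * (m.choose d : ℤ) :=
    le_mul_of_one_le_left (Int.natCast_nonneg _) hc
  rw [Finset.sum_range_succ]
  nlinarith [le_abs_self C, abs_nonneg C]

end Choose

variable {k : Type u} [Field k] {X : Scheme.{u}} [X.Over (Spec (CommRingCat.of k))]
  [IsProper (X ↘ Spec (CommRingCat.of k))]

/-- Outer terms without higher cohomology. -/
theorem hd_eq_of_seq {S : ShortComplex X.Modules} (hS : S.ShortExact) (h₁ : Coh.IsCoh S.X₁)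
    (h₂ : Coh.IsCoh S.X₂) (h₃ : Coh.IsCoh S.X₃) {i : ℕ} (hi : 2 ≤ i) :
    ((∀ q, 0 < q → hd k X S.X₁ q = 0) → hd k X S.X₂ i = hd k X S.X₃ i) ∧
    ((∀ q, 0 < q → hd k X S.X₃ q = 0) → hd k X S.X₁ i = hd k X S.X₂ i) := by
  have a := hd_mid_le (k := k) hS h₁ h₂ h₃ i
  have b := hd_left_le (k := k) hS h₁ h₂ h₃ i
  have c := hd_right_le (k := k) hS h₁ h₂ h₃ i
  refine ⟨fun h => ?_, fun h => ?_⟩
  · rw [h i (by omega)] at a; rw [h (i + 1) (by omega)] at c; omega
  · rw [h i (by omega)] at a; rw [h (i - 1) (by omega)] at b; omega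

/-- A map with small kernel and cokernel is bijective on high cohomology after twisting. -/
theorem hd_eq_of_hom [IsNoetherian X] {F G M : X.Modules} (hM : PicF.IsInvertible M)
    (hF : Coh.IsCoh F) (hG : Coh.IsCoh G) (φ : F ⟶ G)
    (hk : ∀ q, 0 < q → hd k X (CohB1.tensorMod M (kernel φ)) q = 0)
    (hc : ∀ q, 0 < q → hd k X (CohB1.tensorMod M (cokernel φ)) q = 0) {i : ℕ} (hi : 2 ≤ i) :
    hd k X (CohB1.tensorMod M F) i = hd k X (CohB1.tensorMod M G) i := by
  have hK := CohBasics.Closure.isCoh_kernel φ hF hG.1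
  let m : cokernel (kernel.ι φ) ⟶ G := cokernel.desc (kernel.ι φ) φ (kernel.condition φ)
  haveI : Mono m := inferInstanceAs (Mono (Abelian.factorThruCoimage φ))
  have hI : Coh.IsCoh (cokernel (kernel.ι φ)) := CohBasics.Closure.isCoh_cokernel _ hK.1 hF
  have hQ : Coh.IsCoh (cokernel m) := CohBasics.Closure.isCoh_cokernel _ hI.1 hG
  let π : F ⟶ cokernel (kernel.ι φ) := cokernel.π (kernel.ι φ)
  let e : cokernel φ ≅ cokernel m :=
    cokernelIsoOfEq (cokernel.π_desc (kernel.ι φ) φ (kernel.condition φ)).symm ≪≫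
      cokernelEpiComp π m
  have hc' : ∀ q, 0 < q → hd k X (CohB1.tensorMod M (cokernel m)) q = 0 := fun q hq => by
    rw [← hd_congr (k := k) (tensorIso (Iso.refl M) e) q]
    exact hc q hq
  have a := (hd_eq_of_seq (k := k) (Twist.twistSeq_shortExact hM
    (S := ShortComplex.mk (kernel.ι φ) π (cokernel.condition _))
    (Devissage.Basic.exists_ses_mono (kernel.ι φ))) (Twist.isCoh_twist hM hK)
    (Twist.isCoh_twist hM hF) (Twist.isCoh_twist hM hI) hi).1 hk
  have b := (hd_eq_of_seq (k := k) (Twist.twistSeq_shortExact hM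
    (S := ShortComplex.mk m (cokernel.π m) (cokernel.condition m))
    (Devissage.Basic.exists_ses_mono m)) (Twist.isCoh_twist hM hI)
    (Twist.isCoh_twist hM hG) (Twist.isCoh_twist hM hQ) hi).2 hc'
  exact a.trans b

variable [IsIntegral X]

/-- A coherent module mapping to an invertible module and to `O`, bijectively at the generic point. -/
theorem exists_pair [IsNoetherian X] {L : X.Modules} (hL : PicF.IsInvertible L) :
    ∃ (G : X.Modules) (p : G ⟶ L) (q : G ⟶ Coh.structureModule X), Coh.IsCoh G ∧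
      Function.Bijective (stalkMapₗ p (genericPoint X)) ∧
      Function.Bijective (stalkMapₗ q (genericPoint X)) := by
  obtain ⟨U, hηU, ⟨i⟩⟩ := hL (genericPoint X)
  have hLc := Ample.GG.isCoh_of_isInvertible hL
  haveI := hLc.1
  haveI := (Twist.isCoh_structureModule X).1
  haveI : (L ⊞ Coh.structureModule X).IsQuasicoherent := QCoh.Closure.isQCoh_biprod
  let R := Scheme.Modules.restrictFunctor U.ι
  let φ : R.obj L ≅ R.obj (Coh.structureModule X) :=
    i ≪≫ ((Scheme.Modules.restrictFunctorIsoPullback U.ι).app _ ≪≫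
      PicLoc.pullbackStructureIso U.ι).symm
  let g : R.obj L ⟶ R.obj (L ⊞ Coh.structureModule X) := R.map biprod.inl + φ.hom ≫ R.map biprod.inr
  have hg₁ : g ≫ R.map biprod.fst = 𝟙 _ := by
    simp [g, Preadditive.add_comp, ← R.map_comp]
  have hg₂ : g ≫ R.map biprod.snd = φ.hom := by
    simp [g, Preadditive.add_comp, ← R.map_comp]
  haveI : Mono g := mono_of_mono_fac hg₁
  obtain ⟨G', j, e, hj, hG'q, hG'f, he⟩ := Modules.ExtendFT.exists_extension_of_qcqs
    (F := L ⊞ Coh.structureModule X) U (TopologicalSpace.NoetherianSpace.isCompact _) (R.obj L) g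
    (CohDelta.IdealMul.Main.isFT_restrict hLc U)
  haveI := hG'q
  have hp : R.map (j ≫ biprod.fst) = e.hom := by
    rw [R.map_comp, ← he, Category.assoc, hg₁, Category.comp_id]
  have hq : R.map (j ≫ biprod.snd) = e.hom ≫ φ.hom := by
    rw [R.map_comp, ← he, Category.assoc, hg₂]
  refine ⟨G', j ≫ biprod.fst, j ≫ biprod.snd, ⟨hG'q, hG'f⟩, ?_, ?_⟩
  · haveI : IsIso (R.map (j ≫ biprod.fst)) := hp ▸ inferInstance
    exact CohDelta.IdealMul.Main.stalkMap_bijective _ hηU
  · haveI : IsIso (R.map (j ≫ biprod.snd)) := hq ▸ inferInstance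
    exact CohDelta.IdealMul.Main.stalkMap_bijective _ hηU

variable {d : ℕ} (hdim : topologicalKrullDim X = (d : ℕ)) {L : X.Modules} (hL : PicF.IsInvertible L)
  (hsub : ∀ y : X, y ≠ genericPoint X →
    CohB1.IsAmple ((Scheme.Modules.pullback (IntMult.ptIdeal y).subschemeι).obj L))

include hL hsub

/-- No higher cohomology on proper closed subsets, for high powers. -/
theorem eventually_hd_eq_zero {F : X.Modules} (hF : Coh.IsCoh F)
    (hη : genericPoint X ∉ CohB1.support F) :
    ∃ n₀, ∀ n, n₀ ≤ n → ∀ q, 0 < q →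
      hd k X (CohB1.tensorMod (CohB1.tensorPow L n) F) q = 0 := by
  haveI := hF.2
  obtain ⟨n₀, h⟩ := Filter.eventually_atTop.1 (vanh_of_integral k hL
    ⟨CohB1.support F, Modules.Support.isClosed_support F⟩
    (fun y hy => hsub y (ne_of_mem_of_not_mem hy hη)) hF subset_rfl)
  refine ⟨n₀, fun n hn q hq => ?_⟩
  obtain ⟨r, rfl⟩ : ∃ r, q = r + 1 := ⟨q - 1, by omega⟩
  rw [hd_congr (k := k) (comm _ F) (r + 1)]
  haveI := h n hn r
  exact Module.finrank_zero_of_subsingleton

/-- The cohomology in degrees `≥ 2` of the powers of `L` stabilises. -/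
theorem exists_stable : ∃ n₀, ∀ n, n₀ ≤ n → ∀ i, 2 ≤ i →
    hd k X (CohB1.tensorPow L (n + 1)) i = hd k X (CohB1.tensorPow L n) i := by
  haveI := Curves.GlobalSections.isNoetherian_of_proper k X
  obtain ⟨G, p, q, hG, hp, hq⟩ := exists_pair (X := X) hL
  have hLc := Ample.GG.isCoh_of_isInvertible hL
  have hO := Twist.isCoh_structureModule X
  obtain ⟨a, ha⟩ := eventually_hd_eq_zero (k := k) hL hsub
    (CohBasics.Closure.isCoh_kernel p hG hLc.1) (H52.DevSummand.not_mem_support_kernel p hp.1)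
  obtain ⟨b, hb⟩ := eventually_hd_eq_zero (k := k) hL hsub
    (CohBasics.Closure.isCoh_cokernel p hG.1 hLc) (H52.DevSummand.not_mem_support_cokernel p hp.2)
  obtain ⟨c, hc⟩ := eventually_hd_eq_zero (k := k) hL hsub
    (CohBasics.Closure.isCoh_kernel q hG hO.1) (H52.DevSummand.not_mem_support_kernel q hq.1)
  obtain ⟨e, he⟩ := eventually_hd_eq_zero (k := k) hL hsub
    (CohBasics.Closure.isCoh_cokernel q hG.1 hO) (H52.DevSummand.not_mem_support_cokernel q hq.2)
  refine ⟨a + b + c + e, fun n hn i hi => ?_⟩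
  have h1 := hd_eq_of_hom (k := k) (isInvertible_tensorPow hL n) hG hLc p (ha n (by omega))
    (hb n (by omega)) hi
  have h2 := hd_eq_of_hom (k := k) (isInvertible_tensorPow hL n) hG hO q (hc n (by omega))
    (he n (by omega)) hi
  exact (hd_congr (k := k) (Iso.refl (CohB1.tensorMod (CohB1.tensorPow L n) L)) i).trans
    ((h1.symm.trans h2).trans (hd_congr (k := k) (rightUnit _) i))

include hdim

/-- Positive self-intersection gives a section. -/
theorem exists_section (hd0 : 0 < d)
    (htop : 0 < (-1 : ℤ) ^ d * Vanish.sym k X d (List.replicate d L) (Coh.structureModule X)) :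
    ∃ m, 0 < m ∧ 0 < hd k X (CohB1.tensorPow L m) 0 := by
  haveI := Curves.GlobalSections.isNoetherian_of_proper k X
  obtain ⟨n₀, hst⟩ := exists_stable (k := k) hL hsub
  have hconst : ∀ n, n₀ ≤ n → ∀ i, 2 ≤ i →
      hd k X (CohB1.tensorPow L n) i = hd k X (CohB1.tensorPow L n₀) i := fun n hn => by
    induction n, hn using Nat.le_induction with
    | base => exact fun i _ => rfl
    | succ n hn ih => exact fun i hi => (hst n hn i hi).trans (ih i hi)
  set K : ℕ := ∑ i ∈ Finset.range (d + 1), hd k X (CohB1.tensorPow L n₀) i with hK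
  obtain ⟨m, hm, hlt⟩ := exists_large hd0
    (fun i => (-1 : ℤ) ^ i * Vanish.sym k X d (List.replicate i L) (Coh.structureModule X))
    htop K (n₀ + 1)
  refine ⟨m, by omega, ?_⟩
  by_contra h0
  have h0' : hd k X (CohB1.tensorPow L m) 0 = 0 := by omega
  have heu := H97.AsympRR.euler_pow k hdim hL m
  rw [Chi.euler_eq_eulerCharLE hdim.le] at heu
  have hle : FGA.eulerCharLE k X (CohB1.tensorPow L m) d ≤ (K : ℤ) := by
    rw [hK, Nat.cast_sum]
    unfold FGA.eulerCharLE
    refine Finset.sum_le_sum fun i _ => ?_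
    change (-1 : ℤ) ^ i * (hd k X (CohB1.tensorPow L m) i : ℤ) ≤ _
    rcases Nat.lt_or_ge i 2 with hi | hi
    · rcases Nat.lt_or_ge i 1 with hi' | hi'
      · obtain rfl : i = 0 := by omega
        simp [h0']
      · obtain rfl : i = 1 := by omega
        have : (0 : ℤ) ≤ hd k X (CohB1.tensorPow L m) 1 := Int.natCast_nonneg _
        have : (0 : ℤ) ≤ hd k X (CohB1.tensorPow L n₀) 1 := Int.natCast_nonneg _
        linarith
    · rw [hconst m (by omega) i hi]
      rcases neg_one_pow_eq_or ℤ i with h | h <;> rw [h] <;>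
        linarith [Int.natCast_nonneg (hd k X (CohB1.tensorPow L n₀) i)]
  rw [heu] at hle
  refine absurd hlt (not_lt.2 (le_of_eq_of_le (Finset.sum_congr rfl fun i _ => ?_) hle))
  ring

end Groth.Agent.Lib.Nakai.Sections
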