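import Groth.Agent.Lib.Nakai.Top
import Groth.Agent.Lib.PosLin.Volume
import Groth.Agent.Lib.PosLin.CohBound

/-!
# Nef modules with positive self-intersection are big (Siu's inequality)

With `P = L^b ⊗ Q` ample and `Q` effective, `h⁰(L^(bm)) ≥ h⁰(P^m) - (m/q + 2) Σ h⁰(Q^(-r) ⊗ P^m |_D)`.
-/

set_option autoImplicit false
set_option linter.style.haveILetI false
set_option linter.unusedSectionVars false
universe u

open CategoryTheory CategoryTheory.Limits AlgebraicGeometry TopologicalSpace Filter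

namespace Groth.Agent.Lib.Nakai.Siu

open Groth.Agent.Lib Groth.Agent.Lib.Snapper Groth.Agent.Lib.IntTheory Groth.Agent.Lib.Nakai.Cut
open Groth.Agent.Lib.Nakai.Kleiman (Nef mixList)
open Groth.Agent.Lib.Nakai.MixPoly
open Groth.Agent.Lib.PosLin.SectionBound (h0 h0_congr isCoh_twist_right h0_le_twist exists_chi_eq_h0)
open Groth.Agent.Lib.Snapper.Vanish (sym sym_cons sym_of_iso)
open Groth.Agent.Lib.TensorMod.Basic (comm assoc tensorIso leftUnit rightUnit)
open Groth.Agent.Lib.TensorMod.Invertible (isInvertible_tensorPow isInvertible_tensorMod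
  isInvertible_dual tensorDualIso)

/-- Sums of a periodic sequence. -/
theorem sum_mod_le (f : ℕ → ℕ) {q : ℕ} (hq : 0 < q) (m : ℕ) :
    q * ∑ j ∈ Finset.range m, f ((j + 1) % q) ≤ (m + 2 * q) * ∑ r ∈ Finset.range q, f r := by
  have hblock : ∀ K, ∑ j ∈ Finset.range (q * K), f (j % q) = K * ∑ r ∈ Finset.range q, f r := by
    intro K
    induction K with
    | zero => simp
    | succ K ih =>
      rw [Nat.mul_succ, Finset.sum_range_add, ih, Nat.succ_mul]
      refine congrArg _ (Finset.sum_congr rfl fun r hr => ?_)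
      rw [Nat.mul_add_mod, Nat.mod_eq_of_lt (Finset.mem_range.1 hr)]
  set K := (m + 1) / q + 1
  have hd := Nat.div_add_mod (m + 1) q
  have hmod := Nat.mod_lt (m + 1) hq
  have hmK : m + 1 ≤ q * K := by rw [Nat.mul_succ]; omega
  have h1 : ∑ j ∈ Finset.range m, f ((j + 1) % q) ≤ K * ∑ r ∈ Finset.range q, f r := by
    rw [← hblock K]
    refine le_trans ?_ (Finset.sum_le_sum_of_subset (Finset.range_subset_range.2 hmK))
    rw [Finset.sum_range_succ']
    exact Nat.le_add_right _ _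
  refine (Nat.mul_le_mul_left q h1).trans ?_
  rw [← mul_assoc]
  exact Nat.mul_le_mul_right _ (by rw [Nat.mul_succ]; omega)

section Bounds

variable {k : Type u} [Field k] {X : Scheme.{u}} [X.Over (Spec (CommRingCat.of k))]
  [IsProper (X ↘ Spec (CommRingCat.of k))] {d : ℕ} (hd : topologicalKrullDim X ≤ d)

include hd

/-- `χ(Pᵐ ⊗ G)` is its top term up to `O(m^(r-1))`. -/
theorem chi_top {G P : X.Modules} {r : ℕ} (hG : Coh.IsCoh G) (hP : PicF.IsInvertible P)
    (hr : topologicalKrullDim (CohB1.support G) ≤ r) :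
    ∃ K : ℤ, 0 ≤ K ∧ ∀ m : ℕ, r ≤ m → 1 ≤ m →
      (m : ℤ) * |FGA.eulerCharLE k X (CohB1.tensorMod (CohB1.tensorPow P m) G) d -
        (-1 : ℤ) ^ r * sym k X d (List.replicate r P) G * (m.choose r : ℤ)| ≤ K * (m : ℤ) ^ r := by
  haveI := Curves.GlobalSections.isNoetherian_of_proper k X
  refine ⟨∑ i ∈ Finset.range r, |sym k X d (List.replicate i P) G|,
    Finset.sum_nonneg fun i _ => abs_nonneg _, fun m hrm hm => ?_⟩
  have hchi : FGA.eulerCharLE k X (CohB1.tensorMod (CohB1.tensorPow P m) G) d =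
      (∑ i ∈ Finset.range r, (-1 : ℤ) ^ i * (m.choose i : ℤ) * sym k X d (List.replicate i P) G) +
        (-1 : ℤ) ^ r * (m.choose r : ℤ) * sym k X d (List.replicate r P) G := by
    rw [← Finset.sum_range_succ (fun i => (-1 : ℤ) ^ i * (m.choose i : ℤ) * sym k X d (List.replicate i P) G)]
    show sym k X d [] _ = _
    rw [Poly.sym_pow_expansion, Finset.sum_subset (Finset.range_subset_range.2
      (show r + 1 ≤ m + 1 by omega))]
    · simp only [List.append_nil]
    · intro i _ hi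
      rw [Finset.mem_range, not_lt] at hi
      rw [Vanish.sym_eq_zero (Finite.cohFinite k X) hd _
        (fun M hM => (List.mem_replicate.1 hM).2 ▸ hP) G hG
        (hr.trans_lt (by rw [List.length_replicate]; exact_mod_cast (show r < i by omega))), mul_zero]
  rw [hchi, show ∀ a b c s : ℤ, s + a * b * c - a * c * b = s from fun a b c s => by ring]
  refine (mul_le_mul_of_nonneg_left (Finset.abs_sum_le_sum_abs _ _) (by positivity)).trans ?_
  rw [Finset.mul_sum, Finset.sum_mul]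
  refine Finset.sum_le_sum fun i hi => ?_
  rw [abs_mul, abs_mul, abs_pow, abs_neg, abs_one, one_pow, one_mul, Nat.abs_cast, ← mul_assoc,
    mul_comm _ |sym k X d (List.replicate i P) G|]
  refine mul_le_mul_of_nonneg_left ?_ (abs_nonneg _)
  rw [Finset.mem_range] at hi
  have : m * m.choose i ≤ m ^ r :=
    (Nat.mul_le_mul_left m (Nat.choose_le_pow m i)).trans
      ((pow_succ' m i).symm.le.trans (Nat.pow_le_pow_right hm (show i + 1 ≤ r by omega)))
  exact_mod_cast this

end Bounds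

/-- Choice of `b`: `(Lb + Q)^n - n (Lb + Q)^(n-1) Q` is positive for large `b`. -/
theorem exists_good {a : ℕ → ℕ → ℝ} {e : ℕ} (ha : 0 < a (e + 1) 0) :
    ∃ b : ℕ, 0 < b ∧
      0 < mixPoly a (e + 1) 0 0 (1 / b) - (e + 1 : ℝ) * (1 / b) * mixPoly a e 0 1 (1 / b) := by
  have hc : Continuous fun t : ℝ =>
      mixPoly a (e + 1) 0 0 t - (e + 1 : ℝ) * t * mixPoly a e 0 1 t :=
    (continuous_mixPoly a (e + 1) 0 0).sub
      ((continuous_const.mul continuous_id).mul (continuous_mixPoly a e 0 1))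
  have hlim := (hc.tendsto 0).comp tendsto_one_div_atTop_nhds_zero_nat
  have h0 : 0 < mixPoly a (e + 1) 0 0 0 - (e + 1 : ℝ) * 0 * mixPoly a e 0 1 0 := by
    rw [mixPoly_zero, mul_zero, zero_mul, sub_zero]
    exact ha
  obtain ⟨b, hb, hb'⟩ := ((hlim.eventually (lt_mem_nhds h0)).and (eventually_gt_atTop 0)).exists
  exact ⟨b, hb', hb⟩

variable {k : Type u} [Field k] {X : Scheme.{u}} [X.Over (Spec (CommRingCat.of k))]
  [IsProper (X ↘ Spec (CommRingCat.of k))] [IsIntegral X] {e : ℕ}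
  (hn : topologicalKrullDim X = (e + 1 : ℕ))

include hn

/-- The parameters of Siu's inequality. -/
theorem exists_params {L H : X.Modules} (hL : PicF.IsInvertible L) (hnef : Nef k (e + 1) L)
    (hH : CohB1.IsAmple H)
    (hpos : 0 < ip k (e + 1) (List.replicate (e + 1) L) (genericPoint X)) :
    ∃ (b : ℕ) (Q P : X.Modules) (s : Coh.structureModule X ⟶ Q), 0 < b ∧ CohB1.IsAmple Q ∧ s ≠ 0 ∧
      CohB1.IsAmple P ∧ Nonempty (P ≅ CohB1.tensorMod (CohB1.tensorPow L b) Q) ∧
      (e + 1 : ℤ) * ip k (e + 1) (Q :: List.replicate e P) (genericPoint X) <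
        ip k (e + 1) (List.replicate (e + 1) P) (genericPoint X) := by
  haveI := Curves.GlobalSections.isNoetherian_of_proper k X
  set η := genericPoint X
  obtain ⟨Q, s, hQ, hs0⟩ : ∃ (Q : X.Modules) (s : Coh.structureModule X ⟶ Q),
      CohB1.IsAmple Q ∧ s ≠ 0 := by
    obtain ⟨r, hr, s, hs, -, -⟩ :=
      Ample.Basis.exists_locus_of_finite hH {η} (Set.finite_singleton η) ⊤ (fun _ _ => trivial)
    have hQ : CohB1.IsAmple (CohB1.tensorPow H r) := (Ample.Pow.isAmple_tensorPow_iff hH.1 hr).mp hH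
    exact ⟨_, s, hQ, SurfInt.Pencil.ne_zero_of_mem_genLocus hQ.1 (hs rfl)⟩
  have hpd : Main.pd k η = e + 1 := Top.pd_generic (k := k) hn
  set a := Kleiman.mix k (e + 1) L Q η
  have ha : 0 < a (e + 1) 0 := by
    show (0 : ℝ) < ((ip k (e + 1) (mixList L Q (e + 1) 0) η : ℤ) : ℝ)
    rw [show mixList L Q (e + 1) 0 = List.replicate (e + 1) L from List.append_nil _]
    exact_mod_cast hpos
  obtain ⟨b, hb, hb'⟩ := exists_good ha
  set P := CohB1.tensorMod (CohB1.tensorPow L b) (CohB1.tensorPow Q 1)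
  have hbR : (0 : ℝ) < b := by exact_mod_cast hb
  refine ⟨b, Q, P, s, hb, hQ, hs0, Kleiman.isAmple_tensor (k := k) hn.le hL hnef hQ hb one_pos,
    ⟨tensorIso (Iso.refl (CohB1.tensorPow L b)) (leftUnit Q : CohB1.tensorPow Q 1 ≅ Q)⟩, ?_⟩
  have hf : (ip k (e + 1) (List.replicate (e + 1) P) η : ℝ) =
      (b : ℝ) ^ (e + 1) * mixPoly a (e + 1) 0 0 (1 / b) := by
    have := Kleiman.ip_mix (k := k) hn.le hL hQ.1 1 hb η (e + 1) 0 0 (by omega)
    simpa [mixList] using this
  have hg : (ip k (e + 1) (Q :: List.replicate e P) η : ℝ) =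
      (b : ℝ) ^ e * mixPoly a e 0 1 (1 / b) := by
    have := Kleiman.ip_mix (k := k) hn.le hL hQ.1 1 hb η e 0 1 (by omega)
    rw [Nat.cast_one, ip_perm (k := k) (show (List.replicate e P ++ mixList L Q 0 1).Perm
      (Q :: List.replicate e P) from List.perm_append_comm) η] at this
    exact this
  rw [← Int.cast_lt (R := ℝ), Int.cast_mul, hf, hg]
  push_cast
  have h2 : (e + 1 : ℝ) * ((b : ℝ) ^ e * mixPoly a e 0 1 (1 / b)) =
      (b : ℝ) ^ (e + 1) * ((e + 1 : ℝ) * (1 / b) * mixPoly a e 0 1 (1 / b)) := by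
    field_simp
    ring
  rw [h2]
  exact mul_lt_mul_of_pos_left (sub_pos.1 hb') (pow_pos hbR _)

/-- **Nef with positive self-intersection implies big.** -/
theorem exists_growth_mul {L H : X.Modules} (hL : PicF.IsInvertible L) (hnef : Nef k (e + 1) L)
    (hH : CohB1.IsAmple H)
    (hpos : 0 < ip k (e + 1) (List.replicate (e + 1) L) (genericPoint X)) :
    ∃ ν a μ₀ : ℕ, 0 < ν ∧ ∀ μ, μ₀ ≤ μ →
      μ ^ (e + 1) ≤ a * h0 k X (CohB1.tensorPow L (ν * μ)) := by
  classical
  haveI := Curves.GlobalSections.isNoetherian_of_proper k X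
  obtain ⟨b, Q, P, s, hb, hQ, hs, hP, ⟨eP⟩, hgood⟩ :=
    exists_params (k := k) hn hL hnef hH hpos
  set η := genericPoint X
  set f := ip k (e + 1) (List.replicate (e + 1) P) η
  set g := ip k (e + 1) (Q :: List.replicate e P) η
  obtain ⟨S, hS, h₁, h₂, hF, hdimF⟩ := Top.exists_divisor (k := k) hn hQ.1 s hs
  set F := S.X₃
  have hlP : ∀ M ∈ List.replicate e P, PicF.IsInvertible M := fun M hM =>
    List.eq_of_mem_replicate hM ▸ hP.1
  have hg : g = (-1 : ℤ) ^ e * sym k X (e + 1) (List.replicate e P) F :=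
    Top.ip_section (k := k) hn hS h₁ h₂ hF hQ.1 hlP List.length_replicate
  set Q' := TensorMod.Dual.dual Q
  have hQ' := isInvertible_dual hQ.1
  -- a section of a power of `Q` avoiding the associated points of `F`
  obtain ⟨q, hq, t, ht, -, -⟩ := Ample.Basis.exists_locus_of_finite hQ {x | Curv2.IsAssPoint F x}
    (UnifReg.Hyperplane.finite_assPoints hF) ⊤ (fun _ _ => trivial)
  let W : ℕ → X.Modules := fun i => CohB1.tensorMod (CohB1.tensorPow Q' i) F
  have hW : ∀ i, Coh.IsCoh (W i) := fun i => Twist.isCoh_twist (isInvertible_tensorPow hQ' i) hF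
  -- the restrictions to the divisor, made periodic
  let T : ℕ → ℕ → ℕ := fun m i => h0 k X (CohB1.tensorMod (W i) (CohB1.tensorPow P m))
  have hstep : ∀ m i, T m (i + q) ≤ T m i := by
    intro m i
    have hM : PicF.IsInvertible (CohB1.tensorMod (CohB1.tensorPow P m) (CohB1.tensorPow Q' (i + q))) :=
      isInvertible_tensorMod (isInvertible_tensorPow hP.1 m) (isInvertible_tensorPow hQ' _)
    let eW : CohB1.tensorMod (W (i + q)) (CohB1.tensorPow P m) ≅
        CohB1.tensorMod (CohB1.tensorMod (CohB1.tensorPow P m) (CohB1.tensorPow Q' (i + q))) F :=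
      comm _ _ ≪≫ (assoc _ _ _).symm
    refine (h0_le_twist (k := k) (isCoh_twist_right (hW _) (isInvertible_tensorPow hP.1 m))
      (isInvertible_tensorPow hQ.1 q) t fun x hx => ht ?_).trans (h0_congr ?_).le
    · obtain ⟨φ⟩ := Twist.exists_stalkEquiv_twist hM F x
      exact LinearEquiv.isAssociatedPrime_iff ((LinearEquiv.ofBijective
        (Modules.StalkModule.stalkMapₗ eW.hom x)
        ((Modules.StalkModule.isIso_iff_stalkMapₗ_bijective _).mp inferInstance x)) ≪≫ₗ φ) |>.mp hx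
    · exact comm _ _ ≪≫ (assoc _ _ _).symm ≪≫ tensorIso
        ((assoc _ _ _).symm ≪≫ tensorIso
          (tensorIso (Iso.refl _) (Ample.Pow.powAdd Q' i q) ≪≫ comm _ _ ≪≫ assoc _ _ _ ≪≫
            tensorIso (Iso.refl _) ((Ample.Pow.powTensor Q' Q q).symm ≪≫
              Ample.Pow.powIso (comm _ _ ≪≫ tensorDualIso hQ.1) q ≪≫
              Ample.Pow.powUnit X q) ≪≫ rightUnit _) (Iso.refl F)) (Iso.refl _)
  have hper : ∀ m i, T m i ≤ T m (i % q) := by
    intro m i
    induction i using Nat.strong_induction_on with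
    | _ i ih =>
      rcases Nat.lt_or_ge i q with h | h
      · rw [Nat.mod_eq_of_lt h]
      · obtain ⟨i, rfl⟩ : ∃ i', i = i' + q := ⟨i - q, by omega⟩
        rw [Nat.add_mod_right]
        exact (hstep m i).trans (ih i (by omega))
  -- telescoping along the powers of `Q`
  let R : ℕ → ℕ → X.Modules := fun m j =>
    CohB1.tensorMod (CohB1.tensorPow P m) (CohB1.tensorPow Q' j)
  have hR : ∀ m j, PicF.IsInvertible (R m j) := fun m j =>
    isInvertible_tensorMod (isInvertible_tensorPow hP.1 m) (isInvertible_tensorPow hQ' j)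
  have hdrop : ∀ m j, h0 k X (R m j) ≤ h0 k X (R m (j + 1)) + T m (j + 1) := by
    intro m j
    have hse := Twist.twistSeq_shortExact (hR m (j + 1)) hS
    have h := PosLin.CohBound.hd_mid_le (k := k) hse
      (Twist.isCoh_twist (hR m (j + 1)) (h₁ ▸ Twist.isCoh_structureModule X))
      (Twist.isCoh_twist (hR m (j + 1)) (h₂ ▸ Ample.GG.isCoh_of_isInvertible hQ.1))
      (Twist.isCoh_twist (hR m (j + 1)) hF) 0
    have e1 : CohB1.tensorMod (R m (j + 1)) S.X₁ ≅ R m (j + 1) :=
      tensorIso (Iso.refl _) (eqToIso h₁) ≪≫ rightUnit _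
    have e2 : CohB1.tensorMod (R m (j + 1)) S.X₂ ≅ R m j :=
      tensorIso (Iso.refl _) (eqToIso h₂) ≪≫ assoc _ _ _ ≪≫
        tensorIso (Iso.refl (CohB1.tensorPow P m))
          ((assoc _ _ _ : CohB1.tensorMod (CohB1.tensorPow Q' (j + 1)) Q ≅ _) ≪≫
            tensorIso (Iso.refl _) (comm _ _ ≪≫ tensorDualIso hQ.1) ≪≫ rightUnit _)
    have e3 : CohB1.tensorMod (R m (j + 1)) F ≅
        CohB1.tensorMod (W (j + 1)) (CohB1.tensorPow P m) := assoc _ _ _ ≪≫ comm _ _
    have h' : h0 k X (CohB1.tensorMod (R m (j + 1)) S.X₂) ≤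
        h0 k X (CohB1.tensorMod (R m (j + 1)) S.X₁) + h0 k X (CohB1.tensorMod (R m (j + 1)) F) := h
    rw [h0_congr e1, h0_congr e2, h0_congr e3] at h'
    exact h'
  have htel : ∀ m j, h0 k X (R m 0) ≤
      h0 k X (R m j) + ∑ i ∈ Finset.range j, T m ((i + 1) % q) := by
    intro m j
    induction j with
    | zero => exact Nat.le_add_right _ _
    | succ j ih =>
      rw [Finset.sum_range_succ]
      have := hdrop m j
      have := hper m (j + 1)
      omega
  -- Euler characteristics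
  have hO := Twist.isCoh_structureModule X
  obtain ⟨K₀, hK₀, hP₀⟩ := chi_top (k := k) (r := e + 1) hn.le hO hP.1
    ((Devissage.Dim.dim_mono (Set.subset_univ _)).trans
      ((Homeomorph.Set.univ X).isHomeomorph.topologicalKrullDim_eq.le.trans hn.le))
  choose K hK hPK using fun r => chi_top (k := k) (r := e) hn.le (hW r) hP.1 (by
    show topologicalKrullDim (CohB1.support (CohB1.tensorMod _ F)) ≤ _
    rw [Twist.support_twist (isInvertible_tensorPow hQ' r)]
    exact hdimF)
  obtain ⟨q₀, hq₀⟩ := exists_chi_eq_h0 (k := k) (e + 1) hO hP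
  choose q₁ hq₁ using fun r => exists_chi_eq_h0 (k := k) (e + 1) (hW r) hP
  set K₁ := ∑ r ∈ Finset.range q, K r
  set C := K₀ + ((e : ℤ) + 2 * q) * |g| + (1 + 2 * (q : ℤ)) * K₁
  have hC : 0 ≤ C := by
    have : 0 ≤ K₁ := Finset.sum_nonneg fun r _ => hK r
    positivity
  set D := 2 ^ (e + 1) * (e + 1).factorial
  refine ⟨b, 2 * D, q₀ + (Finset.range q).sup q₁ + 2 * (e + 1) + 2 * D * C.toNat + 1, hb,
    fun m hm => ?_⟩
  have hm1 : 1 ≤ m := by omega
  have hmpos : (0 : ℤ) < m := by exact_mod_cast hm1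
  -- sections of `Pᵐ`
  have hA : f * (m.choose (e + 1) : ℤ) - K₀ * (m : ℤ) ^ e ≤ (h0 k X (R m 0) : ℤ) := by
    have h1 := hP₀ m (by omega) hm1
    have hsym : (-1 : ℤ) ^ (e + 1) * sym k X (e + 1) (List.replicate (e + 1) P)
        (Coh.structureModule X) = f :=
      (Top.ip_generic (k := k) hn (fun M hM => List.eq_of_mem_replicate hM ▸ hP.1)
        List.length_replicate).symm
    rw [hsym, hq₀ m (by omega)] at h1
    have e0 : CohB1.tensorMod (Coh.structureModule X) (CohB1.tensorPow P m) ≅ R m 0 := comm _ _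
    rw [h0_congr e0, pow_succ', ← mul_assoc, mul_comm K₀, mul_assoc] at h1
    have h2 := (abs_le.1 (le_of_mul_le_mul_left h1 hmpos)).1
    linarith
  -- sections on the divisor
  have hB : ∀ r, r < q → (T m r : ℤ) * m ≤ m * g * (m.choose e : ℤ) + K r * (m : ℤ) ^ e := by
    intro r hr
    have hqr : q₁ r ≤ m := by
      have := Finset.le_sup (f := q₁) (Finset.mem_range.2 hr)
      omega
    have h1 := hPK r m (by omega) hm1
    have hsym : (-1 : ℤ) ^ e * sym k X (e + 1) (List.replicate e P) (W r) = g := by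
      rw [hg, IntTheory.Basic.sym_twist (Finite.cohFinite k X) hn.le hlP
        (isInvertible_tensorPow hQ' r) hF (by rw [List.length_replicate]; exact hdimF)]
    rw [hsym, hq₁ r m hqr] at h1
    have h2 := (mul_le_mul_of_nonneg_left (le_abs_self
      ((h0 k X (CohB1.tensorMod (W r) (CohB1.tensorPow P m)) : ℤ) - g * (m.choose e : ℤ)))
      hmpos.le).trans h1
    show (h0 k X (CohB1.tensorMod (W r) (CohB1.tensorPow P m)) : ℤ) * m ≤ _
    linarith
  have hS' : (m : ℤ) * (∑ i ∈ Finset.range m, T m ((i + 1) % q) : ℕ) ≤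
      ((m : ℤ) + 2 * q) * g * m.choose e * m + (1 + 2 * (q : ℤ)) * K₁ * (m * (m : ℤ) ^ e) := by
    have h1 : (q : ℤ) * (∑ i ∈ Finset.range m, T m ((i + 1) % q) : ℕ) ≤
        ((m : ℤ) + 2 * q) * (∑ r ∈ Finset.range q, T m r : ℕ) := by
      exact_mod_cast sum_mod_le (T m) hq m
    have h2 : (m : ℤ) * (∑ r ∈ Finset.range q, T m r : ℕ) ≤
        (q : ℤ) * (m * g * (m.choose e : ℤ)) + K₁ * (m : ℤ) ^ e := by
      push_cast
      rw [Finset.mul_sum]
      refine (Finset.sum_le_sum fun r hr => (mul_comm (m : ℤ) _).le.trans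
        (hB r (Finset.mem_range.1 hr))).trans (le_of_eq ?_)
      rw [Finset.sum_add_distrib, Finset.sum_const, Finset.card_range, ← Finset.sum_mul,
        nsmul_eq_mul]
    have hqpos : (0 : ℤ) < q := by exact_mod_cast hq
    refine le_of_mul_le_mul_left ?_ hqpos
    have hK₁ : 0 ≤ K₁ := Finset.sum_nonneg fun r _ => hK r
    have h3 := mul_le_mul_of_nonneg_left h1 hmpos.le
    have h4 := mul_le_mul_of_nonneg_left h2 (show (0 : ℤ) ≤ (m : ℤ) + 2 * q by positivity)
    have h5 : ((m : ℤ) + 2 * q) ≤ (1 + 2 * (q : ℤ)) * ((q : ℤ) * m) := by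
      have h6 : (1 : ℤ) ≤ q := by exact_mod_cast hq
      have h7 : (1 : ℤ) ≤ m := by exact_mod_cast hm1
      nlinarith [mul_le_mul h6 h7 zero_le_one (by positivity)]
    have h8 := mul_le_mul_of_nonneg_right h5 (mul_nonneg hK₁ (pow_nonneg hmpos.le e))
    linarith
  have hLm : h0 k X (R m m) = h0 k X (CohB1.tensorPow L (b * m)) :=
    h0_congr ((Ample.Pow.powTensor P Q' m).symm ≪≫
      Ample.Pow.powIso (tensorIso eP (Iso.refl Q') ≪≫ assoc _ _ _ ≪≫
        tensorIso (Iso.refl _) (tensorDualIso hQ.1) ≪≫ rightUnit _) m ≪≫ Ample.Pow.powMul L b m)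
  have htel' : (h0 k X (R m 0) : ℤ) ≤ (h0 k X (R m m) : ℤ) +
      (∑ i ∈ Finset.range m, T m ((i + 1) % q) : ℕ) := by exact_mod_cast htel m m
  have hchoose : (m : ℤ) * m.choose e = (e + 1 : ℤ) * m.choose (e + 1) + e * m.choose e := by
    have h := Nat.choose_succ_right_eq m e
    have h' : (m.choose (e + 1) : ℤ) * (e + 1) = m.choose e * ((m : ℤ) - e) := by
      rw [← Nat.cast_sub (by omega)]
      exact_mod_cast h
    linarith
  have hce : (m.choose e : ℤ) ≤ (m : ℤ) ^ e := by exact_mod_cast Nat.choose_le_pow m e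
  have hmain : (f - (e + 1) * g) * (m.choose (e + 1) : ℤ) ≤
      (h0 k X (R m m) : ℤ) + C * (m : ℤ) ^ e := by
    have hS2 : (∑ i ∈ Finset.range m, T m ((i + 1) % q) : ℕ) ≤
        ((m : ℤ) + 2 * q) * g * m.choose e + (1 + 2 * (q : ℤ)) * K₁ * (m : ℤ) ^ e :=
      le_of_mul_le_mul_left (hS'.trans_eq (by ring)) hmpos
    have hg' : ((e : ℤ) + 2 * q) * g * m.choose e ≤ ((e : ℤ) + 2 * q) * |g| * (m : ℤ) ^ e :=
      (mul_le_mul_of_nonneg_right (mul_le_mul_of_nonneg_left (le_abs_self g) (by positivity))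
        (Int.natCast_nonneg _)).trans (mul_le_mul_of_nonneg_left hce (by positivity))
    have hexp : ((m : ℤ) + 2 * q) * g * m.choose e =
        (e + 1 : ℤ) * g * m.choose (e + 1) + ((e : ℤ) + 2 * q) * g * m.choose e := by
      linear_combination g * hchoose
    linarith
  have hlow : (m : ℤ) ^ (e + 1) ≤ D * (m.choose (e + 1) : ℤ) := by
    have h1 : m ^ (e + 1) ≤ 2 ^ (e + 1) * (m + 1 - (e + 1)) ^ (e + 1) := by
      rw [← mul_pow]; exact Nat.pow_le_pow_left (by omega) _
    have h2 := (Nat.pow_sub_le_descFactorial m (e + 1)).trans_eq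
      (Nat.descFactorial_eq_factorial_mul_choose m (e + 1))
    exact_mod_cast h1.trans ((Nat.mul_le_mul_left _ h2).trans_eq (mul_assoc _ _ _).symm)
  have hdiff : (1 : ℤ) ≤ f - (e + 1) * g := by omega
  have hcc : (m.choose (e + 1) : ℤ) ≤ (f - (e + 1) * g) * (m.choose (e + 1) : ℤ) :=
    le_mul_of_one_le_left (Int.natCast_nonneg _) hdiff
  have hD : (0 : ℤ) < D := by positivity
  have hCm : 2 * (D : ℤ) * C * (m : ℤ) ^ e ≤ (m : ℤ) ^ (e + 1) := by
    rw [pow_succ' (m : ℤ) e]
    refine mul_le_mul_of_nonneg_right ?_ (by positivity)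
    rw [← Int.toNat_of_nonneg hC]
    exact_mod_cast (show 2 * D * C.toNat ≤ m by omega)
  have key : (m : ℤ) ^ (e + 1) ≤ 2 * D * (h0 k X (CohB1.tensorPow L (b * m)) : ℤ) := by
    rw [← hLm]
    have := mul_le_mul_of_nonneg_left (hcc.trans hmain) (show (0 : ℤ) ≤ 2 * D by positivity)
    linarith
  exact_mod_cast key

end Groth.Agent.Lib.Nakai.Siu
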