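import Groth.Agent.Lib.Nakai.Sections
import Groth.Agent.Lib.PosLin.TopVanish

/-!
# The Nakai–Moishezon criterion: the inductive step
-/

set_option autoImplicit false
set_option linter.style.haveILetI false
set_option linter.unusedSectionVars false
universe u

open CategoryTheory CategoryTheory.Limits AlgebraicGeometry TopologicalSpace

namespace Groth.Agent.Lib.Nakai.Step

open Groth.Agent.Lib Groth.Agent.Lib.Snapper Groth.Agent.Lib.Nakai.VanDev
open Groth.Agent.Lib.TensorMod.Invertible (isInvertible_tensorPow)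

local notation "pb" => Scheme.Modules.pullback

/-- Ampleness passes between closed immersions of a reduced scheme with smaller image. -/
theorem isAmple_of_range_subset {A B X : Scheme.{u}} (a : A ⟶ X) (b : B ⟶ X) [IsClosedImmersion a]
    [IsClosedImmersion b] [AlgebraicGeometry.IsReduced A] (h : Set.range a ⊆ Set.range b)
    {L : X.Modules} (hb : CohB1.IsAmple ((pb b).obj L)) : CohB1.IsAmple ((pb a).obj L) := by
  obtain ⟨g, hg⟩ := H75.RedKer.exists_lift a b h
  haveI : IsClosedImmersion (g ≫ b) := hg.symm ▸ inferInstance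
  haveI : IsClosedImmersion g := IsClosedImmersion.of_comp g b
  exact Ample.Pow.isAmple_of_iso ((Scheme.Modules.pullbackComp g b).app L ≪≫
    (Scheme.Modules.pullbackCongr hg).app L)
    (Ample.Pullback.isAmple_pullback g (Ample.Pullback.isQuasiAffine_of_isAffineHom _) hb)

/-- Ampleness on the point closures of a closed subscheme. -/
theorem isAmple_sub {Y X : Scheme.{u}} (i : Y ⟶ X) [IsClosedImmersion i] (z : Y) {L : X.Modules}
    (h : CohB1.IsAmple ((pb (IntMult.ptIdeal (i z)).subschemeι).obj L)) :
    CohB1.IsAmple ((pb (IntMult.ptIdeal z).subschemeι).obj ((pb i).obj L)) := by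
  haveI := H75.RedSub.isReduced_vanishingIdeal (⟨closure {z}, isClosed_closure⟩ : Closeds Y)
  haveI : AlgebraicGeometry.IsReduced (IntMult.ptIdeal z).subscheme :=
    ‹AlgebraicGeometry.IsReduced
      (Scheme.IdealSheafData.vanishingIdeal ⟨closure {z}, isClosed_closure⟩).subscheme›
  refine Ample.Pow.isAmple_of_iso ((Scheme.Modules.pullbackComp _ i).app L).symm
    (isAmple_of_range_subset ((IntMult.ptIdeal z).subschemeι ≫ i)
      (IntMult.ptIdeal (i z)).subschemeι ?_ h)
  rw [Scheme.Hom.comp_base, TopCat.coe_comp, Set.range_comp, Devissage.Closure.range_ptIdeal,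
    Devissage.Closure.range_ptIdeal]
  have := image_closure_subset_closure_image i.continuous (s := ({z} : Set Y))
  rwa [Set.image_singleton] at this

variable {k : Type u} [Field k] {X : Scheme.{u}} [X.Over (Spec (CommRingCat.of k))]
  [IsProper (X ↘ Spec (CommRingCat.of k))] [IsIntegral X]

/-- A module of positive degree on a curve. -/
theorem isAmple_of_curve (hdim : topologicalKrullDim X = (1 : ℕ)) {L : X.Modules}
    (hL : PicF.IsInvertible L)
    (htop : 0 < (-1 : ℤ) ^ 1 * Vanish.sym k X 1 (List.replicate 1 L) (Coh.structureModule X)) :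
    CohB1.IsAmple L := by
  haveI := Curves.GlobalSections.isNoetherian_of_proper k X
  refine H97.CurvePositivity.isAmple_of_deg_pos k hdim hL ?_
  have h1 : Vanish.sym k X 1 [L] (Coh.structureModule X) =
      FGA.eulerCharLE k X (Coh.structureModule X) 1 - FGA.eulerCharLE k X L 1 := by
    rw [Vanish.sym_cons]
    show _ - FGA.eulerCharLE k X _ 1 = _
    rw [Chi.eulerCharLE_of_iso (TensorMod.Basic.rightUnit L) 1]
    rfl
  rw [List.replicate_one, h1] at htop
  unfold Curv2.deg
  rw [Chi.euler_eq_eulerCharLE hdim.le, Chi.euler_eq_eulerCharLE hdim.le]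
  push_cast
  linarith

include k in
/-- An effective module ample on all proper integral closed subschemes, in dimension at least two. -/
theorem isAmple_of_section {d : ℕ} (hd2 : 2 ≤ d) (hdim : topologicalKrullDim X = (d : ℕ))
    {L : X.Modules} (hL : PicF.IsInvertible L)
    (hsub : ∀ y : X, y ≠ genericPoint X →
      CohB1.IsAmple ((pb (IntMult.ptIdeal y).subschemeι).obj L))
    {m : ℕ} (hm : 0 < m) (s : Coh.structureModule X ⟶ CohB1.tensorPow L m) (hs : s ≠ 0) :
    CohB1.IsAmple L := by
  haveI := Curves.GlobalSections.isNoetherian_of_proper k X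
  have hLm := isInvertible_tensorPow hL m
  obtain ⟨hD, ⟨e⟩, hsupp, -⟩ := SurfInt.Div.divisor_spec hLm s hs
  set D := PicF2.zeroScheme (CohB1.tensorPow L m) s
  letI : D.subscheme.Over (Spec (CommRingCat.of k)) :=
    ⟨D.subschemeι ≫ (X ↘ Spec (CommRingCat.of k))⟩
  haveI : IsProper (D.subscheme ↘ Spec (CommRingCat.of k)) :=
    inferInstanceAs (IsProper (D.subschemeι ≫ (X ↘ Spec (CommRingCat.of k))))
  have hη : genericPoint X ∉ (D.support : Set X) := by
    rw [hsupp]
    exact fun h => h (PosLin.TopVanish.genericPoint_mem_genLocus hLm hs)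
  have hAD : CohB1.IsAmple ((pb D.subschemeι).obj (CohB1.tensorPow L m)) := by
    refine Ample.Pow.isAmple_of_iso (Ample.Pow.pullbackPow D.subschemeι L m).symm
      ((Ample.Pow.isAmple_tensorPow_iff (PicLoc.isInvertible_pullback _ hL) hm).mp ?_)
    exact isAmple_of_integral k (PicLoc.isInvertible_pullback _ hL) fun z =>
      isAmple_sub D.subschemeι z (hsub _ fun e' => hη (e' ▸ D.range_subschemeι.subset ⟨z, rfl⟩))
  obtain ⟨n₀, hn⟩ := SurfInt.Semiample.eventually_genAt k D e hAD
  have hN := isInvertible_tensorPow hLm (n₀ + 1)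
  refine (Ample.Pow.isAmple_tensorPow_iff hL hm).mpr
    ((Ample.Pow.isAmple_tensorPow_iff hLm n₀.succ_pos).mpr
      (SurfInt.GGAmple.isAmple k hN (hn (n₀ + 1) n₀.le_succ) fun C hC hCd => ?_))
  haveI := hC
  set c := genericPoint C.subscheme
  have hsuppC : (C.support : Set X) = closure {C.subschemeι c} := by
    rw [← C.range_subschemeι, ← Set.image_univ, ← (genericPoint_spec C.subscheme).def,
      ← C.subschemeι.isClosedEmbedding.closure_image_eq, Set.image_singleton]
  have hne : C.subschemeι c ≠ genericPoint X := fun e' => by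
    rw [hsuppC, e', (genericPoint_spec X).def,
      (Homeomorph.Set.univ X).isHomeomorph.topologicalKrullDim_eq, hdim] at hCd
    exact absurd (show d = 1 by exact_mod_cast hCd) (by omega)
  refine Ample.Pow.isAmple_of_iso (Ample.Pow.pullbackPow _ _ _).symm
    ((Ample.Pow.isAmple_tensorPow_iff (PicLoc.isInvertible_pullback _ hLm) n₀.succ_pos).mp
      (Ample.Pow.isAmple_of_iso (Ample.Pow.pullbackPow _ _ _).symm
        ((Ample.Pow.isAmple_tensorPow_iff (PicLoc.isInvertible_pullback _ hL) hm).mp ?_)))
  refine isAmple_of_range_subset C.subschemeι (IntMult.ptIdeal (C.subschemeι c)).subschemeι ?_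
    (hsub _ hne)
  rw [C.range_subschemeι, Devissage.Closure.range_ptIdeal, hsuppC]

theorem isAmple {d : ℕ} (hd0 : 0 < d) (hdim : topologicalKrullDim X = (d : ℕ)) {L : X.Modules}
    (hL : PicF.IsInvertible L)
    (hsub : ∀ y : X, y ≠ genericPoint X →
      CohB1.IsAmple ((pb (IntMult.ptIdeal y).subschemeι).obj L))
    (htop : 0 < (-1 : ℤ) ^ d * Vanish.sym k X d (List.replicate d L) (Coh.structureModule X)) :
    CohB1.IsAmple L := by
  haveI := Curves.GlobalSections.isNoetherian_of_proper k X
  rcases Nat.lt_or_ge d 2 with hd1 | hd2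
  · obtain rfl : d = 1 := by omega
    exact isAmple_of_curve hdim hL htop
  obtain ⟨m, hm, h0⟩ := Sections.exists_section (k := k) hdim hL hsub hd0 htop
  obtain ⟨s, hs⟩ := PosLin.Kodaira.exists_section (k := k) h0
  exact isAmple_of_section (k := k) hd2 hdim hL hsub hm s hs

end Groth.Agent.Lib.Nakai.Step
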