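import Groth.Agent.Lib.Nakai.NTBound
import Groth.Agent.Lib.ProjKoszul.Reg2
import Groth.Agent.Lib.ProperFin.Projective
import Groth.Agent.Lib.UnifReg.Hyperplane
import Groth.Agent.Lib.Cyc.DegK.Dim

/-!
# Regularity and Euler characteristics of twists by numerically trivial modules

On a closed subscheme of `P^n` over an infinite field every coherent `G` has an `m` such that all `N ⊗ G`,
`N` numerically trivial, are `m`-regular, and `χ(N ⊗ G) = χ(G)`.
-/

set_option autoImplicit false
set_option linter.style.haveILetI false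
set_option linter.unusedSectionVars false
universe u

open CategoryTheory CategoryTheory.Limits AlgebraicGeometry TopologicalSpace

namespace Groth.Agent.Lib.Nakai.UnifVan

open Groth.Agent.Lib Groth.Agent.Lib.Snapper Groth.Agent.Lib.IntTheory Groth.Agent.Lib.Nakai.Cut
open Groth.Agent.Lib.Nakai.NTBound (NT)
open Groth.Agent.Lib.PosLin.SectionBound (h0 h0_congr)
open Groth.Agent.Lib.Snapper.Vanish (sym sym_cons sym_of_iso)
open Groth.Agent.Lib.TensorMod.Basic (tmap comm assoc tensorIso leftUnit rightUnit)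
open Groth.Agent.Lib.TensorMod.Invertible (isInvertible_tensorPow isInvertible_tensorMod
  isInvertible_dual tensorDualIso)
open Groth.Agent.Lib.ProjCoh.Coherent (tw twZero twTensor isInvertible_tw)

variable {k : Type u} [Field k] {n : ℕ} {X : Scheme.{u}} [X.Over (Spec (CommRingCat.of k))]
  (i : X ⟶ CohB1.ProjSpace n k) [IsClosedImmersion i]

/-- `O_X(j)`. -/
noncomputable abbrev twX (j : ℤ) : X.Modules := (Scheme.Modules.pullback i).obj (tw n k j)

theorem isInvertible_twX (j : ℤ) : PicF.IsInvertible (twX i j) :=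
  PicLoc.isInvertible_pullback i (isInvertible_tw j)

/-- `O_X(a) ⊗ O_X(b) ≅ O_X(a + b)`. -/
noncomputable def twXAdd (a b c : ℤ) (h : a + b = c) :
    CohB1.tensorMod (twX i a) (twX i b) ≅ twX i c :=
  (TensorMod.Pullback.pullbackTensorIso i _ _).symm ≪≫
    (Scheme.Modules.pullback i).mapIso (twTensor a b ≪≫ eqToIso (congrArg (tw n k) h))

/-- `O_X(0) ≅ O_X`. -/
noncomputable def twXZero : twX i 0 ≅ Coh.structureModule X :=
  (Scheme.Modules.pullback i).mapIso twZero ≪≫ PicLoc.pullbackStructureIso i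

variable (hi : i ≫ CohB1.ProjSpace.toSpec n k = X ↘ Spec (CommRingCat.of k))

/-- The projection formula for twists. -/
noncomputable def pushTwist (M : X.Modules) (j : ℤ) :
    (Coh.push i).obj (CohB1.tensorMod M (twX i j)) ≅ CohB1.tensorMod ((Coh.push i).obj M) (tw n k j) :=
  (Coh.push i).mapIso (comm _ _) ≪≫
    ((Modules.ProjFormula.projIso i (E := tw n k j)
      (Modules.DualBasis.hasDBases_of_isFinLocFree (TensorMod.LocFree.of_rank
        (TensorMod.LocFree.of_isInvertible (isInvertible_tw j))))).app M).symm ≪≫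
    comm _ _

include hi in
theorem isProper_X : IsProper (X ↘ Spec (CommRingCat.of k)) := by
  haveI : IsProper (CohB1.ProjSpace.toSpec n k) := ProjSpace.Basic.isProper_toSpec n k
  rw [← hi]; infer_instance

include hi in
theorem nonempty_hh {M : X.Modules} (hM : Coh.IsCoh M) (j : ℤ) (q : ℕ) :
    Nonempty (Coh.HH (CohB1.ProjSpace n k) (CohB1.tensorMod ((Coh.push i).obj M) (tw n k j)) q ≃ₗ[k]
      Coh.HH X (CohB1.tensorMod M (twX i j)) q) := by
  haveI : IsLocallyNoetherian X :=
    haveI := ProperFin.Projective.isNoetherian_projSpace (R := k) (n := n)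
    LocallyOfFiniteType.isLocallyNoetherian i
  have : (CohB1.tensorMod M (twX i j)).IsQuasicoherent :=
    (ProjCoh.Coherent.isCoh_tensorMod hM (Ample.GG.isCoh_of_isInvertible (isInvertible_twX i j))).1
  exact ⟨(Curves.LES.isoK k (pushTwist i M j) q).symm ≪≫ₗ
    ZarCoh.Linear.affineLinearEquiv (A := k) i hi (CohB1.tensorMod M (twX i j)) q⟩

include hi in
/-- Regularity propagates. -/
theorem subsingleton_of_reg {M : X.Modules} (hM : Coh.IsCoh M) {m : ℤ}
    (h : Pic13.IsMRegular k i M m) {q : ℕ} (hq : 1 ≤ q) {j : ℤ} (hj : m - q ≤ j) :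
    Subsingleton (Coh.HH X (CohB1.tensorMod M (twX i j)) q) := by
  have hreg : ProjKoszul.Regularity.Reg ((Coh.push i).obj M) m := fun r hr => by
    obtain ⟨E⟩ := nonempty_hh i hi hM (m - r) r
    have h' : Subsingleton (Coh.HH X (CohB1.tensorMod M (twX i (m - r))) r) := h r hr
    exact E.injective.subsingleton
  obtain ⟨E⟩ := nonempty_hh i hi hM j q
  have := ProjKoszul.Regularity.subsingleton_of_le hreg hq hj
  exact E.symm.injective.subsingleton

include hi in
/-- Regularity from a hyperplane section. -/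
theorem hyperplane {S : ShortComplex X.Modules} (hS : S.ShortExact) (hF : Coh.IsCoh S.X₂)
    (e : S.X₁ ≅ CohB1.tensorMod S.X₂ (twX i (-1))) (h₃ : Coh.IsCoh S.X₃) {m : ℤ}
    (hG : Pic13.IsMRegular k i S.X₃ m) :
    (∀ q, 2 ≤ q → Subsingleton (Coh.HH X (CohB1.tensorMod S.X₂ (twX i (m - 1))) q)) ∧
      Pic13.IsMRegular k i S.X₂
        (m + Module.finrank k (Coh.HH X (CohB1.tensorMod S.X₂ (twX i (m - 1))) 1)) := by
  haveI := ProperFin.Projective.isNoetherian_projSpace (R := k) (n := n)
  haveI : IsLocallyNoetherian X := LocallyOfFiniteType.isLocallyNoetherian i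
  haveI : PreservesFiniteColimits (Scheme.Modules.pushforward i) :=
    DerivedOX.PushExact.preservesFiniteColimits_pushforward i
  haveI : PreservesLimits (Scheme.Modules.pushforward i) :=
    (Scheme.Modules.pullbackPushforwardAdjunction i).rightAdjoint_preservesLimits
  have hGr : ProjKoszul.Regularity.Reg ((Coh.push i).obj S.X₃) m := fun q hq => by
    obtain ⟨E⟩ := nonempty_hh i hi h₃ (m - q) q
    have h' : Subsingleton (Coh.HH X (CohB1.tensorMod S.X₃ (twX i (m - q))) q) := hG q hq
    exact E.injective.subsingleton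
  obtain ⟨h1, -, -, h4⟩ := ProjKoszul.Reg2.hyperplane (hS.map_of_exact (Scheme.Modules.pushforward i))
    (Cyc.Dev.SchemeEquiv.isCoh_push i hF)
    ((Coh.push i).mapIso e ≪≫ pushTwist i S.X₂ (-1)) hGr
  refine ⟨fun q hq => ?_, fun q hq => ?_⟩
  · obtain ⟨E⟩ := nonempty_hh i hi hF (m - 1) q
    have := h1 q (m - 1) hq (by omega)
    exact @Function.Injective.subsingleton _ _ _ E.symm.injective this
  · obtain ⟨E₁⟩ := nonempty_hh i hi hF (m - 1) 1
    rw [← E₁.finrank_eq]
    obtain ⟨E⟩ := nonempty_hh i hi hF ((m + Module.finrank k (Coh.HH (CohB1.ProjSpace n k)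
      (CohB1.tensorMod ((Coh.push i).obj S.X₂) (tw n k (m - 1))) 1)) - q) q
    have := h4 q hq
    exact @Function.Injective.subsingleton _ _ _ E.symm.injective this

include hi in
theorem dim_le : topologicalKrullDim X ≤ ((n + 1 : ℕ) : WithBot ℕ∞) := by
  have h := i.isClosedEmbedding.isInducing.topologicalKrullDim_le
  rw [ProjSpace.Dim.topologicalKrullDim_projSpace_of_field] at h
  exact h.trans (by exact_mod_cast Nat.le_succ n)

variable [IsProper (X ↘ Spec (CommRingCat.of k))]

omit [IsClosedImmersion i] in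
/-- The dimension of a closed set from the points. -/
theorem dim_le_of_pd {T : Set X} (hT : IsClosed T) {d : ℕ} (h : ∀ x ∈ T, Main.pd k x ≤ d) :
    topologicalKrullDim T ≤ d := by
  let f := X ↘ Spec (CommRingCat.of k)
  refine Cyc.DegK.Dim.dim_le_of_forall (Cyc.FieldDim.isDimFun_fdelta (f := f))
    (Cyc.FieldDim.fdelta_nonneg f) hT d fun x hx => ?_
  have h1 := Cyc.FieldDim.topologicalKrullDim_closure f x
  rw [dim_closure (k := k) x] at h1
  have h2 : Main.pd k x = (Cyc.FieldDim.fdelta f x).toNat := by exact_mod_cast h1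
  have := h x hx
  have := Cyc.FieldDim.fdelta_nonneg f x
  omega

omit [IsClosedImmersion i] in
theorem pd_lt_of_dim_lt {T : Set X} (hT : IsClosed T) {d : ℕ}
    (h : topologicalKrullDim T < (d : WithBot ℕ∞)) {x : X} (hx : x ∈ T) : Main.pd k x < d := by
  have h1 := (Devissage.Dim.dim_closure_le hT hx).trans_lt h
  rw [dim_closure (k := k) x] at h1
  exact_mod_cast h1

include hi in
/-- **Uniform regularity and invariance of `χ`.** -/
theorem main [Infinite k] (hO1 : CohB1.IsAmple (twX i 1)) : ∀ (d : ℕ) (G : X.Modules), Coh.IsCoh G →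
    (∀ x ∈ CohB1.support G, Main.pd k x < d) →
    (∃ m : ℤ, ∀ L : X.Modules, NT k (n + 1) L → Pic13.IsMRegular k i (CohB1.tensorMod L G) m) ∧
      ∀ L : X.Modules, NT k (n + 1) L → sym k X (n + 1) [L] G = 0 := by
  haveI := Curves.GlobalSections.isNoetherian_of_proper k X
  have hN := dim_le i hi
  have hfin := Finite.cohFinite k X
  intro d
  induction d with
  | zero =>
    intro G hG hsupp
    have hz : IsZero G := Modules.Support.support_eq_empty_iff.1
      (Set.eq_empty_iff_forall_notMem.2 fun x hx => Nat.not_lt_zero _ (hsupp x hx))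
    refine ⟨⟨0, fun L hL q _ => ?_⟩, fun L hL => Vanish.sym_isZero [L]
      (fun M hM => (List.mem_singleton.1 hM).symm ▸ hL.1) hz⟩
    refine PosLin.CohBound.subsingleton_HH_isZero (k := k) ?_ q
    show IsZero (CohB1.tensorMod (CohB1.tensorMod L G) (twX i ((0 : ℤ) - (q : ℤ))))
    rw [← Modules.Support.support_eq_empty_iff,
      Modules.Support.support_congr (comm (CohB1.tensorMod L G) (twX i ((0 : ℤ) - (q : ℤ)))),
      Twist.support_twist (isInvertible_twX i ((0 : ℤ) - (q : ℤ))),
      Twist.support_twist hL.1, Modules.Support.support_eq_empty_iff]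
    exact hz
  | succ d ih =>
    intro G hG hsupp
    have := hG.2
    have hdimG : topologicalKrullDim (CohB1.support G) ≤ d :=
      dim_le_of_pd (k := k) (Modules.Support.isClosed_support G) fun x hx =>
        Nat.lt_succ_iff.1 (hsupp x hx)
    -- the hyperplane
    let G₁ := CohB1.tensorMod G (twX i (-1))
    have hG₁ : Coh.IsCoh G₁ :=
      PosLin.SectionBound.isCoh_twist_right hG (isInvertible_twX i (-1))
    let Z : Set X := {x | Curv2.IsAssPoint G₁ x} ∪
      Additive.topPts (CohB1.support G) d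
    have hZ : Z.Finite := (UnifReg.Hyperplane.finite_assPoints hG₁).union
      (Additive.finite_topPts (Modules.Support.isClosed_support G) hdimG)
    obtain ⟨s, hs⟩ := UnifReg.Hyperplane.exists_section (n := n) (k := k) (hZ.image i)
    let σ : Coh.structureModule X ⟶ twX i 1 :=
      (PicLoc.pullbackStructureIso i).symm.hom ≫ (Scheme.Modules.pullback i).map s
    have hσ : ∀ x ∈ Z, x ∈ CohB1.genLocus (twX i 1) σ := fun x hx => by
      rw [Ample.GenLocus.genLocus_pullback i (isInvertible_tw 1) s (PicLoc.pullbackStructureIso i).symm]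
      exact hs _ (Set.mem_image_of_mem _ hx)
    let eG : CohB1.tensorMod G₁ (twX i 1) ≅ G :=
      assoc _ _ _ ≪≫ tensorIso (Iso.refl G) (twXAdd i (-1) 1 0 (by norm_num) ≪≫ twXZero i) ≪≫
        rightUnit G
    let φ₀ : G₁ ⟶ CohB1.tensorMod G₁ (twX i 1) := (UnifReg.Hyperplane.mulS σ).app G₁
    haveI : Mono φ₀ := UnifReg.Hyperplane.mono_mulS σ hG₁.1 fun x hx => hσ x (Or.inl hx)
    let φ : G₁ ⟶ G := φ₀ ≫ eG.hom
    haveI : Mono φ := mono_comp _ _
    let S := ShortComplex.mk φ (cokernel.π φ) (cokernel.condition φ)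
    have hS : S.ShortExact := Devissage.Basic.exists_ses_mono φ
    have hD : Coh.IsCoh S.X₃ := CohBasics.Closure.isCoh_cokernel φ hG₁.1 hG
    have hDsupp : ∀ x ∈ CohB1.support S.X₃, Main.pd k x < d := by
      intro x hx
      have hxG : x ∈ CohB1.support G := Modules.Support.support_subset_of_epi (cokernel.π φ) hx
      have hx₀ : x ∈ CohB1.support (cokernel φ₀) :=
        Modules.Support.support_congr (cokernelCompIsIso φ₀ eG.hom) ▸ hx
      obtain ⟨hgen, -⟩ := UnifReg.Hyperplane.support_coker σ G₁ hx₀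
      refine lt_of_le_of_ne (Nat.lt_succ_iff.1 (hsupp x hxG)) fun he => hgen ?_
      exact hσ x (Or.inr ⟨hxG, (dim_closure (k := k) x).trans (congrArg Nat.cast he)⟩)
    obtain ⟨⟨m₁, hm₁⟩, -⟩ := ih S.X₃ hD hDsupp
    -- the sequence twisted by `L`
    have step : ∀ L : X.Modules, NT k (n + 1) L →
        (∀ q, 2 ≤ q → Subsingleton (Coh.HH X
            (CohB1.tensorMod (CohB1.tensorMod L G) (twX i (m₁ - 1))) q)) ∧
          Pic13.IsMRegular k i (CohB1.tensorMod L G) (m₁ + Module.finrank k
            (Coh.HH X (CohB1.tensorMod (CohB1.tensorMod L G) (twX i (m₁ - 1))) 1)) := fun L hL =>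
      hyperplane i hi (Twist.twistSeq_shortExact hL.1 hS) (Twist.isCoh_twist hL.1 hG)
        (assoc _ _ _).symm (Twist.isCoh_twist hL.1 hD) (hm₁ L hL)
    let G₂ := CohB1.tensorMod (twX i (m₁ - 1)) G
    have hG₂ : Coh.IsCoh G₂ := Twist.isCoh_twist (isInvertible_twX i _) hG
    have hdimG₂ : topologicalKrullDim (CohB1.support G₂) ≤ d := by
      rw [Twist.support_twist (isInvertible_twX i _)]; exact hdimG
    have e₂ : ∀ L : X.Modules, CohB1.tensorMod (CohB1.tensorMod L G) (twX i (m₁ - 1)) ≅
        CohB1.tensorMod L G₂ := fun L => assoc _ _ _ ≪≫ tensorIso (Iso.refl L) (comm _ _)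
    obtain ⟨K, hK⟩ := NTBound.exists_bound (k := k) hN hO1 hG₂
    -- `χ = h⁰ - h¹ ≤ h⁰`
    have hchi : ∀ L : X.Modules, NT k (n + 1) L →
        (Module.finrank k (Coh.HH X (CohB1.tensorMod (CohB1.tensorMod L G) (twX i (m₁ - 1))) 1) : ℤ) =
          (h0 k X (CohB1.tensorMod L G₂) : ℤ) - FGA.eulerCharLE k X (CohB1.tensorMod L G₂) (n + 1) := by
      intro L hL
      rw [← Chi.eulerCharLE_of_iso (k := k) (e₂ L), ← h0_congr (e₂ L)]
      unfold FGA.eulerCharLE h0
      rw [Finset.sum_range_succ', Finset.sum_eq_single 0 (fun q _ hq => ?_) (by simp)]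
      · simp
      · have := (step L hL).1 (q + 1) (by omega)
        rw [Module.finrank_zero_of_subsingleton]
        simp
    -- `sym [L]` does not see twists
    have hvanish : ∀ L : X.Modules, NT k (n + 1) L →
        Additive.VanishBelow (sym k X (n + 1) [L]) d := fun L hL F hF hlt =>
      (ih F hF fun x hx => by
        haveI := hF.2
        exact pd_lt_of_dim_lt (k := k) (Modules.Support.isClosed_support F) hlt hx).2 L hL
    have hadd : ∀ L : X.Modules, NT k (n + 1) L → Additive.IsAdd (sym k X (n + 1) [L]) := fun L hL =>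
      Additive.isAdd_sym hfin hN fun M hM => (List.mem_singleton.1 hM).symm ▸ hL.1
    have htw : ∀ L : X.Modules, NT k (n + 1) L → ∀ M : X.Modules, PicF.IsInvertible M →
        ∀ F : X.Modules, Coh.IsCoh F → topologicalKrullDim (CohB1.support F) ≤ d →
          sym k X (n + 1) [L] (CohB1.tensorMod M F) = sym k X (n + 1) [L] F := fun L hL M hM F hF hF' =>
      Additive.twist_eq (hadd L hL) (hvanish L hL) hM hF hF'
    have hsym1 : ∀ (L F : X.Modules), sym k X (n + 1) [L] F =
        FGA.eulerCharLE k X F (n + 1) - FGA.eulerCharLE k X (CohB1.tensorMod L F) (n + 1) :=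
      fun L F => rfl
    -- `χ` is linear in powers, and bounded above
    have hlin : ∀ L : X.Modules, NT k (n + 1) L → ∀ j : ℕ,
        FGA.eulerCharLE k X (CohB1.tensorMod (CohB1.tensorPow L j) G₂) (n + 1) =
          FGA.eulerCharLE k X G₂ (n + 1) - j * sym k X (n + 1) [L] G₂ := by
      intro L hL j
      induction j with
      | zero =>
        have e0 : CohB1.tensorMod (CohB1.tensorPow L 0) G₂ ≅ G₂ := leftUnit G₂
        rw [Chi.eulerCharLE_of_iso (k := k) e0]
        simp
      | succ j ihj =>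
        have e : CohB1.tensorMod (CohB1.tensorPow L (j + 1)) G₂ ≅
            CohB1.tensorMod L (CohB1.tensorMod (CohB1.tensorPow L j) G₂) :=
          tensorIso (comm _ _) (Iso.refl _) ≪≫ assoc _ _ _
        have h1 := htw L hL _ (isInvertible_tensorPow hL.1 j) G₂ hG₂ hdimG₂
        rw [hsym1] at h1
        rw [Chi.eulerCharLE_of_iso (k := k) e]
        push_cast
        linarith
    have hzero₂ : ∀ L : X.Modules, NT k (n + 1) L → sym k X (n + 1) [L] G₂ = 0 := by
      intro L hL
      have hle : ∀ L : X.Modules, NT k (n + 1) L → 0 ≤ sym k X (n + 1) [L] G₂ := by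
        intro L hL
        by_contra hlt
        rw [not_le] at hlt
        set j : ℕ := K + (FGA.eulerCharLE k X G₂ (n + 1)).natAbs + 1 with hj
        have h1 := hchi _ (NTBound.nt_pow (k := k) hN hL j)
        have h2 := hK _ (NTBound.nt_pow (k := k) hN hL j)
        rw [hlin L hL j] at h1
        have h3 : (j : ℤ) ≤ -((j : ℤ) * sym k X (n + 1) [L] G₂) := by
          rw [← mul_neg]
          exact le_mul_of_one_le_right (Int.natCast_nonneg j) (by omega)
        omega
      have hL' := NTBound.nt_inv (k := k) hN hL (isInvertible_dual hL.1) (tensorDualIso hL.1)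
      have h1 := hle L hL
      have h2 := hle _ hL'
      -- the dual has the opposite value
      have h3 := htw L hL _ hL'.1 G₂ hG₂ hdimG₂
      rw [hsym1, hsym1 L G₂,
        Chi.eulerCharLE_of_iso (k := k) ((assoc _ _ _).symm ≪≫
          tensorIso (tensorDualIso hL.1) (Iso.refl G₂) ≪≫ leftUnit G₂)] at h3
      rw [hsym1] at h1 h2 ⊢
      omega
    have hzero : ∀ L : X.Modules, NT k (n + 1) L → sym k X (n + 1) [L] G = 0 := fun L hL =>
      (htw L hL _ (isInvertible_twX i (m₁ - 1)) G hG hdimG).symm.trans (hzero₂ L hL)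
    refine ⟨⟨m₁ + ((K + (FGA.eulerCharLE k X G₂ (n + 1)).natAbs : ℕ) : ℤ), fun L hL q hq => ?_⟩, hzero⟩
    refine subsingleton_of_reg i hi (Twist.isCoh_twist hL.1 hG) (step L hL).2 hq ?_
    have h1 := hchi L hL
    have h2 := hzero₂ L hL
    have h3 := hK L hL
    rw [hsym1] at h2
    push_cast
    have h4 := neg_abs_le (FGA.eulerCharLE k X G₂ (n + 1))
    omega

end Groth.Agent.Lib.Nakai.UnifVan
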