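import Groth.Agent.Lib.ProjMor.Embed
import Groth.Agent.Lib.ProjMor.VeryAmple
import Groth.Agent.Lib.ProjMor.Pieces
import Groth.Agent.Lib.ProjMor.Main
import Groth.Agent.Lib.ProjSpace.Charts
import Groth.Agent.Lib.ZeroCyc99.ProjEmbed
import Groth.Agent.H34.GlobGen

/-!
# Very ample tensor globally generated is very ample
-/

set_option autoImplicit false
set_option linter.style.haveILetI false
noncomputable section

universe u

open CategoryTheory CategoryTheory.Limits AlgebraicGeometry TopologicalSpace Opposite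

namespace Groth.Agent.Lib.Nakai.VeryAmpleGG

open Groth.Agent.Lib TensorMod TensorMod.Pullback TensorMod.Basic TensorMod.Free TensorMod.Gen Ample.GenLocus
  ProjMor.Sec ProjMor.Frame ProjMor.Char

section Affine

variable {B X Z : Scheme.{u}}

/-- `Γ(U ⊓ φ⁻¹W)` is generated by `Γ(U)` and `Γ(W)`. -/
theorem gen_inf_preimage [IsAffine B] (q : X ⟶ B) (p : Z ⟶ B) [IsSeparated p] (φ : X ⟶ Z) (hφ : φ ≫ p = q)
    {U : X.Opens} (hU : IsAffineOpen U) {W : Z.Opens} (hW : IsAffineOpen W)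
    (S : Subring Γ(X, U ⊓ φ ⁻¹ᵁ W))
    (hSU : ∀ a : Γ(X, U), X.presheaf.map (homOfLE (inf_le_left (a := U) (b := φ ⁻¹ᵁ W))).op a ∈ S)
    (hSW : ∀ b : Γ(Z, W), φ.appLE W (U ⊓ φ ⁻¹ᵁ W) inf_le_right b ∈ S) : S = ⊤ := by
  haveI : IsAffine (U : Scheme.{u}) := hU
  haveI : IsAffine (W : Scheme.{u}) := hW
  -- the graph
  let qU := U.ι ≫ q
  let pW := W.ι ≫ p
  have hOW : (U ⊓ φ ⁻¹ᵁ W) ≤ φ ⁻¹ᵁ W := inf_le_right
  have hcomm : X.homOfLE (inf_le_left : (U ⊓ φ ⁻¹ᵁ W) ≤ U) ≫ qU = φ.resLE W (U ⊓ φ ⁻¹ᵁ W) hOW ≫ pW := by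
    simp only [qU, pW, Scheme.homOfLE_ι_assoc, Scheme.Hom.resLE_comp_ι_assoc, hφ]
  have hsq : IsPullback (X.homOfLE (inf_le_left : (U ⊓ φ ⁻¹ᵁ W) ≤ U)) (φ.resLE W (U ⊓ φ ⁻¹ᵁ W) hOW) (U.ι ≫ φ) W.ι := by
    refine ⟨⟨by rw [Scheme.homOfLE_ι_assoc, Scheme.Hom.resLE_comp_ι]⟩, ⟨?_⟩⟩
    refine PullbackCone.IsLimit.mk _ (fun s => IsOpenImmersion.lift (U ⊓ φ ⁻¹ᵁ W).ι (s.fst ≫ U.ι) ?_)
      (fun s => ?_) (fun s => ?_) (fun s m h1 h2 => ?_)
    · rintro _ ⟨t, rfl⟩
      rw [Scheme.Opens.range_ι]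
      refine ⟨(s.fst t).2, ?_⟩
      have h := congr($(s.condition) t)
      show φ ((s.fst ≫ U.ι) t) ∈ W
      rw [show φ ((s.fst ≫ U.ι) t) = (s.snd ≫ W.ι) t from h]
      exact (s.snd t).2
    · rw [← cancel_mono U.ι, Category.assoc, Scheme.homOfLE_ι]
      exact IsOpenImmersion.lift_fac _ _ _
    · rw [← cancel_mono W.ι, Category.assoc, Scheme.Hom.resLE_comp_ι, ← Category.assoc]
      refine (congrArg (· ≫ φ) (IsOpenImmersion.lift_fac _ _ _)).trans ?_
      rw [Category.assoc]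
      exact s.condition
    · rw [← cancel_mono (U ⊓ φ ⁻¹ᵁ W).ι]
      refine Eq.trans ?_ (IsOpenImmersion.lift_fac _ _ _).symm
      rw [← Scheme.homOfLE_ι X (inf_le_left : (U ⊓ φ ⁻¹ᵁ W) ≤ U), ← Category.assoc, h1]
  let P := pullback qU pW
  let γ : ((U ⊓ φ ⁻¹ᵁ W : X.Opens) : Scheme.{u}) ⟶ P := pullback.lift _ _ hcomm
  haveI hγ : IsClosedImmersion γ := by
    have e : γ = hsq.isoPullback.hom ≫
        pullback.mapDesc (U.ι ≫ φ) W.ι p ≫
          pullback.map ((U.ι ≫ φ) ≫ p) (W.ι ≫ p) qU pW (𝟙 _) (𝟙 _) (𝟙 _)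
            (by simp [qU, Category.assoc, hφ]) (by simp [pW]) := by
      apply pullback.hom_ext
      · refine (pullback.lift_fst _ _ _).trans ?_
        rw [Category.assoc, Category.assoc]
        refine Eq.trans ?_ (congrArg (fun t => hsq.isoPullback.hom ≫ pullback.mapDesc (U.ι ≫ φ) W.ι p ≫ t)
          (pullback.lift_fst _ _ _)).symm
        refine Eq.trans ?_ (congrArg (fun t => hsq.isoPullback.hom ≫ t)
          ((pullback.lift_fst_assoc _ _ _ _).trans rfl)).symm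
        simp only [Category.comp_id]
        exact hsq.isoPullback_hom_fst.symm
      · refine (pullback.lift_snd _ _ _).trans ?_
        rw [Category.assoc, Category.assoc]
        refine Eq.trans ?_ (congrArg (fun t => hsq.isoPullback.hom ≫ pullback.mapDesc (U.ι ≫ φ) W.ι p ≫ t)
          (pullback.lift_snd _ _ _)).symm
        refine Eq.trans ?_ (congrArg (fun t => hsq.isoPullback.hom ≫ t)
          ((pullback.lift_snd_assoc _ _ _ _).trans rfl)).symm
        simp only [Category.comp_id]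
        exact hsq.isoPullback_hom_snd.symm
    rw [e]
    infer_instance
  have hsurj : Function.Surjective γ.appTop := by
    exact γ.app_surjective _ (isAffineOpen_top P)
  have hpo : IsPushout qU.appTop pW.appTop (pullback.fst qU pW).appTop (pullback.snd qU pW).appTop :=
    isPushout_appTop_of_isPullback (IsPullback.of_hasPullback qU pW)
  let T : Subring Γ(((U ⊓ φ ⁻¹ᵁ W : X.Opens) : Scheme.{u}), ⊤) := S.map (U ⊓ φ ⁻¹ᵁ W).topIso.inv.hom
  let T' : Subring Γ(P, ⊤) := T.comap γ.appTop.hom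
  have hfst : ∀ a, (pullback.fst qU pW).appTop a ∈ T' := by
    intro a
    show γ.appTop ((pullback.fst qU pW).appTop a) ∈ T
    rw [← ConcreteCategory.comp_apply, ← Scheme.Hom.comp_appTop, pullback.lift_fst]
    obtain ⟨a', rfl⟩ := (ConcreteCategory.bijective_of_isIso U.topIso.inv).2 a
    refine ⟨_, hSU a', ?_⟩
    have e : U.topIso.inv ≫ (X.homOfLE (inf_le_left : (U ⊓ φ ⁻¹ᵁ W) ≤ U)).appTop =
        X.presheaf.map (homOfLE (inf_le_left : (U ⊓ φ ⁻¹ᵁ W) ≤ U)).op ≫ (U ⊓ φ ⁻¹ᵁ W).topIso.inv := by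
      rw [Iso.inv_comp_eq, ← Scheme.Hom.resLE_id]
      refine (Scheme.Hom.resLE_app_top _ _).trans ?_
      simp [Scheme.Hom.appLE]
      erw [Category.id_comp]
    exact (congr($(e) a')).symm
  have hsnd : ∀ b, (pullback.snd qU pW).appTop b ∈ T' := by
    intro b
    show γ.appTop ((pullback.snd qU pW).appTop b) ∈ T
    rw [← ConcreteCategory.comp_apply, ← Scheme.Hom.comp_appTop, pullback.lift_snd]
    obtain ⟨b', rfl⟩ := (ConcreteCategory.bijective_of_isIso W.topIso.inv).2 b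
    refine ⟨_, hSW b', ?_⟩
    have e : W.topIso.inv ≫ (φ.resLE W (U ⊓ φ ⁻¹ᵁ W) hOW).appTop = φ.appLE W (U ⊓ φ ⁻¹ᵁ W) hOW ≫ (U ⊓ φ ⁻¹ᵁ W).topIso.inv := by
      rw [Iso.inv_comp_eq]
      exact Scheme.Hom.resLE_app_top _ _
    exact (congr($(e) b')).symm
  have hT' : T' = ⊤ := by
    let i : CommRingCat.of T' ⟶ Γ(P, ⊤) := CommRingCat.ofHom T'.subtype
    let f₁ : Γ((U : Scheme.{u}), ⊤) ⟶ CommRingCat.of T' :=
      CommRingCat.ofHom ((pullback.fst qU pW).appTop.hom.codRestrict T' hfst)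
    let f₂ : Γ((W : Scheme.{u}), ⊤) ⟶ CommRingCat.of T' :=
      CommRingCat.ofHom ((pullback.snd qU pW).appTop.hom.codRestrict T' hsnd)
    have hf₁ : f₁ ≫ i = (pullback.fst qU pW).appTop := rfl
    have hf₂ : f₂ ≫ i = (pullback.snd qU pW).appTop := rfl
    have hw : qU.appTop ≫ f₁ = pW.appTop ≫ f₂ := by
      haveI : Mono i := ConcreteCategory.mono_of_injective _ Subtype.val_injective
      rw [← cancel_mono i, Category.assoc, Category.assoc, hf₁, hf₂]
      exact hpo.w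
    have hd : hpo.desc f₁ f₂ hw ≫ i = 𝟙 _ := hpo.hom_ext (by simp [hf₁]) (by simp [hf₂])
    refine eq_top_iff.2 fun x _ => ?_
    have h' : ((hpo.desc f₁ f₂ hw x : T') : Γ(P, ⊤)) = x := congr($(hd) x)
    exact h' ▸ (hpo.desc f₁ f₂ hw x).2
  refine eq_top_iff.2 fun z _ => ?_
  obtain ⟨y, hy⟩ := hsurj ((U ⊓ φ ⁻¹ᵁ W).topIso.inv z)
  obtain ⟨z', hz', e⟩ := (show γ.appTop y ∈ T from (show y ∈ T' by rw [hT']; trivial))
  rw [hy] at e
  exact Set.mem_of_eq_of_mem ((ConcreteCategory.bijective_of_isIso (U ⊓ φ ⁻¹ᵁ W).topIso.inv).1 e).symm hz'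

end Affine

section Proj

variable {n : ℕ} {R : Type u} [CommRing R]

/-- The coordinates of `P^n_R`. -/
abbrev el (i : Fin (n + 1)) : CohB1.polyGrading n R 1 :=
  ⟨MvPolynomial.X i, MvPolynomial.isHomogeneous_X R i⟩

/-- The standard chart `D₊(T_i)`. -/
abbrev Dp (i : Fin (n + 1)) : (CohB1.ProjSpace n R).Opens :=
  Proj.basicOpen (CohB1.polyGrading n R) (el (R := R) i).1

theorem isAffineOpen_Dp (i : Fin (n + 1)) : IsAffineOpen (Dp (R := R) i) :=
  Proj.isAffineOpen_basicOpen _ _ (MvPolynomial.isHomogeneous_X R i) one_pos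

/-- A chart is generated by the scalars and the ratios. -/
theorem gen_basicOpen (i : Fin (n + 1))
    (S : Subring Γ(CohB1.ProjSpace n R, Dp (R := R) i))
    (hc : ∀ c, (CohB1.ProjSpace.toSpec n R).appLE ⊤ _ le_top c ∈ S)
    (hfr : ∀ j, fr (CohB1.polyGrading n R) (el i) (el j) ∈ S) : S = ⊤ := by
  let 𝒜 := CohB1.polyGrading n R
  let ε := Proj.awayToSection 𝒜 (MvPolynomial.X i)
  have hsurj : Function.Surjective ε :=
    (Proj.basicOpenIsoAway 𝒜 _ (MvPolynomial.isHomogeneous_X R i) one_pos).commRingCatIsoToRingEquiv.surjective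
  refine eq_top_iff.2 fun z htriv => ?_
  clear htriv
  obtain ⟨w, rfl⟩ := hsurj z
  obtain ⟨p, rfl⟩ := ProjSpace.Charts.fromPoly_surjective i w
  induction p using MvPolynomial.induction_on with
  | C r =>
    have h := RingHom.congr_fun (ZeroCyc99.ProjEmbed.scalOn_str (𝒜 := 𝒜)
      (f := MvPolynomial.X i) (MvPolynomial.isHomogeneous_X R i) one_pos) r
    rw [ProjSpace.Charts.fromPoly_C]
    refine Set.mem_of_eq_of_mem h.symm ?_
    exact hc ((Scheme.ΓSpecIso (CommRingCat.of R)).inv r)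
  | add a b ha hb =>
    rw [map_add, map_add]
    exact add_mem ha hb
  | mul_X a j ha =>
    rw [map_mul, map_mul, ProjSpace.Charts.fromPoly_X]
    refine mul_mem ha (Set.mem_of_eq_of_mem ?_ (hfr j.1))
    refine congrArg ε (HomogeneousLocalization.val_injective _ ?_)
    rw [ProjSpace.Charts.val_coord, HomogeneousLocalization.Away.val_mk]
    exact congrArg (Localization.mk _) (Subtype.ext (pow_one _).symm)

/-- The sections of `M` defining `r`. -/
structure Data {X : Scheme.{u}} (q : X ⟶ Spec (CommRingCat.of R)) (M : X.Modules) (n : ℕ) where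
  r : X ⟶ CohB1.ProjSpace n R
  hr : r ≫ CohB1.ProjSpace.toSpec n R = q
  τ : (Scheme.Modules.pullback r).obj (Twist.twist (CohB1.polyGrading n R) 1) ≅ M
  t : Fin (n + 1) → Γ(M, ⊤)
  ht : ∀ i, τ.hom.app ⊤ (ProjUP.pullSec r (Twist.twist (CohB1.polyGrading n R) 1)
    (g (CohB1.polyGrading n R) (el i))) = t i

namespace Data

variable {X : Scheme.{u}} {q : X ⟶ Spec (CommRingCat.of R)} {M : X.Modules} (D : Data q M n)

theorem cover_proj : ∀ x : ProjectiveSpectrum (CohB1.polyGrading n R),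
    ∃ c : CohB1.polyGrading n R 1, (c : MvPolynomial (Fin (n + 1)) R) ∉ x.asHomogeneousIdeal :=
  ProjMor.Main.cover (ProjMor.Poly.lin_mem n R) (ProjMor.Poly.adjoin_lin n R)

theorem isInvertible_one : PicF.IsInvertible (Twist.twist (CohB1.polyGrading n R) 1) :=
  ProjTilde.Invertible.twist_isInvertible_of_cover (fun x => by
    obtain ⟨c, hc⟩ := cover_proj (n := n) (R := R) x
    exact ⟨c, c.2, hc⟩) 1

theorem locus_eq (i : Fin (n + 1)) :
    locus (D.t i) = D.r ⁻¹ᵁ Dp (R := R) i := by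
  have h1 : locus (g (CohB1.polyGrading n R) (el (R := R) i)) = Dp (R := R) i :=
    locus_g (cover_proj (n := n) (R := R)) (el (R := R) i)
  rw [← h1]
  exact (congrArg locus (D.ht i)).symm.trans ((locus_iso D.τ _).trans (locus_pullback isInvertible_one D.r _))

/-- The pulled back ratios. -/
theorem exists_ratio (i j : Fin (n + 1)) {O : X.Opens}
    (hO : O ≤ D.r ⁻¹ᵁ Dp (R := R) i) :
    gl (D.t j) O = D.r.appLE _ O hO (fr (CohB1.polyGrading n R) (el i) (el j)) • gl (D.t i) O :=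
  ProjMor.Embed.ratio_of_iso (a := el i) (b := el j) D.τ (D.ht i) (D.ht j) hO

/-- A subring with the scalars and the ratios contains the pullback of the chart. -/
theorem appLE_mem (i : Fin (n + 1)) {O : X.Opens}
    (hO : O ≤ D.r ⁻¹ᵁ Dp (R := R) i) (S : Subring Γ(X, O))
    (hc : ∀ c, q.appLE ⊤ O le_top c ∈ S)
    (hfr : ∀ j (a : Γ(X, O)), gl (D.t j) O = a • gl (D.t i) O → a ∈ S) (b) :
    D.r.appLE _ O hO b ∈ S := by
  have h := gen_basicOpen i (S.comap (D.r.appLE _ O hO).hom) (fun c => ?_)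
    (fun j => hfr j _ (D.exists_ratio i j hO))
  · have : b ∈ S.comap (D.r.appLE _ O hO).hom := by rw [h]; trivial
    exact this
  · show D.r.appLE _ O hO _ ∈ S
    refine Set.mem_of_eq_of_mem ?_ (hc c)
    refine (congr($(Scheme.Hom.appLE_comp_appLE D.r (CohB1.ProjSpace.toSpec n R) ⊤ (Dp (R := R) i) O
      le_top hO) c)).trans ?_
    simp only [D.hr]

end Data

end Proj

theorem tmul_smul_left {X : Scheme.{u}} {M N : X.Modules} {U : X.Opens} (c : Γ(X, U)) (m : Γ(M, U))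
    (n : Γ(N, U)) : ProjMor.VeryAmple.tm M N (c • m) n =
      c • (ProjMor.VeryAmple.tm M N m n) := by
  unfold ProjMor.VeryAmple.tm
  rw [← pairM_id, ← pairM_id, pairM_smul_left]

theorem tmul_smul_right {X : Scheme.{u}} {M N : X.Modules} {U : X.Opens} (c : Γ(X, U)) (m : Γ(M, U))
    (n : Γ(N, U)) : ProjMor.VeryAmple.tm M N m (c • n) =
      c • (ProjMor.VeryAmple.tm M N m n) := by
  unfold ProjMor.VeryAmple.tm
  rw [← pairM_id, ← pairM_id, pairM_smul_right]

variable {R : Type u} [CommRing R] {X : Scheme.{u}} {q : X ⟶ Spec (CommRingCat.of R)}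

/-- **Very ample tensor globally generated is very ample.** -/
theorem isRelVeryAmplePn_tensor [IsSeparated q] {A N : X.Modules} {a : ℕ}
    (j : X ⟶ CohB1.ProjSpace a R) [IsClosedImmersion j] (hj : j ≫ CohB1.ProjSpace.toSpec a R = q)
    (eA : A ≅ (Scheme.Modules.pullback j).obj (Twist.twistProjSpace a R 1))
    (hN : PicF.IsInvertible N) (hgg : Curv2.IsGloballyGenerated N) [CompactSpace X] :
    RelAmple.IsRelVeryAmplePn q (CohB1.tensorMod A N) := by
  classical
  have hA : PicF.IsInvertible A := TensorMod.Invertible.isInvertible_of_iso eA.symm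
    (PicLoc.isInvertible_pullback j Data.isInvertible_one)
  let DA : Data q A a := ⟨j, hj, eA.symm, _, fun i => rfl⟩
  -- finitely many generating sections
  have hgen : ∀ x : X, ∃ s : Γ(N, ⊤), x ∈ locus s := fun x => by
    obtain ⟨s, hs⟩ := Ample.GG.exists_genLocus_of_genAt hN
      (show Ample.GG.GenAt N x from H34.GlobGen.gl_eq_top_of_gg hgg x)
    refine ⟨(s.app ⊤) (1 : Γ(X, ⊤)), ?_⟩
    show x ∈ CohB1.genLocus _ _
    rwa [show Modules.Free.unitHom N ((s.app ⊤) (1 : Γ(X, ⊤))) = s from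
      Modules.Free.unitHom_ext (Modules.Free.unitHom_app_one _ _)]
  choose s hs using hgen
  obtain ⟨F, hF⟩ := isCompact_univ.elim_finite_subcover (fun x => (locus (s x) : Set X))
    (fun x => (locus (s x)).isOpen) fun x _ => Set.mem_iUnion.2 ⟨x, hs x⟩
  let b := F.card
  let u : Fin (b + 1) → ProjUP.Γm N := fun l =>
    if h : (l : ℕ) < F.card then s (F.equivFin.symm ⟨l, h⟩ : X) else 0
  have hucov : ∀ x, ∃ l, x ∈ locus (u l) := fun x => by
    obtain ⟨z, hz, hxz⟩ := Set.mem_iUnion₂.1 (hF (Set.mem_univ x))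
    refine ⟨⟨F.equivFin ⟨z, hz⟩, by omega⟩, ?_⟩
    simp only [u, Fin.is_lt, dite_true, Fin.eta, Equiv.symm_apply_apply]
    exact hxz
  obtain ⟨r, hr, τ, hτ⟩ := ProjMor.Poly.exists_map b R q N hN u
    (ProjMor.Embed.generatedBy_of_locus u hucov)
  let DN : Data q N b := ⟨r, hr, τ, u, fun i => hτ i⟩
  -- the products
  let e : Fin ((a + 1) * (b + 1) - 1 + 1) ≃ Fin (a + 1) × Fin (b + 1) :=
    (finCongr (by have := Nat.mul_pos (show 0 < a + 1 by omega) (show 0 < b + 1 by omega); omega)).trans finProdFinEquiv.symm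
  let T : Fin ((a + 1) * (b + 1) - 1 + 1) → ProjUP.Γm (CohB1.tensorMod A N) := fun m =>
    SecTwist.tmul A N ⊤ (DA.t (e m).1) (DN.t (e m).2)
  have hloc : ∀ m, locus (T m) = locus (DA.t (e m).1) ⊓ locus (DN.t (e m).2) := fun m =>
    ProjMor.VeryAmple.locus_tmul hA hN _ _
  have hU : ∀ i, IsAffineOpen (locus (DA.t i)) := fun i => by
    rw [DA.locus_eq]
    exact (isAffineOpen_Dp i).preimage j
  have hOaff : ∀ m, IsAffineOpen (locus (T m)) := fun m => by
    rw [hloc, DN.locus_eq]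
    haveI : IsSeparated (CohB1.ProjSpace.toSpec b R) :=
      (ProjSpace.Basic.isProper_toSpec b R).toIsSeparated
    have hW : IsAffineOpen (Dp (R := R) (e m).2) := isAffineOpen_Dp _
    haveI : IsAffine (locus (DA.t (e m).1) : Scheme.{u}) := hU _
    haveI : IsAffineHom ((locus (DA.t (e m).1)).ι ≫ DN.r) := by
      haveI : IsAffineHom (((locus (DA.t (e m).1)).ι ≫ DN.r) ≫ CohB1.ProjSpace.toSpec b R) :=
        isAffineHom_of_isAffine _
      exact IsAffineHom.of_comp _ (CohB1.ProjSpace.toSpec b R)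
    have h := hW.preimage ((locus (DA.t (e m).1)).ι ≫ DN.r)
    rw [Scheme.Hom.comp_preimage] at h
    have h2 := ((locus (DA.t (e m).1)).ι.isAffineOpen_iff_of_isOpenImmersion).2 h
    rwa [Scheme.Hom.image_preimage_eq_opensRange_inf, Scheme.Opens.opensRange_ι] at h2
  refine ProjMor.Embed.isRelVeryAmplePn_of_sections q _ (Invertible.isInvertible_tensorMod hA hN) T
    Set.univ (fun x => ?_) (fun m _ => hOaff m) (fun _ => ⊤) (fun _ _ => isAffineOpen_top _)
    (fun _ _ => le_top) fun m _ z => ?_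
  · obtain ⟨l, hl⟩ := hucov x
    obtain ⟨i, hi⟩ : ∃ i, x ∈ locus (DA.t i) := by
      obtain ⟨i, hi⟩ := Opens.mem_iSup.1 ((ProjSpace.Basic.iSup_basicOpen_X_eq_top a R).ge
        (Opens.mem_top (j x)))
      exact ⟨i, (DA.locus_eq i).ge hi⟩
    refine ⟨e.symm (i, l), trivial, ?_⟩
    rw [hloc, Equiv.apply_symm_apply]
    exact ⟨hi, hl⟩
  · set O := locus (T m)
    set S := Subring.closure (Set.range (q.appLE ⊤ O le_top).hom ∪
      {c | ∃ m', gl (T m') O = c • gl (T m) O}) with hS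
    have hgl : ∀ m', gl (T m') O = SecTwist.tmul A N O (gl (DA.t (e m').1) O) (gl (DN.t (e m').2) O) :=
      fun m' => ProjMor.VeryAmple.gl_tmul _ _ _
    have hOU : O ≤ locus (DA.t (e m).1) := (hloc m).le.trans inf_le_left
    have hOW : O ≤ locus (DN.t (e m).2) := (hloc m).le.trans inf_le_right
    have hA' : ∀ b', DA.r.appLE _ O (hOU.trans (DA.locus_eq _).le) b' ∈ S :=
      DA.appLE_mem _ _ S (fun c => Subring.subset_closure (Or.inl ⟨c, rfl⟩)) fun i' c hc =>
        Subring.subset_closure (Or.inr ⟨e.symm (i', (e m).2), by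
          rw [hgl, hgl, Equiv.apply_symm_apply]
          simp only []
          rw [hc]
          exact tmul_smul_left c _ _⟩)
    have hN' : ∀ b', DN.r.appLE _ O (hOW.trans (DN.locus_eq _).le) b' ∈ S :=
      DN.appLE_mem _ _ S (fun c => Subring.subset_closure (Or.inl ⟨c, rfl⟩)) fun l' c hc =>
        Subring.subset_closure (Or.inr ⟨e.symm ((e m).1, l'), by
          rw [hgl, hgl, Equiv.apply_symm_apply]
          simp only []
          rw [hc]
          exact tmul_smul_right c _ _⟩)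
    suffices key : ∀ (U₁ W₁ : X.Opens) (hU₁ : U₁ = j ⁻¹ᵁ Dp (R := R) (e m).1)
        (O' : X.Opens) (hO' : O' = U₁ ⊓ DN.r ⁻¹ᵁ Dp (R := R) (e m).2)
        (S' : Subring Γ(X, O')), (∀ b' h, j.appLE _ O' h b' ∈ S') → (∀ b' h, DN.r.appLE _ O' h b' ∈ S') →
        S' = ⊤ by
      have h := key _ ⊤ rfl O (by rw [← DN.locus_eq]; exact (hloc m).trans (by rw [DA.locus_eq])) S
        (fun b' _ => hA' b') (fun b' _ => hN' b')
      rw [h]; trivial
    rintro U₁ - rfl O' rfl S' h1 h2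
    haveI : IsSeparated (CohB1.ProjSpace.toSpec b R) :=
      (ProjSpace.Basic.isProper_toSpec b R).toIsSeparated
    have hWa : IsAffineOpen (Dp (R := R) (e m).2) := isAffineOpen_Dp _
    have hDa : IsAffineOpen (Dp (R := R) (e m).1) := isAffineOpen_Dp _
    refine gen_inf_preimage q (CohB1.ProjSpace.toSpec b R) DN.r DN.hr (hDa.preimage j) hWa S'
      (fun c => ?_) (fun b' => h2 b' _)
    obtain ⟨c', rfl⟩ := j.app_surjective _ hDa c
    rw [Scheme.Hom.app_eq_appLE, ← ConcreteCategory.comp_apply, Scheme.Hom.appLE_map]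
    exact h1 c' _

end Groth.Agent.Lib.Nakai.VeryAmpleGG
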